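/-
An endomorphism of `SL(3, p)` fixing the Hessian generators is the identity.
-/
import Cfsg.Agent.Lib.MaxSub.SLThree.Hess.Grp
import Cfsg.Agent.Lib.StSL.Presentation
import Mathlib.Algebra.CharP.Basic
import Mathlib.LinearAlgebra.Trace

set_option autoImplicit false
set_option maxHeartbeats 1600000
set_option linter.unusedSectionVars false

namespace CfsgLib.MaxSub.SLNine

open Matrix CfsgLib.MaxSub.SLThree.Hess

universe u

variable {F : Type u} [Field F] {ω : F}

local notation "Mn" => Matrix (Fin 3) (Fin 3) F
local notation "SL" => Matrix.SpecialLinearGroup (Fin 3) F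

theorem low_ne (a : Fin 3) : a + 1 ≠ a := by revert a; decide

/-- A root element below the cyclic diagonal. -/
def low (a : Fin 3) (c : F) : Matrix.SpecialLinearGroup (Fin 3) F :=
  Matrix.SpecialLinearGroup.transvection (low_ne a) c

/-- A root element above the cyclic diagonal. -/
def upp (a : Fin 3) (c : F) : Matrix.SpecialLinearGroup (Fin 3) F :=
  Matrix.SpecialLinearGroup.transvection (low_ne a).symm c

theorem low_val (a : Fin 3) (c : F) : (low a c).1 = 1 + Matrix.single (a + 1) a c :=
  Matrix.SpecialLinearGroup.transvection_coe _ _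

theorem upp_val (a : Fin 3) (c : F) : (upp a c).1 = 1 + Matrix.single a (a + 1) c :=
  Matrix.SpecialLinearGroup.transvection_coe _ _

theorem transvection_add_mul {i j : Fin 3} (hij : i ≠ j) (x y : F) :
    Matrix.SpecialLinearGroup.transvection hij x * Matrix.SpecialLinearGroup.transvection hij y =
      Matrix.SpecialLinearGroup.transvection hij (x + y) := by
  refine Subtype.ext ?_
  rw [Matrix.SpecialLinearGroup.coe_mul, Matrix.SpecialLinearGroup.transvection_coe,
    Matrix.SpecialLinearGroup.transvection_coe, Matrix.SpecialLinearGroup.transvection_coe]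
  rw [add_mul, one_mul, mul_add, mul_one, Matrix.single_mul_single_of_ne _ _ _ _ hij.symm, add_zero,
    add_assoc, ← Matrix.single_add, add_comm y x]

theorem transvection_natCast {i j : Fin 3} (hij : i ≠ j) (n : ℕ) :
    Matrix.SpecialLinearGroup.transvection hij ((n : ℕ) : F) =
      Matrix.SpecialLinearGroup.transvection hij (1 : F) ^ n := by
  induction n with
  | zero => rw [Nat.cast_zero, pow_zero]; exact Matrix.SpecialLinearGroup.transvection_coeff_zero hij
  | succ n ih => rw [Nat.cast_succ, ← transvection_add_mul, ih, pow_succ]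

theorem sY_low (a : Fin 3) (c : F) : sY * low a c = low (a + 1) c * sY := by
  refine Subtype.ext ?_
  rw [Matrix.SpecialLinearGroup.coe_mul, Matrix.SpecialLinearGroup.coe_mul, low_val, low_val]
  ext i j
  fin_cases a <;> fin_cases i <;> fin_cases j <;>
    simp [sY, Ym, Matrix.mul_apply, Fin.sum_univ_three, Matrix.single_apply, Matrix.one_apply]

theorem sT_low (a : Fin 3) (c : F) : sT * low a c = upp (-(a + 1)) c * sT := by
  refine Subtype.ext ?_
  obtain ⟨b, hb⟩ : ∃ b, b = -(a + 1) := ⟨_, rfl⟩
  rw [← hb, Matrix.SpecialLinearGroup.coe_mul, Matrix.SpecialLinearGroup.coe_mul, low_val, upp_val]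
  obtain ⟨rfl, rfl⟩ | ⟨rfl, rfl⟩ | ⟨rfl, rfl⟩ : a = 0 ∧ b = 2 ∨ a = 1 ∧ b = 1 ∨ a = 2 ∧ b = 0 := by
    subst hb; revert a; decide
  all_goals
    ext i j
    fin_cases i <;> fin_cases j <;>
      simp [sT, Tm, Matrix.mul_apply, Fin.sum_univ_three, Matrix.single_apply, Matrix.one_apply]

theorem low_commutator (k : Fin 3) (x y : F) :
    low (k + 1) x * low k y = upp (k + 2) (x * y) * (low k y * low (k + 1) x) := by
  refine Subtype.ext ?_
  simp only [Matrix.SpecialLinearGroup.coe_mul, low_val, upp_val]
  ext i j
  fin_cases k <;> fin_cases i <;> fin_cases j <;>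
    simp [Matrix.mul_apply, Fin.sum_univ_three, Matrix.single_apply, Matrix.one_apply] <;>
    (try ring)

/-- A nilpotent matrix supported on one block of two squares to zero. -/
theorem sq_zero_of_block (h2 : (2 : F) ≠ 0) {N : Mn} {a b c : Fin 3} (hab : a ≠ b) (hac : a ≠ c) (hbc : b ≠ c)
    (z1 : N a c = 0) (z2 : N c a = 0) (z3 : N b c = 0) (z4 : N c b = 0) (hN : IsNilpotent N) :
    N * N = 0 := by
  have huniv := (by decide : ∀ a b c : Fin 3, a ≠ b → a ≠ c → b ≠ c →
    (Finset.univ : Finset (Fin 3)) = {a, b, c}) a b c hab hac hbc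
  have hsum : ∀ f : Fin 3 → F, ∑ i, f i = f a + f b + f c := fun f => by
    rw [huniv, Finset.sum_insert (by simp [hab, hac]), Finset.sum_pair hbc, add_assoc]
  have hc0 : N c c = 0 := by
    obtain ⟨m, hm⟩ := hN
    have key : ∀ k : ℕ, (N ^ k) c c = N c c ^ k ∧ (N ^ k) c a = 0 ∧ (N ^ k) c b = 0 := fun k => by
      induction k with
      | zero => simp [Matrix.one_apply, hac.symm, hbc.symm]
      | succ k ih =>
        obtain ⟨e1, e2, e3⟩ := ih
        refine ⟨?_, ?_, ?_⟩ <;> rw [pow_succ, Matrix.mul_apply, hsum, e1, e2, e3]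
        · rw [pow_succ]; simp
        · rw [z2]; simp
        · rw [z4]; simp
    have := (key m).1
    rw [hm, Matrix.zero_apply] at this
    exact eq_zero_of_pow_eq_zero this.symm
  have t1 : N a a + N b b + N c c = 0 := by
    rw [← hsum fun i => N i i]
    exact (Matrix.isNilpotent_trace_of_isNilpotent hN).eq_zero
  have t2 : (N * N) a a + (N * N) b b + (N * N) c c = 0 := by
    rw [← hsum fun i => (N * N) i i]
    exact (Matrix.isNilpotent_trace_of_isNilpotent (hN.pow_of_pos (by norm_num : (2 : ℕ) ≠ 0) |> (pow_two N ▸ ·))).eq_zero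
  simp only [Matrix.mul_apply, hsum, z1, z2, z3, z4, hc0, mul_zero, zero_mul, add_zero] at t2
  rw [hc0, add_zero] at t1
  have hb : N b b = -N a a := by linear_combination t1
  have hq : N a a * N a a + N a b * N b a = 0 := by
    refine (mul_eq_zero.1 (show (2 : F) * (N a a * N a a + N a b * N b a) = 0 from ?_)).resolve_left h2
    rw [hb] at t2
    linear_combination t2
  have key : ∀ i j, i ∈ ({a, b, c} : Finset (Fin 3)) → j ∈ ({a, b, c} : Finset (Fin 3)) → (N * N) i j = 0 := by
    intro i j hi hj
    simp only [Finset.mem_insert, Finset.mem_singleton] at hi hj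
    rw [Matrix.mul_apply, hsum]
    rcases hi with rfl | rfl | rfl <;> rcases hj with rfl | rfl | rfl <;>
      simp only [z1, z2, z3, z4, hc0, hb, mul_zero, zero_mul, add_zero] <;>
      first | linear_combination hq | ring
  ext i j
  exact key i j (huniv ▸ Finset.mem_univ i) (huniv ▸ Finset.mem_univ j)

variable [Fintype F] {p : ℕ} [Fact p.Prime] [CharP F p]

theorem exists_nat (hF : Fintype.card F = p) (c : F) : ∃ n : ℕ, (n : F) = c := by
  have hb : Function.Bijective fun i : Fin p => ((i : ℕ) : F) :=
    (Fintype.bijective_iff_injective_and_card _).2 ⟨fun i j e => Fin.ext <| by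
      have := (CharP.natCast_eq_natCast F p).1 e
      exact Nat.ModEq.eq_of_lt_of_lt this i.2 j.2, by simp [hF]⟩
  obtain ⟨i, hi⟩ := hb.2 c
  exact ⟨i, hi⟩

/-- An injective endomorphism fixing the generators and the involution is the identity. -/
theorem fix_all (hF : Fintype.card F = p) (hp : 5 < p) (h : Root ω) {φ : SL →* SL} (hinj : Function.Injective φ)
    (hX : φ (sX h) = sX h) (hY : φ sY = sY) (hT : φ sT = sT) (S : SL) : φ S = S := by
  classical
  have h2 : (2 : F) ≠ 0 := fun e => by
    have := (CharP.cast_eq_zero_iff F p 2).1 (by exact_mod_cast e)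
    have := Nat.le_of_dvd two_pos this
    omega
  obtain ⟨u, hu⟩ : ∃ u : F, u ∉ ({0, 1, ω, ω * ω} : Finset F) := by
    by_contra! hall
    have := Finset.card_le_card (fun x (_ : x ∈ (Finset.univ : Finset F)) => hall x)
    rw [Finset.card_univ, hF] at this
    have := this.trans Finset.card_le_four
    omega
  simp only [Finset.mem_insert, Finset.mem_singleton, not_or] at hu
  have hu3 : u * u * u ≠ 1 := fun e => by
    rcases h.cases (show u ^ 3 = 1 by rw [← e]; ring) with e' | e' | e'
    exacts [hu.2.1 e', hu.2.2.1 e', hu.2.2.2 e']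
  let d₀ : SL := ⟨Matrix.diagonal ![u, u, (u * u)⁻¹], by
    rw [Matrix.det_diagonal, Fin.prod_univ_three]
    simp
    field_simp [hu.1]⟩
  have hd0X : d₀ * sX h = sX h * d₀ := Subtype.ext (by
    show Matrix.diagonal _ * Xm ω = Xm ω * Matrix.diagonal _
    rw [Xm, Matrix.diagonal_mul_diagonal, Matrix.diagonal_mul_diagonal]
    congr 1; funext i; ring)
  have hd0L : d₀ * low 0 1 = low 0 1 * d₀ := Subtype.ext (by
    rw [Matrix.SpecialLinearGroup.coe_mul, Matrix.SpecialLinearGroup.coe_mul, low_val]
    ext i j
    fin_cases i <;> fin_cases j <;>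
      simp [d₀, Matrix.mul_apply, Fin.sum_univ_three, Matrix.single_apply, Matrix.one_apply])
  set D := φ d₀ with hD
  have hDX : D.1 * Xm ω = Xm ω * D.1 := by
    have := congrArg φ hd0X
    rw [map_mul, map_mul, hX] at this
    exact congrArg Subtype.val this
  set dd : Fin 3 → F := fun i => D.1 i i
  have hDd : D.1 = Matrix.diagonal dd := diag_of_commX h hDX
  have hns : ¬ ∀ i j, dd i = dd j := by
    intro hall
    have hc : ∀ N : SL, D * N = N * D := fun N => Subtype.ext (by
      rw [Matrix.SpecialLinearGroup.coe_mul, Matrix.SpecialLinearGroup.coe_mul, hDd,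
        show Matrix.diagonal dd = dd 0 • (1 : Mn) from by
          rw [Matrix.smul_one_eq_diagonal]; congr 1; funext i; exact hall i 0,
        Matrix.smul_mul, Matrix.mul_smul, one_mul, mul_one])
    have e := hinj (show φ (d₀ * upp 2 1) = φ (upp 2 1 * d₀) by rw [map_mul, map_mul]; exact hc _)
    have e' := congrFun (congrFun (congrArg Subtype.val e) 2) 0
    rw [Matrix.SpecialLinearGroup.coe_mul, Matrix.SpecialLinearGroup.coe_mul] at e'
    simp [d₀, upp_val, Matrix.mul_apply, Fin.sum_univ_three, Matrix.single_apply, Matrix.one_apply] at e'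
    refine hu3 ?_
    field_simp [hu.1] at e'
    linear_combination -e'
  set M := (φ (low 0 1)).1 with hM
  have hDM : ∀ i j, dd i * M i j = M i j * dd j := by
    intro i j
    have := congrArg φ hd0L
    rw [map_mul, map_mul] at this
    have e := congrFun (congrFun (congrArg Subtype.val this) i) j
    rw [Matrix.SpecialLinearGroup.coe_mul, Matrix.SpecialLinearGroup.coe_mul, ← hD, hDd, Matrix.diagonal_mul,
      Matrix.mul_diagonal] at e
    exact e
  have hlp : low 0 (1 : F) ^ p = 1 := by
    show Matrix.SpecialLinearGroup.transvection (low_ne 0) (1 : F) ^ p = 1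
    rw [← transvection_natCast, CharP.cast_eq_zero]
    exact Matrix.SpecialLinearGroup.transvection_coeff_zero _
  have hMp : M ^ p = 1 := by
    rw [hM, ← Matrix.SpecialLinearGroup.coe_pow, ← map_pow, hlp, map_one]
    rfl
  have hMne : M ≠ 1 := fun e => by
    have e' := hinj ((Subtype.ext e : φ (low 0 1) = 1).trans (map_one φ).symm)
    have := congrFun (congrFun (congrArg Subtype.val e') 1) 0
    simp [low_val, Matrix.single_apply, Matrix.one_apply] at this
  obtain ⟨a, b, c, hab, hac, hbc, heq, hne⟩ : ∃ a b c : Fin 3, a ≠ b ∧ a ≠ c ∧ b ≠ c ∧ dd a = dd b ∧ dd a ≠ dd c := by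
    by_cases h01 : dd 0 = dd 1
    · refine ⟨0, 1, 2, by decide, by decide, by decide, h01, fun e => hns fun i j => ?_⟩
      fin_cases i <;> fin_cases j <;> simp [← h01, ← e]
    by_cases h02 : dd 0 = dd 2
    · exact ⟨0, 2, 1, by decide, by decide, by decide, h02, h01⟩
    by_cases h12 : dd 1 = dd 2
    · exact ⟨1, 2, 0, by decide, by decide, by decide, h12, Ne.symm h01⟩
    exfalso
    have hoff : ∀ i j, i ≠ j → M i j = 0 := by
      intro i j hij
      have hd : dd i ≠ dd j := by
        fin_cases i <;> fin_cases j <;> first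
          | exact absurd rfl hij
          | exact h01
          | exact Ne.symm h01
          | exact h02
          | exact Ne.symm h02
          | exact h12
          | exact Ne.symm h12
      exact (mul_eq_zero.1 (show M i j * (dd i - dd j) = 0 by linear_combination hDM i j)).resolve_right
        (sub_ne_zero.2 hd)
    have hMd : M = Matrix.diagonal fun i => M i i := by
      ext i j
      by_cases hij : i = j
      · subst hij; simp
      · rw [Matrix.diagonal_apply_ne _ hij, hoff i j hij]
    refine hMne ?_
    rw [hMd, ← Matrix.diagonal_one]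
    congr 1
    funext i
    have := congrFun (congrFun hMp i) i
    rw [hMd, Matrix.diagonal_pow, Matrix.diagonal_apply_eq, Pi.pow_apply, Matrix.one_apply_eq] at this
    rwa [← hF, FiniteField.pow_card] at this
  have hz : ∀ i j, dd i ≠ dd j → M i j = 0 := fun i j hd =>
    (mul_eq_zero.1 (show M i j * (dd i - dd j) = 0 by linear_combination hDM i j)).resolve_right (sub_ne_zero.2 hd)
  set N := M - 1 with hN
  have hNnil : IsNilpotent N := ⟨p, by
    rw [hN, sub_pow_char_of_commute p (Commute.one_right M), hMp, one_pow, sub_self]⟩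
  have hN2 : N * N = 0 := by
    refine sq_zero_of_block h2 hab hac hbc ?_ ?_ ?_ ?_ hNnil
    · simp [hN, hz a c hne, hac]
    · simp [hN, hz c a (Ne.symm hne), hac.symm]
    · simp [hN, hz b c (heq ▸ hne), hbc]
    · simp [hN, hz c b (Ne.symm (heq ▸ hne)), hbc.symm]
  obtain ⟨n, hn⟩ := exists_nat hF ω
  have hrel : Xm ω * N = ω • (N * Xm ω) := by
    have e0 : sX h * low 0 1 = low 0 1 ^ n * sX h := by
      show _ = Matrix.SpecialLinearGroup.transvection (low_ne 0) (1 : F) ^ n * sX h
      rw [← transvection_natCast, hn]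
      refine Subtype.ext ?_
      rw [Matrix.SpecialLinearGroup.coe_mul, Matrix.SpecialLinearGroup.coe_mul, low_val,
        Matrix.SpecialLinearGroup.transvection_coe]
      ext i j
      fin_cases i <;> fin_cases j <;>
        simp [sX, Xm, Matrix.mul_apply, Fin.sum_univ_three, Matrix.single_apply, Matrix.one_apply]
    have e1 := congrArg φ e0
    rw [map_mul, map_mul, map_pow, hX] at e1
    have e2 := congrArg Subtype.val e1
    rw [Matrix.SpecialLinearGroup.coe_mul, Matrix.SpecialLinearGroup.coe_mul, Matrix.SpecialLinearGroup.coe_pow,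
      ← hM, show (sX h).1 = Xm ω from rfl, show M = 1 + N by rw [hN]; abel] at e2
    have hpow : ∀ k : ℕ, (1 + N) ^ k = 1 + (k : F) • N := fun k => by
      induction k with
      | zero => simp
      | succ k ih =>
        rw [pow_succ, ih, mul_add, mul_one, add_mul, one_mul, Matrix.smul_mul, hN2, smul_zero, add_zero,
          Nat.cast_succ, add_smul, one_smul]
        abel
    rw [hpow, hn, mul_add, mul_one, add_mul, one_mul, Matrix.smul_mul] at e2
    exact add_left_cancel e2
  have hsupp : ∀ i j, N i j ≠ 0 → i = j + 1 := by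
    intro i j hne
    have e := congrFun (congrFun hrel i) j
    rw [Xm, Matrix.diagonal_mul, Matrix.smul_apply, Matrix.mul_diagonal, smul_eq_mul] at e
    have key : (![1, ω, ω * ω] : Fin 3 → F) i - ω * (![1, ω, ω * ω] : Fin 3 → F) j = 0 :=
      (mul_eq_zero.1 (show ((![1, ω, ω * ω] : Fin 3 → F) i - ω * (![1, ω, ω * ω] : Fin 3 → F) j) * N i j = 0 by
        linear_combination e)).resolve_right hne
    have := h.ne_one
    have := h.sq_ne
    have := h.cube
    have := h.ne_zero
    have := h.eq
    fin_cases i <;> fin_cases j <;> first | rfl | (exfalso; simp at key; grind)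
  obtain ⟨k, hk⟩ : ∃ k, N (k + 1) k ≠ 0 := by
    by_contra! hall
    refine hMne ?_
    have : N = 0 := by
      ext i j
      by_contra hne
      rw [hsupp i j hne] at hne
      exact hne (hall j)
    rw [hN, sub_eq_zero] at this
    exact this
  set lam := N (k + 1) k
  have hMlow : φ (low 0 1) = low k lam := by
    refine Subtype.ext ?_
    rw [low_val, ← hM, show M = 1 + N by rw [hN]; abel]
    congr 1
    ext i j
    rw [Matrix.single_apply]
    split_ifs with hij
    · obtain ⟨rfl, rfl⟩ := hij; rfl
    by_contra hne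
    have hij' := hsupp i j hne
    subst hij'
    have hjk : j ≠ k := fun e => hij ⟨by rw [e], e.symm⟩
    -- two consecutive entries contradict the square
    have hsq := congrFun (congrFun hN2 (if j = k + 1 then j + 1 else k + 1)) (if j = k + 1 then k else j)
    rw [Matrix.mul_apply, Fin.sum_univ_three, Matrix.zero_apply] at hsq
    have z : ∀ r s : Fin 3, r ≠ s + 1 → N r s = 0 := fun r s hrs => by_contra fun hh => hrs (hsupp r s hh)
    fin_cases j <;> fin_cases k <;> first
      | exact absurd rfl hjk
      | (simp [z _ _ (by decide : (0 : Fin 3) ≠ 0 + 1), z _ _ (by decide : (0 : Fin 3) ≠ 1 + 1),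
          z _ _ (by decide : (1 : Fin 3) ≠ 1 + 1), z _ _ (by decide : (1 : Fin 3) ≠ 2 + 1),
          z _ _ (by decide : (2 : Fin 3) ≠ 0 + 1), z _ _ (by decide : (2 : Fin 3) ≠ 2 + 1)] at hsq <;>
          (rcases hsq with e | e <;> first | exact hne e | exact hk e))
  have hlow : ∀ a : Fin 3, φ (low a 1) = low (a + k) lam := by
    have step : ∀ a : Fin 3, φ (low a 1) = low (a + k) lam → φ (low (a + 1) 1) = low (a + 1 + k) lam := by
      intro a ha
      have e := congrArg φ (sY_low a (1 : F))
      rw [map_mul, map_mul, hY, ha, sY_low, show a + k + 1 = a + 1 + k by abel] at e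
      exact (mul_right_cancel e).symm
    have h0 : φ (low 0 1) = low (0 + k) lam := by rw [hMlow, zero_add]
    intro a
    fin_cases a
    · exact h0
    · exact step 0 h0
    · exact step 1 (step 0 h0)
  have hupp : ∀ a : Fin 3, φ (upp a 1) = upp (a - k) lam := by
    intro a
    have e := congrArg φ (sT_low (-a - 1) (1 : F))
    rw [map_mul, map_mul, hT, hlow, sT_low, show -(-a - 1 + 1) = a by abel,
      show -(-a - 1 + k + 1) = a - k by abel] at e
    exact (mul_right_cancel e).symm
  have hcomm := congrArg φ (low_commutator (0 : Fin 3) (1 : F) 1)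
  rw [map_mul, map_mul, map_mul, hlow, hlow, mul_one, hupp, zero_add, zero_add, zero_add,
    show (1 : Fin 3) + k = k + 1 by abel, low_commutator k lam lam] at hcomm
  have hR := mul_right_cancel hcomm
  have hk0 : k = 0 ∧ lam = 1 := by
    have e := congrFun (congrFun (congrArg Subtype.val hR) (k + 2)) (k + 2 + 1)
    rw [upp_val, upp_val] at e
    have hl : lam ≠ 0 := hk
    fin_cases k <;> simp [Matrix.single_apply, Matrix.one_apply] at e ⊢
    · exact mul_left_cancel₀ hl (by rw [e, mul_one])
    · exact hl (by first | exact e | exact mul_self_eq_zero.1 e)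
    · exact hl (by first | exact e | exact mul_self_eq_zero.1 e)
  obtain ⟨rfl, hlam⟩ := hk0
  have hfix1 : ∀ (i j : Fin 3) (hij : i ≠ j), φ (Matrix.SpecialLinearGroup.transvection hij (1 : F)) =
      Matrix.SpecialLinearGroup.transvection hij 1 := by
    intro i j hij
    rcases (show i = j + 1 ∨ j = i + 1 by revert i j; decide) with rfl | rfl
    · have := hlow j; rw [add_zero, hlam] at this; exact this
    · have := hupp i; rw [sub_zero, hlam] at this; exact this
  have htop : Subgroup.closure {A : SL | ∃ (i j : Fin 3) (hij : i ≠ j) (t : F),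
      Matrix.SpecialLinearGroup.transvection hij t = A} ≤ φ.eqLocus (MonoidHom.id SL) := by
    rw [Subgroup.closure_le]
    rintro _ ⟨i, j, hij, t, rfl⟩
    obtain ⟨m, rfl⟩ := exists_nat hF t
    show φ _ = _
    rw [MonoidHom.id_apply, transvection_natCast, map_pow, hfix1]
  rw [CfsgLib.StSL.closure_transvection_eq_top (by norm_num)] at htop
  exact htop (Subgroup.mem_top S)

end CfsgLib.MaxSub.SLNine
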