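/-
The Hessian group inside `GL(3, F)`: its normaliser and the dichotomy for overgroups.
-/
import Cfsg.Agent.Lib.MaxSub.SLThree.Hess.Norm
import Cfsg.Agent.S0249

set_option autoImplicit false
set_option maxHeartbeats 800000
set_option linter.unusedSectionVars false

namespace CfsgLib.MaxSub.SLNine

open Matrix CfsgLib.MaxSub.SLThree.Hess

universe u

variable {F : Type u} [Field F] {ω : F}

local notation "G3" => GL (Fin 3) F
local notation "Mn" => Matrix (Fin 3) (Fin 3) F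
local notation "SL" => Matrix.SpecialLinearGroup (Fin 3) F
local notation "P3" => Matrix.ProjectiveSpecialLinearGroup (Fin 3) F

/-- The inclusion of the special linear group. -/
abbrev tG (A : Matrix.SpecialLinearGroup (Fin 3) F) : GL (Fin 3) F := Matrix.SpecialLinearGroup.toGL A

theorem tG_val (A : SL) : (tG A : G3).val = A.1 := rfl

/-- Conjugation of the special linear group. -/
def sconj (A : GL (Fin 3) F) : Matrix.SpecialLinearGroup (Fin 3) F →* Matrix.SpecialLinearGroup (Fin 3) F where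
  toFun M := ⟨A.val * M.1 * (A⁻¹ : GL (Fin 3) F).val, by rw [Matrix.det_units_conj, M.2]⟩
  map_one' := Subtype.ext (show A.val * (1 : Mn) * (A⁻¹ : G3).val = 1 by rw [mul_one, Units.mul_inv])
  map_mul' M N := Subtype.ext (by
    show A.val * (M.1 * N.1) * (A⁻¹ : G3).val = A.val * M.1 * (A⁻¹ : G3).val * (A.val * N.1 * (A⁻¹ : G3).val)
    rw [show A.val * M.1 * (A⁻¹ : G3).val * (A.val * N.1 * (A⁻¹ : G3).val) =
      A.val * M.1 * ((A⁻¹ : G3).val * A.val) * N.1 * (A⁻¹ : G3).val by simp only [mul_assoc],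
      Units.inv_mul, mul_one]
    simp only [mul_assoc])

theorem tG_sconj (A : G3) (M : SL) : tG (sconj A M) = A * tG M * A⁻¹ := Units.ext rfl

theorem sconj_mul (A B : G3) (M : SL) : sconj (A * B) M = sconj A (sconj B M) :=
  Subtype.ext (by
    show (A * B).val * M.1 * ((A * B)⁻¹ : G3).val = A.val * (B.val * M.1 * (B⁻¹ : G3).val) * (A⁻¹ : G3).val
    rw [_root_.mul_inv_rev, Units.val_mul, Units.val_mul]
    simp only [mul_assoc])

theorem sconj_tG (S M : SL) : sconj (tG S) M = S * M * S⁻¹ :=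
  Matrix.SpecialLinearGroup.toGL_injective (by rw [map_mul, map_mul, map_inv]; exact tG_sconj _ _)

theorem sconj_one (M : SL) : sconj (1 : G3) M = M := Subtype.ext (by
  show (1 : G3).val * M.1 * ((1 : G3)⁻¹ : G3).val = M.1
  rw [inv_one, Units.val_one, one_mul, mul_one])

theorem sconj_center (A : G3) {z : SL} (hz : z ∈ Subgroup.center SL) : sconj A z ∈ Subgroup.center SL := by
  refine Subgroup.mem_center_iff.2 fun w => ?_
  have e := congrArg (sconj A) (Subgroup.mem_center_iff.1 hz (sconj A⁻¹ w))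
  rw [map_mul, map_mul, ← sconj_mul, mul_inv_cancel, sconj_one] at e
  exact e

/-- Conjugation of the projective group. -/
def pconj (A : GL (Fin 3) F) :
    Matrix.ProjectiveSpecialLinearGroup (Fin 3) F →* Matrix.ProjectiveSpecialLinearGroup (Fin 3) F :=
  QuotientGroup.map _ _ (sconj A) fun _ hz => Subgroup.mem_comap.2 (sconj_center A hz)

theorem pconj_mk (A : G3) (M : SL) : pconj A (mk M) = mk (sconj A M) := rfl

theorem pconj_mul (A B : G3) (e : P3) : pconj (A * B) e = pconj A (pconj B e) := by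
  obtain ⟨M, rfl⟩ := mk_surj e
  rw [pconj_mk, pconj_mk, pconj_mk, sconj_mul]

theorem pconj_one (e : P3) : pconj (1 : G3) e = e := by
  obtain ⟨M, rfl⟩ := mk_surj e
  rw [pconj_mk, sconj_one]

theorem pconj_tG (S : SL) (e : P3) : pconj (tG S) e = mk S * e * (mk S)⁻¹ := by
  obtain ⟨M, rfl⟩ := mk_surj e
  rw [pconj_mk, sconj_tG, map_mul, map_mul, map_inv]

theorem pconj_injective (A : G3) : Function.Injective (pconj A) := fun a b e => by
  have := congrArg (pconj A⁻¹) e
  rwa [← pconj_mul, ← pconj_mul, inv_mul_cancel, pconj_one, pconj_one] at this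

/-- Normalising the image of the Hessian `3`-group. -/
def Nz (h : Root ω) (A : GL (Fin 3) F) : Prop := pconj A (px h) ∈ E h ∧ pconj A py ∈ E h

theorem Nz.map {h : Root ω} {A : G3} (hA : Nz h A) {e : P3} (he : e ∈ E h) : pconj A e ∈ E h := by
  obtain ⟨i, j, rfl⟩ := (mem_E h).1 he
  rw [map_mul, map_pow, map_pow]
  exact mul_mem (pow_mem hA.1 _) (pow_mem hA.2 _)

theorem Nz.mul {h : Root ω} {A B : G3} (hA : Nz h A) (hB : Nz h B) : Nz h (A * B) :=
  ⟨by rw [pconj_mul]; exact hA.map hB.1, by rw [pconj_mul]; exact hA.map hB.2⟩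

theorem Nz.surj {h : Root ω} [Finite F] {A : G3} (hA : Nz h A) {e : P3} (he : e ∈ E h) :
    ∃ e' ∈ E h, pconj A e' = e := by
  have hle : (E h).map (pconj A) ≤ E h := by
    rintro _ ⟨x, hx, rfl⟩; exact hA.map hx
  have := Subgroup.eq_of_le_of_card_ge hle
    (le_of_eq (Subgroup.card_map_of_injective (K := E h) (pconj_injective A)).symm)
  rw [← this] at he
  exact he

theorem Nz.inv {h : Root ω} [Finite F] {A : G3} (hA : Nz h A) : Nz h A⁻¹ := by
  constructor
  · obtain ⟨e', he', e⟩ := hA.surj (px_mem h)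
    rwa [← e, ← pconj_mul, inv_mul_cancel, pconj_one]
  · obtain ⟨e', he', e⟩ := hA.surj (py_mem h)
    rwa [← e, ← pconj_mul, inv_mul_cancel, pconj_one]

theorem nz_of_norm {h : Root ω} {S : SL} (hS : mk S ∈ Subgroup.normalizer ((E h : Subgroup P3) : Set P3)) :
    Nz h (tG S) :=
  ⟨by rw [pconj_tG]; exact (Subgroup.mem_normalizer_iff.1 hS _).1 (px_mem h),
   by rw [pconj_tG]; exact (Subgroup.mem_normalizer_iff.1 hS _).1 (py_mem h)⟩

/-- A power-free description of the group of order twenty-seven. -/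
def InR (ω : F) (M : Matrix (Fin 3) (Fin 3) F) : Prop :=
  ∃ k i j : ℕ, M = ω ^ k • (Xm ω ^ i * Ym ^ j)

theorem Ym_pow (h : Root ω) (j : ℕ) : Ym * Xm ω ^ j = (ω * ω) ^ j • (Xm ω ^ j * Ym) := by
  induction j with
  | zero => simp
  | succ j ih =>
    have hyx : Ym * Xm ω = (ω * ω) • (Xm ω * Ym) := by
      rw [XY h, smul_smul, show ω * ω * ω = ω ^ 3 by ring, h.cube, one_smul]
    rw [pow_succ, ← mul_assoc, ih, Matrix.smul_mul, mul_assoc, hyx, Matrix.mul_smul, smul_smul, ← mul_assoc (Xm ω ^ j),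
      ← pow_succ (ω * ω), ← pow_succ (Xm ω)]

theorem InR.one : InR ω (1 : Mn) := ⟨0, 0, 0, by simp⟩

theorem InR.mul (h : Root ω) {M N : Mn} (hM : InR ω M) (hN : InR ω N) : InR ω (M * N) := by
  obtain ⟨k, i, j, rfl⟩ := hM
  obtain ⟨l, a, b, rfl⟩ := hN
  have key : ∀ m : ℕ, Ym ^ m * Xm ω ^ a = (ω * ω) ^ (a * m) • (Xm ω ^ a * Ym ^ m) := fun m => by
    induction m with
    | zero => simp
    | succ m ih =>
      rw [pow_succ', mul_assoc, ih, Matrix.mul_smul, ← mul_assoc, Ym_pow h, Matrix.smul_mul, smul_smul,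
        mul_assoc, ← pow_succ', ← pow_add, Nat.mul_succ]
  refine ⟨k + l + 2 * (a * j), i + a, j + b, ?_⟩
  rw [Matrix.smul_mul, Matrix.mul_smul, smul_smul, mul_assoc (Xm ω ^ i), ← mul_assoc (Ym ^ j), key,
    Matrix.smul_mul, Matrix.mul_smul, smul_smul, mul_assoc (Xm ω ^ a), ← pow_add, ← mul_assoc (Xm ω ^ i),
    ← pow_add, ← pow_add]
  congr 1
  rw [← pow_two, ← pow_mul, ← pow_add]

/-- The matrix of a commutation with the generators. -/
theorem scalar_mul_of_comm (h : Root ω) {M : Mn} {a b : ℕ} (hX : M * Xm ω = ω ^ a • (Xm ω * M))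
    (hY : M * Ym = ω ^ b • (Ym * M)) :
    ∃ (c : F) (i j : ℕ), M = c • (Xm ω ^ i * Ym ^ j) := by
  have hXY : Xm ω * Ym = ω • (Ym * Xm ω) := XY h
  have hyx : Ym * Xm ω = (ω * ω) • (Xm ω * Ym) := by
    rw [XY h, smul_smul, show ω * ω * ω = ω ^ 3 by ring, h.cube, one_smul]
  have yp : ∀ m : ℕ, Ym ^ m * Xm ω = (ω * ω) ^ m • (Xm ω * Ym ^ m) := fun m => by
    induction m with
    | zero => simp
    | succ m ih =>
      rw [pow_succ', mul_assoc, ih, Matrix.mul_smul, ← mul_assoc, hyx, Matrix.smul_mul, smul_smul, mul_assoc,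
        ← pow_succ]
  have xp : ∀ m : ℕ, Xm ω ^ m * Ym = ω ^ m • (Ym * Xm ω ^ m) := fun m => by
    induction m with
    | zero => simp
    | succ m ih =>
      rw [pow_succ', mul_assoc, ih, Matrix.mul_smul, ← mul_assoc, hXY, Matrix.smul_mul, smul_smul, mul_assoc,
        ← pow_succ]
  set B := M * (Ym ^ a * Xm ω ^ (2 * b))
  have hB1 : B * Xm ω = Xm ω * B := by
    show M * (Ym ^ a * Xm ω ^ (2 * b)) * Xm ω = Xm ω * (M * (Ym ^ a * Xm ω ^ (2 * b)))
    rw [mul_assoc M, mul_assoc (Ym ^ a), ← pow_succ, pow_succ', ← mul_assoc (Ym ^ a), yp, Matrix.smul_mul,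
      Matrix.mul_smul, mul_assoc (Xm ω), ← mul_assoc M, hX, Matrix.smul_mul, smul_smul, ← mul_pow,
      show ω * ω * ω = ω ^ 3 by ring, h.cube, one_pow, one_smul, mul_assoc]
  have hB2 : B * Ym = Ym * B := by
    show M * (Ym ^ a * Xm ω ^ (2 * b)) * Ym = Ym * (M * (Ym ^ a * Xm ω ^ (2 * b)))
    rw [mul_assoc M, mul_assoc (Ym ^ a), xp, Matrix.mul_smul, Matrix.mul_smul, ← mul_assoc (Ym ^ a), ← pow_succ,
      pow_succ', mul_assoc Ym, ← mul_assoc M, hY, Matrix.smul_mul, smul_smul, ← pow_add,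
      show 2 * b + b = 3 * b by ring, pow_mul, h.cube, one_pow, one_smul, mul_assoc]
  have hs := scalar_of_commXY h hB1 hB2
  refine ⟨B 0 0, b, 2 * a, ?_⟩
  have hY3 : ∀ m : ℕ, (Ym : Mn) ^ (3 * m) = 1 := fun m => by
    rw [pow_mul, show (Ym : Mn) ^ 3 = 1 by rw [pow_three, Ym_cube], one_pow]
  have hX3 : ∀ m : ℕ, Xm ω ^ (3 * m) = 1 := fun m => by
    rw [pow_mul, show Xm ω ^ 3 = 1 by rw [pow_three, Xm_cube h], one_pow]
  calc M = B * (Xm ω ^ b * Ym ^ (2 * a)) := by
        show M = M * (Ym ^ a * Xm ω ^ (2 * b)) * (Xm ω ^ b * Ym ^ (2 * a))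
        rw [mul_assoc, mul_assoc (Ym ^ a), ← mul_assoc (Xm ω ^ (2 * b)), ← pow_add,
          show 2 * b + b = 3 * b by ring, hX3, one_mul, ← pow_add, show a + 2 * a = 3 * a by ring, hY3, mul_one]
    _ = _ := by
        conv_lhs => rw [hs]
        rw [Matrix.smul_mul, one_mul]

theorem W_cube (h : Root ω) (i j : Fin 3) :
    (Xm ω ^ (i : ℕ) * Ym ^ (j : ℕ)) * ((Xm ω ^ (i : ℕ) * Ym ^ (j : ℕ)) * (Xm ω ^ (i : ℕ) * Ym ^ (j : ℕ))) = 1 := by
  have hX2 : Xm ω ^ 2 = Matrix.diagonal ![1, ω * ω, ω] := by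
    rw [pow_two, Xm, Matrix.diagonal_mul_diagonal]
    congr 1
    funext w
    fin_cases w <;> simp
    linear_combination ω * h.cube
  have hY2 : (Ym : Mn) ^ 2 = !![0, 1, 0; 0, 0, 1; 1, 0, 0] := by
    rw [pow_two]
    ext a b
    fin_cases a <;> fin_cases b <;> simp [Ym, Matrix.mul_apply, Fin.sum_univ_three]
  have := h.eq
  fin_cases i <;> fin_cases j <;> simp only [pow_zero, pow_one, one_mul, mul_one, hX2, hY2] <;>
    (ext a b; fin_cases a <;> fin_cases b <;> simp [Xm, Ym, Matrix.mul_apply, Fin.sum_univ_three] <;> grind)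

/-- An element of order three acting trivially on the group of order nine lies in the group of order twenty-seven. -/
theorem inR_of (h : Root ω) {A : G3} (h3 : A * (A * A) = 1) (hx : pconj A (px h) = px h) (hy : pconj A py = py) :
    InR ω A.val := by
  have comm : ∀ S : SL, pconj A (mk S) = mk S → ∃ a : ℕ, A.val * S.1 = ω ^ a • (S.1 * A.val) := by
    intro S hS
    rw [pconj_mk, eq_comm, mk_eq_iff] at hS
    obtain ⟨c, hc, e⟩ := hS
    obtain ⟨a, rfl⟩ : ∃ a : ℕ, c = ω ^ a := by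
      rcases h.cases hc with e | e | e
      exacts [⟨0, by rw [e, pow_zero]⟩, ⟨1, by rw [e, pow_one]⟩, ⟨2, by rw [e, pow_two]⟩]
    refine ⟨a, ?_⟩
    have e' := congrArg (· * A.val) e
    replace e' : A.val * S.1 * (A⁻¹ : G3).val * A.val = ω ^ a • S.1 * A.val := e'
    rwa [mul_assoc, Units.inv_mul, mul_one, Matrix.smul_mul] at e'
  obtain ⟨a, ha⟩ := comm (sX h) hx
  obtain ⟨b, hb⟩ := comm sY hy
  obtain ⟨c, i, j, hc⟩ := scalar_mul_of_comm h ha hb
  have hi : Xm ω ^ i = Xm ω ^ (i % 3) := by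
    conv_lhs => rw [← Nat.mod_add_div i 3, pow_add, pow_mul, show Xm ω ^ 3 = 1 by rw [pow_three, Xm_cube h],
      one_pow, mul_one]
  have hj : (Ym : Mn) ^ j = Ym ^ (j % 3) := by
    conv_lhs => rw [← Nat.mod_add_div j 3, pow_add, pow_mul, show (Ym : Mn) ^ 3 = 1 by rw [pow_three, Ym_cube],
      one_pow, mul_one]
  have e3 : (c * (c * c)) • (1 : Mn) = 1 := by
    have hA : A.val * (A.val * A.val) = 1 := by rw [← Units.val_mul, ← Units.val_mul, h3, Units.val_one]
    rw [hc, hi, hj] at hA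
    simp only [Matrix.smul_mul, Matrix.mul_smul, smul_smul] at hA
    rw [W_cube h ⟨i % 3, Nat.mod_lt _ (by norm_num)⟩ ⟨j % 3, Nat.mod_lt _ (by norm_num)⟩] at hA
    rw [← hA]; congr 1; ring
  have hc3 : c ^ 3 = 1 := by
    have := congrFun (congrFun e3 0) 0
    simp at this
    linear_combination this
  rcases h.cases hc3 with e | e | e
  · exact ⟨0, i, j, by rw [hc, e, pow_zero]⟩
  · exact ⟨1, i, j, by rw [hc, e, pow_one]⟩
  · exact ⟨2, i, j, by rw [hc, e, pow_two]⟩

/-- An element of order three normalising the group of order nine and inverted by the involution is in the group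
of order twenty-seven. -/
theorem inR_of_inverted (h : Root ω) {A : G3} (h3 : A * (A * A) = 1) (hA : Nz h A)
    (ht : tG sT * A * (tG sT)⁻¹ = A⁻¹) : InR ω A.val := by
  have key : ∀ e ∈ E h, pconj A e = e := by
    intro e he
    have h1 : pconj (tG sT * A * (tG sT)⁻¹) e = pconj A e := by
      rw [pconj_mul, pconj_mul]
      have hti : pconj (tG sT : G3)⁻¹ e = e⁻¹ := by
        rw [← map_inv (Matrix.SpecialLinearGroup.toGL), pconj_tG, map_inv, inv_inv]
        have hp : (pt : P3)⁻¹ = pt := inv_eq_of_mul_eq_one_right pt_sq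
        show (pt : P3)⁻¹ * e * pt = e⁻¹
        conv_lhs => rw [hp]; arg 2; rw [← hp]
        exact E_t h he
      rw [hti, map_inv, map_inv, pconj_tG, show mk (sT : SL) = (pt : P3) from rfl, E_t h (hA.map he), inv_inv]
    rw [ht] at h1
    have h2 : pconj A (pconj A e) = e := by
      conv_lhs => rw [← h1, ← pconj_mul, mul_inv_cancel, pconj_one]
    calc pconj A e = pconj A (pconj A (pconj A e)) := by rw [h2]
      _ = e := by rw [← pconj_mul, ← pconj_mul, mul_assoc, h3, pconj_one]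
  exact inR_of h h3 (key _ (px_mem h)) (key _ (py_mem h))

/-- An invariant subgroup of the group of order nine is trivial or everything. -/
theorem E_le_of_inv {h : Root ω} {N : Subgroup P3} (hN : ∀ w ∈ Subgroup.closure ({pf h, pg h} : Set P3),
    ∀ x ∈ N, w * x * w⁻¹ ∈ N) {e : P3} (he : e ∈ E h) (he1 : e ≠ 1) (heN : e ∈ N) : E h ≤ N := by
  obtain ⟨w, hw, hx⟩ := exists_conj h he he1
  have hxN : px h ∈ N := by
    have hwi := (Subgroup.closure ({pf h, pg h} : Set P3)).inv_mem hw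
    rcases hx with e' | e'
    · have := hN _ hwi _ heN
      rwa [e', show w⁻¹ * (w * px h * w⁻¹) * w⁻¹⁻¹ = px h by group] at this
    · have := hN _ hwi _ (N.inv_mem heN)
      rwa [e', show w⁻¹ * (w * px h * w⁻¹) * w⁻¹⁻¹ = px h by group] at this
  intro a ha
  obtain ⟨i, j, rfl⟩ := (mem_E h).1 ha
  have hyN : py ∈ N := by
    have h1 := hN _ (Subgroup.subset_closure (Or.inl rfl)) _ hxN
    rw [f_x] at h1
    have h2 := N.mul_mem h1 h1
    rwa [show (py : P3) * py * (py * py) = py * (py * py) * py by simp only [mul_assoc], py_cube, one_mul] at h2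
  exact mul_mem (pow_mem hxN _) (pow_mem hyN _)

theorem center_le (h : Root ω) {K : Subgroup SL} (hX : sX h ∈ K) (hY : sY ∈ K) : Subgroup.center SL ≤ K := by
  intro z hz
  obtain ⟨r, hr, e⟩ := Matrix.SpecialLinearGroup.mem_center_iff.1 hz
  have hW : (sX h * sY * ((sY : SL) * sX h)⁻¹).1 = ω • (1 : Mn) := by
    rw [val_mul, val_mul, show (sX h).1 * (sY : SL).1 = ω • ((sY : SL).1 * (sX h).1) from XY h, Matrix.smul_mul,
      ← val_mul, ← val_mul, mul_inv_cancel]
    rfl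
  set W := sX h * sY * ((sY : SL) * sX h)⁻¹
  have hWK : W ∈ K := mul_mem (mul_mem hX hY) (inv_mem (mul_mem hY hX))
  obtain ⟨k, hk⟩ : ∃ k : ℕ, r = ω ^ k := by
    rcases h.cases (by simpa using hr) with e | e | e
    exacts [⟨0, by rw [e, pow_zero]⟩, ⟨1, by rw [e, pow_one]⟩, ⟨2, by rw [e, pow_two]⟩]
  have : z = W ^ k := Subtype.ext (by
    rw [Matrix.SpecialLinearGroup.coe_pow, hW, smul_pow, one_pow, ← hk, ← e, Matrix.scalar_apply,
      Matrix.smul_one_eq_diagonal])
  exact this ▸ pow_mem hWK _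

variable [Fintype F]

/-- A group whose special part normalises the group of order nine normalises it. -/
theorem nz_of_special (h : Root ω) (G : Subgroup (GL (Fin 3) F)) (hX : tG (sX h) ∈ G) (hY : tG sY ∈ G)
    (hf : tG (sF h) ∈ G) (hg : tG (sG h) ∈ G)
    (hinv : Inv ((G.comap (Matrix.SpecialLinearGroup.toGL (n := Fin 3) (R := F))).map mk) (E h)) :
    ∀ A ∈ G, Nz h A := by
  classical
  intro A hA
  set K := G.comap (Matrix.SpecialLinearGroup.toGL (n := Fin 3) (R := F)) with hK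
  set Kp := K.map mk with hKp
  have hxK : px h ∈ Kp := ⟨sX h, hX, rfl⟩
  have hyK : py ∈ Kp := ⟨sY, hY, rfl⟩
  have hfK : pf h ∈ Kp := ⟨sF h, hf, rfl⟩
  have hgK : pg h ∈ Kp := ⟨sG h, hg, rfl⟩
  have hEK : E h ≤ Kp := fun e he => by
    obtain ⟨i, j, rfl⟩ := (mem_E h).1 he
    exact mul_mem (pow_mem hxK _) (pow_mem hyK _)
  have hAK : ∀ B ∈ G, ∀ e ∈ Kp, pconj B e ∈ Kp := by
    rintro B hB _ ⟨M, hM, rfl⟩
    refine ⟨sconj B M, ?_, (pconj_mk B M).symm⟩
    show tG (sconj B M) ∈ G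
    rw [tG_sconj]
    exact G.mul_mem (G.mul_mem hB hM) (G.inv_mem hB)
  set E' := (E h).map (pconj A) with hE'
  have hE'K : E' ≤ Kp := by rintro _ ⟨e, he, rfl⟩; exact hAK A hA e (hEK he)
  have hinv' : ∀ w ∈ Kp, ∀ x ∈ E', w * x * w⁻¹ ∈ E' := by
    rintro w hw _ ⟨e, he, rfl⟩
    refine ⟨pconj A⁻¹ w * e * (pconj A⁻¹ w)⁻¹, hinv _ (hAK _ (G.inv_mem hA) w hw) e he, ?_⟩
    rw [map_mul, map_mul, map_inv, ← pconj_mul, mul_inv_cancel, pconj_one]
  have hQK : Subgroup.closure ({pf h, pg h} : Set P3) ≤ Kp := (Subgroup.closure_le _).2 (by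
    rintro v (rfl | rfl) <;> assumption)
  obtain ⟨e, he, he1, heE'⟩ : ∃ e ∈ E h, e ≠ 1 ∧ e ∈ E' := by
    by_contra! hno
    have hxE : pconj A (px h) ∈ E h := by
      refine mem_E_of_commute fun e he => ?_
      have hx' : pconj A (px h) ∈ E' := ⟨_, px_mem h, rfl⟩
      set x := pconj A (px h)
      have h1 : x * e * x⁻¹ * e⁻¹ ∈ E h := mul_mem (hinv x (hE'K hx') e he) (inv_mem he)
      have h2 : x * e * x⁻¹ * e⁻¹ ∈ E' := by
        rw [show x * e * x⁻¹ * e⁻¹ = x * (e * x⁻¹ * e⁻¹) by group]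
        exact mul_mem hx' (hinv' e (hEK he) _ (inv_mem hx'))
      by_contra hne
      exact hno _ h1 (fun h0 => hne (mul_inv_eq_iff_eq_mul.1 (mul_inv_eq_one.1 h0))) h2
    exact hno _ hxE (fun h0 => px_ne_one h (pconj_injective A (h0.trans (map_one _).symm))) ⟨_, px_mem h, rfl⟩
  have hEE : E h ≤ E' := E_le_of_inv (fun w hw => hinv' w (hQK hw)) he he1 heE'
  have heq : E h = E' := Subgroup.eq_of_le_of_card_ge hEE
    (le_of_eq (Subgroup.card_map_of_injective (K := E h) (pconj_injective A)))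
  exact ⟨heq ▸ ⟨_, px_mem h, rfl⟩, heq ▸ ⟨_, py_mem h, rfl⟩⟩

variable {p : ℕ}

/-- An overgroup of the Hessian group contains `SL(3, F)` or normalises its `3`-group. -/
theorem dichotomy [Fact p.Prime] [CharP F p] (hF : Fintype.card F = p) (hp : 5 < p) (h : Root ω)
    (G : Subgroup (GL (Fin 3) F)) (hX : tG (sX h) ∈ G) (hY : tG sY ∈ G) (hf : tG (sF h) ∈ G) (hg : tG (sG h) ∈ G) :
    (∀ S : SL, tG S ∈ G) ∨ ∀ A ∈ G, Nz h A := by
  classical
  set K := G.comap (Matrix.SpecialLinearGroup.toGL (n := Fin 3) (R := F)) with hK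
  set Kp := K.map mk with hKp
  have hxK : px h ∈ Kp := ⟨sX h, hX, rfl⟩
  have hyK : py ∈ Kp := ⟨sY, hY, rfl⟩
  have hfK : pf h ∈ Kp := ⟨sF h, hf, rfl⟩
  have hgK : pg h ∈ Kp := ⟨sG h, hg, rfl⟩
  by_cases htop : Kp = ⊤
  · refine Or.inl fun S => ?_
    obtain ⟨T, hT, e⟩ : mk S ∈ Kp := by rw [htop]; exact Subgroup.mem_top _
    have hz : T⁻¹ * S ∈ Subgroup.center SL := by rw [← QuotientGroup.eq]; exact e
    have := K.mul_mem hT (center_le h (K := K) hX hY hz)
    rwa [mul_inv_cancel_left] at this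
  refine Or.inr (nz_of_special h G hX hY hf hg (normalises hF hp (fun e he => ?_) hfK hgK htop))
  obtain ⟨i, j, rfl⟩ := (mem_E h).1 he
  exact mul_mem (pow_mem hxK _) (pow_mem hyK _)

/-- The transvection does not normalise. -/
theorem exists_not_nz (h : Root ω) : ∃ S : SL, ¬ Nz h (tG S) := by
  let T : SL := ⟨!![1, 1, 0; 0, 1, 0; 0, 0, 1], by simp [Matrix.det_fin_three]⟩
  refine ⟨T, fun hT => ?_⟩
  have h2 := E_comm h (px_mem h) hT.1
  rw [px, pconj_mk, sconj_tG] at h2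
  obtain ⟨c, -, hc⟩ := comm_iff.1 h2
  have e00 := congrFun (congrFun hc 0) 0
  have e01 := congrFun (congrFun hc 0) 1
  simp only [Matrix.SpecialLinearGroup.coe_mul, Matrix.SpecialLinearGroup.coe_inv] at e00 e01
  simp only [Matrix.mul_apply, Fin.sum_univ_three] at e00 e01
  simp [T, sX, Xm, Matrix.adjugate_fin_three, Matrix.vecMul, dotProduct, Fin.sum_univ_three, Matrix.diagonal_mul] at e00 e01
  have hk : (ω - 1) * (ω - 1) = 0 := by
    rw [← e00] at e01
    first | linear_combination e01 | linear_combination -e01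
  exact h.ne_one (sub_eq_zero.1 (mul_self_eq_zero.1 hk))

end CfsgLib.MaxSub.SLNine
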