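/-
The standard `3^(1+4)` in `GL(9, F)`, pieces of its normaliser, and overgroups containing a factor `SL(3, F)`.
-/
import Cfsg.Agent.Lib.MaxSub.SLNine.Factor
import Cfsg.Agent.Lib.MaxSub.TensorPow.Main

set_option autoImplicit false
set_option maxHeartbeats 800000
set_option linter.unusedSectionVars false

namespace CfsgLib.MaxSub.SLNine

open Matrix CfsgLib.MaxSub.SLThree.Hess
open CfsgLib.Aschbacher (pureMat pureGL permGL permMat)
open CfsgLib.MaxSub.TensorPow
open scoped commutatorElement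

universe u

variable {F : Type u} [Field F] {ω : F}

local notation "G3" => GL (Fin 3) F
local notation "GT" => GL (Fin 2 → Fin 3) F
local notation "Mn" => Matrix (Fin 3) (Fin 3) F
local notation "MT" => Matrix (Fin 2 → Fin 3) (Fin 2 → Fin 3) F
local notation "SL" => Matrix.SpecialLinearGroup (Fin 3) F

/-- An invertible scalar. -/
noncomputable def scU {ι : Type} [Fintype ι] [DecidableEq ι] : Fˣ →* GL ι F :=
  Units.map (algebraMap F (Matrix ι ι F)).toMonoidHom

theorem scU_val {ι : Type} [Fintype ι] [DecidableEq ι] (c : Fˣ) :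
    (scU c : GL ι F).val = (c : F) • (1 : Matrix ι ι F) :=
  Algebra.algebraMap_eq_smul_one (c : F)

theorem scU_comm {ι : Type} [Fintype ι] [DecidableEq ι] (c : Fˣ) (g : GL ι F) : scU c * g = g * scU c :=
  Units.ext (by rw [Units.val_mul, Units.val_mul, scU_val, Matrix.smul_mul, Matrix.mul_smul, one_mul, mul_one])

theorem fu_scU (i : Fin 2) (c : Fˣ) : fu i (scU c : G3) = (scU c : GT) :=
  Units.ext (by rw [fu_val, scU_val, scU_val, map_smul, map_one])

theorem fu_tG_det (i : Fin 2) (S : SL) : (fu i (tG S) : GT).val.det = 1 := by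
  rw [fu_val, det_fa]
  show S.1.det ^ _ = 1
  rw [S.2, one_pow]

theorem fa_mul_apply (M N : Mn) (x y : Fin 2 → Fin 3) :
    (fa (0 : Fin 2) M * fa 1 N : MT) x y = M (x 0) (y 0) * N (x 1) (y 1) := by
  rw [fa_eq, fa_eq, CfsgLib.Aschbacher.pureMat_mul, CfsgLib.Aschbacher.pureMat_apply, Fin.prod_univ_two]
  simp [Function.update_apply]

theorem fu_comm (A B : G3) : fu (0 : Fin 2) A * fu 1 B = (fu 1 B * fu 0 A : GT) :=
  Units.ext (by rw [Units.val_mul, Units.val_mul, fu_val, fu_val]; exact fa_commute (by decide) _ _)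

theorem fu_injective (i : Fin 2) : Function.Injective (fu i : G3 → GT) := fun A B e =>
  Units.ext (fa_injective i (by rw [← fu_val, ← fu_val, e]))

/-- A product of the two factors which is scalar has scalar factors. -/
theorem scalar_of_kron {M N : Mn} {c : F} (hc : c ≠ 0)
    (e : (fa (0 : Fin 2) M * fa 1 N : MT) = c • 1) :
    (∃ a : F, M = a • 1) ∧ ∃ a : F, N = a • 1 := by
  have key : ∀ a b a' b', M a a' * N b b' = if a = a' ∧ b = b' then c else 0 := by
    intro a b a' b'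
    have := congrFun (congrFun e ![a, b]) ![a', b']
    rw [fa_mul_apply] at this
    simp only [Matrix.cons_val_zero, Matrix.cons_val_one, Matrix.smul_apply, Matrix.one_apply] at this
    rw [this]
    by_cases hh : a = a' ∧ b = b'
    · rw [if_pos hh, if_pos (by rw [hh.1, hh.2]), smul_eq_mul, mul_one]
    · rw [if_neg hh, if_neg (fun h' => hh ⟨by simpa using congrFun h' 0, by simpa using congrFun h' 1⟩), smul_zero]
  have h00 : M 0 0 * N 0 0 = c := by simpa using key 0 0 0 0
  have hM : M 0 0 ≠ 0 := fun z => hc (by rw [← h00, z, zero_mul])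
  have hN : N 0 0 ≠ 0 := fun z => hc (by rw [← h00, z, mul_zero])
  refine ⟨⟨M 0 0, ?_⟩, ⟨N 0 0, ?_⟩⟩
  · ext i j
    refine mul_right_cancel₀ hN ?_
    rw [key i 0 j 0, Matrix.smul_apply, Matrix.one_apply]
    by_cases hij : i = j
    · subst hij; rw [if_pos ⟨rfl, rfl⟩, if_pos rfl, smul_eq_mul, mul_one, h00]
    · rw [if_neg (fun h' => hij h'.1), if_neg hij, smul_zero, zero_mul]
  · ext i j
    refine mul_left_cancel₀ hM ?_
    rw [key 0 i 0 j, Matrix.smul_apply, Matrix.one_apply]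
    by_cases hij : i = j
    · subst hij; rw [if_pos ⟨rfl, rfl⟩, if_pos rfl, smul_eq_mul, mul_one, h00]
    · rw [if_neg (fun h' => hij h'.2), if_neg hij, smul_zero, mul_zero]

/-- The transposition of the factors, with determinant one. -/
noncomputable def tau : GL (Fin 2 → Fin 3) F := -permGL 3 F (Equiv.swap (0 : Fin 2) 1)

theorem tau_sq : (tau : GT) * tau = 1 := by
  rw [tau, neg_mul_neg, permGL_mul, Equiv.swap_mul_self, permGL_one]

theorem tau_inv : (tau : GT)⁻¹ = tau := inv_eq_of_mul_eq_one_right tau_sq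

theorem tau_conj (i : Fin 2) (A : G3) : tau * fu i A * tau⁻¹ = (fu (Equiv.swap 0 1 i) A : GT) := by
  rw [mul_inv_eq_iff_eq_mul, tau, neg_mul, mul_neg, fu_eq, fu_eq, perm_pure]
  congr 3
  funext j
  fin_cases i <;> fin_cases j <;> simp

theorem tau_zero (A : G3) : tau * fu 0 A * tau⁻¹ = (fu 1 A : GT) := by rw [tau_conj, Equiv.swap_apply_left]

theorem tau_one (A : G3) : tau * fu 1 A * tau⁻¹ = (fu 0 A : GT) := by rw [tau_conj, Equiv.swap_apply_right]

theorem det_tau : (tau : GT).val.det = 1 := by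
  show (-(permGL 3 F (Equiv.swap (0 : Fin 2) 1)).val).det = 1
  rw [Matrix.det_neg, det_permGL, Fintype.card_fun, Fintype.card_fin, Fintype.card_fin]
  have : Equiv.Perm.sign (idxPerm 3 (Equiv.swap (0 : Fin 2) 1)) = -1 := by decide
  rw [this]
  norm_num

/-- The diagonal element mixing the two planes. -/
noncomputable def Wq (h : Root ω) : GL (Fin 2 → Fin 3) F where
  val := Matrix.diagonal fun x => ω ^ ((x 0 : ℕ) * (x 1 : ℕ))
  inv := Matrix.diagonal fun x => (ω ^ ((x 0 : ℕ) * (x 1 : ℕ)))⁻¹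
  val_inv := by
    rw [Matrix.diagonal_mul_diagonal, ← Matrix.diagonal_one]
    congr 1; funext x; exact mul_inv_cancel₀ (pow_ne_zero _ h.ne_zero)
  inv_val := by
    rw [Matrix.diagonal_mul_diagonal, ← Matrix.diagonal_one]
    congr 1; funext x; exact inv_mul_cancel₀ (pow_ne_zero _ h.ne_zero)

theorem det_Wq (h : Root ω) : (Wq h : GT).val.det = 1 := by
  show (Matrix.diagonal fun x : Fin 2 → Fin 3 => ω ^ ((x 0 : ℕ) * (x 1 : ℕ))).det = 1
  rw [Matrix.det_diagonal, Finset.prod_pow_eq_pow_sum,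
    show ∑ x : Fin 2 → Fin 3, (x 0 : ℕ) * (x 1 : ℕ) = 3 * 3 by decide, pow_mul, h.cube, one_pow]

/-- The group `3^(1+4)`. -/
noncomputable def R0 (h : Root ω) : Subgroup (GL (Fin 2 → Fin 3) F) :=
  Subgroup.closure {fu 0 (tG (sX h)), fu 0 (tG sY), fu 1 (tG (sX h)), fu 1 (tG sY)}

theorem Wq_X (h : Root ω) (i : Fin 2) : Wq h * fu i (tG (sX h)) = (fu i (tG (sX h)) * Wq h : GT) := by
  refine Units.ext ?_
  rw [Units.val_mul, Units.val_mul, fu_val]
  show Matrix.diagonal _ * _ = _ * Matrix.diagonal _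
  ext x y
  rw [Matrix.diagonal_mul, Matrix.mul_diagonal, fa_apply]
  by_cases e : x = y
  · subst e; ring
  · split_ifs with hj
    · have : x i ≠ y i := fun e' => e (funext fun j => by by_cases hji : j = i
                                                          · rw [hji, e']
                                                          · exact hj j hji)
      show _ * Xm ω (x i) (y i) = Xm ω (x i) (y i) * _
      rw [Xm, Matrix.diagonal_apply_ne _ this]; ring
    · ring

theorem Wq_Y (h : Root ω) :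
    Wq h * fu 0 (tG sY) = (fu 0 (tG sY) * fu 1 (tG (sX h)) * Wq h : GT) := by
  refine Units.ext ?_
  rw [Units.val_mul, Units.val_mul, Units.val_mul, fu_val, fu_val]
  show Matrix.diagonal _ * _ = _ * Matrix.diagonal _
  ext x y
  rw [Matrix.diagonal_mul, Matrix.mul_diagonal, fa_mul_apply, fa_apply]
  have hj : (∀ j : Fin 2, j ≠ 0 → x j = y j) ↔ x 1 = y 1 := ⟨fun hh => hh 1 (by decide), fun hh j hj => by
    rwa [show j = 1 by revert hj; revert j; decide]⟩
  show _ * (if _ then (Ym : Mn) (x 0) (y 0) else 0) = (Ym : Mn) (x 0) (y 0) * Xm ω (x 1) (y 1) * _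
  simp only [hj]
  generalize x 0 = a, x 1 = b, y 0 = c, y 1 = d
  have := h.eq
  by_cases hbd : b = d
  · subst hbd
    rw [if_pos rfl, Xm, Matrix.diagonal_apply_eq]
    fin_cases a <;> fin_cases b <;> fin_cases c <;> simp [Ym] <;> grind
  · rw [if_neg hbd, Xm, Matrix.diagonal_apply_ne _ hbd]; ring

/-- The element mixing the planes does not respect the two factors. -/
theorem Wq_not_wr (h : Root ω) : Wq h ∉ Cfsg.Geo.tensorWreathStandard 3 2 F := by
  intro hw
  obtain ⟨B, σ, e⟩ := mem_std_iff.1 hw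
  have h1 : Wq h * fu 0 (tG sY) * (Wq h)⁻¹ = (fu 0 (tG sY) * fu 1 (tG (sX h)) : GT) := by
    rw [Wq_Y, mul_inv_cancel_right]
  rw [e, _root_.mul_inv_rev] at h1
  rw [show pureGL B * permGL 3 F σ * fu 0 (tG sY) * ((permGL 3 F σ)⁻¹ * (pureGL B)⁻¹) =
    pureGL B * (permGL 3 F σ * fu 0 (tG sY) * (permGL 3 F σ)⁻¹) * (pureGL B : GT)⁻¹ by simp only [mul_assoc],
    fu_eq, perm_pure, mul_inv_cancel_right, pureGL_inv, pureGL_mul, pureGL_mul] at h1
  have hval := congrArg Units.val h1
  rw [← fu_eq (0 : Fin 2) (tG sY), Units.val_mul, fu_val, fu_val] at hval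
  have hσ : (Function.update (1 : Fin 2 → G3) 0 (tG sY) ∘ σ.symm) = Function.update (1 : Fin 2 → G3) (σ 0) (tG sY) := by
    funext j
    rw [Function.comp_apply, Function.update_apply, Function.update_apply]
    by_cases hj : σ.symm j = 0
    · rw [if_pos hj, if_pos (by rw [← hj, Equiv.apply_symm_apply])]
    · rw [if_neg hj, if_neg (fun e' => hj (by rw [e', Equiv.symm_apply_apply]))]; rfl
  rw [hσ] at hval
  have hC : ∀ j : Fin 2, j ≠ σ 0 → (B * Function.update (1 : Fin 2 → G3) (σ 0) (tG sY) * B⁻¹) j = 1 := by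
    intro j hj
    simp [Function.update_of_ne hj]
  set C := B * Function.update (1 : Fin 2 → G3) (σ 0) (tG sY) * B⁻¹
  have hC' : (pureGL C : GT).val = fa (0 : Fin 2) (C 0).val * fa 1 (C 1).val := by
    ext x y
    rw [fa_mul_apply]
    show pureMat _ x y = _
    rw [CfsgLib.Aschbacher.pureMat_apply, Fin.prod_univ_two]
  rw [hC'] at hval
  have hsc : (fa (0 : Fin 2) ((C 0)⁻¹ * tG sY).val * fa 1 ((C 1)⁻¹ * tG (sX h)).val : MT) = (1 : F) • 1 := by
    rw [one_smul, Units.val_mul, Units.val_mul, map_mul, map_mul,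
      show fa (0 : Fin 2) ((C 0)⁻¹).val * fa 0 (tG sY).val * (fa 1 ((C 1)⁻¹).val * fa 1 (tG (sX h)).val)
        = fa 0 ((C 0)⁻¹).val * (fa (0 : Fin 2) (tG sY).val * fa 1 ((C 1)⁻¹).val) * fa 1 (tG (sX h)).val by
          simp only [mul_assoc],
      (fa_commute (by decide : (0 : Fin 2) ≠ 1) (tG sY).val ((C 1)⁻¹).val).eq,
      show fa (0 : Fin 2) ((C 0)⁻¹).val * (fa 1 ((C 1)⁻¹).val * fa (0 : Fin 2) (tG sY).val) * fa 1 (tG (sX h)).val
        = fa 0 ((C 0)⁻¹).val * fa 1 ((C 1)⁻¹).val * (fa 0 (tG sY).val * fa 1 (tG (sX h)).val) by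
          simp only [mul_assoc],
      ← hval, ← mul_assoc, mul_assoc (fa (0 : Fin 2) ((C 0)⁻¹).val),
      ← (fa_commute (by decide : (0 : Fin 2) ≠ 1) (C 0).val ((C 1)⁻¹).val).eq, ← mul_assoc, ← map_mul,
      Units.inv_mul, map_one, one_mul, ← map_mul, Units.inv_mul, map_one]
  obtain ⟨⟨a₀, ha₀⟩, ⟨a₁, ha₁⟩⟩ := scalar_of_kron one_ne_zero hsc
  rcases (show ∀ k : Fin 2, k = 0 ∨ k = 1 by decide) (σ 0) with hσ0 | hσ0
  · rw [hC 1 (by rw [hσ0]; decide), inv_one, one_mul] at ha₁
    have e1 := congrFun (congrFun ha₁ 1) 1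
    have e0 := congrFun (congrFun ha₁ 0) 0
    change Xm ω 1 1 = _ at e1
    change Xm ω 0 0 = _ at e0
    simp [Xm] at e1 e0
    exact h.ne_one (e1.trans e0.symm)
  · rw [hC 0 (by rw [hσ0]; decide), inv_one, one_mul] at ha₀
    have e1 := congrFun (congrFun ha₀ 1) 0
    change (Ym : Mn) 1 0 = _ at e1
    simp [Ym] at e1

/-- The part of the normaliser that is used. -/
structure HasN (h : Root ω) (H : Subgroup (GL (Fin 2 → Fin 3) F)) : Prop where
  det : ∀ g ∈ H, g.val.det = 1
  X : fu 0 (tG (sX h)) ∈ H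
  Y : fu 0 (tG sY) ∈ H
  f : fu 0 (tG (sF h)) ∈ H
  g : fu 0 (tG (sG h)) ∈ H
  t : tau ∈ H
  w : Wq h ∈ H

variable {h : Root ω} {H : Subgroup (GL (Fin 2 → Fin 3) F)}

theorem HasN.swap (N : HasN h H) {A : G3} (hA : fu 0 A ∈ H) : fu 1 A ∈ H := by
  rw [← tau_zero]; exact H.mul_mem (H.mul_mem N.t hA) (H.inv_mem N.t)

theorem HasN.both (N : HasN h H) {A : G3} (hA : fu 0 A ∈ H) : ∀ i, fu i A ∈ H := by
  intro i
  fin_cases i
  · exact hA
  · exact N.swap hA

theorem HasN.R0_le (N : HasN h H) : R0 h ≤ H := (Subgroup.closure_le _).2 (by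
  rintro _ (rfl | rfl | rfl | rfl)
  exacts [N.X, N.Y, N.swap N.X, N.swap N.Y])

/-- No factor element outside the Hessian normaliser lies in the group. -/
def NotBig (h : Root ω) (H : Subgroup (GL (Fin 2 → Fin 3) F)) : Prop :=
  ∀ (A : GL (Fin 3) F) (c : Fˣ), scU c * fu (0 : Fin 2) A ∈ H → Nz h A

theorem NotBig.one (hb : NotBig h H) (N : HasN h H) {A : G3} {c : Fˣ}
    (hA : scU c * fu (1 : Fin 2) A ∈ H) : Nz h A := by
  refine hb A c ?_
  have := H.mul_mem (H.mul_mem N.t hA) (H.inv_mem N.t)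
  rwa [show tau * (scU c * fu 1 A) * tau⁻¹ = scU c * (tau * fu 1 A * tau⁻¹ : GT) by
    rw [← mul_assoc, ← scU_comm c tau]; simp only [mul_assoc], tau_one] at this

variable [Fintype F] {p : ℕ} [Fact p.Prime] [CharP F p]

/-- A factor element outside the Hessian normaliser gives all transvections. -/
theorem transvections_of_big (hF : Fintype.card F = p) (hp : 5 < p) (N : HasN h H) (hb : ¬ NotBig h H)
    (x y : Fin 2 → Fin 3) (hxy : x ≠ y) (c : F) : ∃ g ∈ H, (g : GT).val = 1 + Matrix.single x y c := by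
  classical
  simp only [NotBig, not_forall] at hb
  obtain ⟨A, a, hA, hnz⟩ := hb
  let G : Subgroup G3 :=
    { carrier := {B | ∃ b : Fˣ, scU b * fu (0 : Fin 2) B ∈ H}
      one_mem' := ⟨1, by rw [map_one, map_one, one_mul]; exact H.one_mem⟩
      mul_mem' := by
        rintro B C ⟨b, hb⟩ ⟨d, hd⟩
        refine ⟨b * d, ?_⟩
        have := H.mul_mem hb hd
        rwa [show scU b * fu 0 B * (scU d * fu 0 C) = scU (b * d) * fu (0 : Fin 2) (B * C) by
          rw [map_mul, map_mul, mul_assoc, ← mul_assoc (fu 0 B), ← scU_comm d (fu 0 B)]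
          simp only [mul_assoc]] at this
      inv_mem' := by
        rintro B ⟨b, hb⟩
        refine ⟨b⁻¹, ?_⟩
        have := H.inv_mem hb
        rwa [_root_.mul_inv_rev, ← map_inv, ← map_inv, ← scU_comm] at this }
  have hmem : ∀ {B : G3}, fu (0 : Fin 2) B ∈ H → B ∈ G := fun hB => ⟨1, by rw [map_one, one_mul]; exact hB⟩
  rcases dichotomy hF hp h G (hmem N.X) (hmem N.Y) (hmem N.f) (hmem N.g) with hall | hno
  swap
  · exact absurd (hno A ⟨a, hA⟩) hnz
  -- the special linear group of the factor lies in the group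
  have hperf : commutator SL = ⊤ := by
    rw [eq_top_iff, ← CfsgLib.StSL.closure_transvection_eq_top (K := F) (n := 3) (by norm_num), Subgroup.closure_le]
    rintro _ ⟨i, j, hij, t, rfl⟩
    rw [commutator_eq_closure]
    exact Subgroup.subset_closure (CfsgLib.SLPerfect.transvection_mem_commutatorSet (by norm_num) hij t)
  have hfac : ∀ S : SL, fu (0 : Fin 2) (tG S) ∈ H := by
    let K : Subgroup SL := H.comap ((fu (0 : Fin 2)).comp Matrix.SpecialLinearGroup.toGL)
    have hK : K = ⊤ := by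
      rw [eq_top_iff, ← hperf, _root_.commutator_def, Subgroup.commutator_le]
      intro S _ T _
      obtain ⟨b, hb⟩ := hall S
      obtain ⟨d, hd⟩ := hall T
      show fu (0 : Fin 2) (tG ⁅S, T⁆) ∈ H
      have := H.mul_mem (H.mul_mem (H.mul_mem hb hd) (H.inv_mem hb)) (H.inv_mem hd)
      rwa [show scU b * fu 0 (tG S) * (scU d * fu 0 (tG T)) * (scU b * fu 0 (tG S))⁻¹ * (scU d * fu 0 (tG T))⁻¹ =
        (fu (0 : Fin 2) (tG ⁅S, T⁆) : GT) by
          rw [commutatorElement_def]
          simp only [map_mul, map_inv, _root_.mul_inv_rev]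
          have c1 := fun (g : GT) => scU_comm b g
          have c2 := fun (g : GT) => scU_comm d g
          generalize fu (0 : Fin 2) (tG S) = s, fu (0 : Fin 2) (tG T) = t
          generalize (scU b : GT) = β, (scU d : GT) = δ at c1 c2
          calc β * s * (δ * t) * (s⁻¹ * β⁻¹) * (t⁻¹ * δ⁻¹)
              = β * (s * δ) * (t * (s⁻¹ * β⁻¹)) * (t⁻¹ * δ⁻¹) := by simp only [mul_assoc]
            _ = β * δ * (s * t * s⁻¹ * (β⁻¹ * t⁻¹)) * δ⁻¹ := by rw [← c2 s]; simp only [mul_assoc]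
            _ = β * δ * (s * t * s⁻¹ * t⁻¹) * (δ⁻¹ * β⁻¹) := by
              rw [show β⁻¹ * t⁻¹ = t⁻¹ * β⁻¹ from (Commute.inv_left (c1 t⁻¹)).eq,
                show (β : GT) * δ * (s * t * s⁻¹ * (t⁻¹ * β⁻¹)) * δ⁻¹
                  = β * δ * (s * t * s⁻¹ * t⁻¹) * (β⁻¹ * δ⁻¹) by simp only [mul_assoc],
                show β⁻¹ * δ⁻¹ = δ⁻¹ * β⁻¹ from (Commute.inv_left (c1 δ⁻¹)).eq]
            _ = s * t * s⁻¹ * t⁻¹ := by
              have c3 : Commute (β * δ) (s * t * s⁻¹ * t⁻¹) := Commute.mul_left (c1 _) (c2 _)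
              rw [c3.eq, ← _root_.mul_inv_rev, mul_inv_cancel_right]] at this
    intro S
    have : S ∈ K := by rw [hK]; exact Subgroup.mem_top _
    exact this
  have hroots : Roots H := fun i s hs => by
    have e : s = tG ⟨s.val, hs⟩ := Units.ext rfl
    rw [e]
    exact N.both (hfac _) i
  rcases wr_or_transvections (le_refl 3) (le_refl 2) hroots (Or.inr le_rfl) with hle | htr
  · exact absurd (hle N.w) (Wq_not_wr h)
  · exact htr x y hxy c

end CfsgLib.MaxSub.SLNine
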