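/-
Elements of order three centralising one Fourier pair, inside a proper overgroup of the normaliser.
-/
import Cfsg.Agent.Lib.MaxSub.SLNine.Basic
import Cfsg.Agent.Lib.MaxSub.SLNine.Auto

set_option autoImplicit false
set_option maxHeartbeats 800000
set_option linter.unusedSectionVars false

namespace CfsgLib.MaxSub.SLNine

open Matrix CfsgLib.MaxSub.SLThree.Hess
open CfsgLib.MaxSub.TensorPow
open scoped commutatorElement

universe u

variable {F : Type u} [Field F] {ω : F}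

local notation "G3" => GL (Fin 3) F
local notation "GT" => GL (Fin 2 → Fin 3) F
local notation "Mn" => Matrix (Fin 3) (Fin 3) F
local notation "MT" => Matrix (Fin 2 → Fin 3) (Fin 2 → Fin 3) F
local notation "SL" => Matrix.SpecialLinearGroup (Fin 3) F
local notation "P3" => Matrix.ProjectiveSpecialLinearGroup (Fin 3) F

/-! ### Generalities in the small group -/

theorem tG_mul (A B : SL) : tG (A * B) = tG A * tG B := map_mul _ A B

theorem tG_inv (A : SL) : tG A⁻¹ = (tG A)⁻¹ := map_inv _ A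

theorem tG_one : tG (1 : SL) = 1 := map_one _

/-- The central scalar. -/
def sZ (h : Root ω) : Matrix.SpecialLinearGroup (Fin 3) F :=
  ⟨ω • 1, by rw [Matrix.det_smul, Fintype.card_fin, Matrix.det_one, h.cube, one_mul]⟩

theorem sZ_pow_val (h : Root ω) (k : ℕ) : (sZ h ^ k).1 = ω ^ k • (1 : Mn) := by
  rw [Matrix.SpecialLinearGroup.coe_pow]
  show (ω • (1 : Mn)) ^ k = _
  rw [smul_pow, one_pow]

theorem sZ_center (h : Root ω) : sZ h ∈ Subgroup.center SL :=
  Subgroup.mem_center_iff.2 fun w => Subtype.ext (by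
    show w.1 * (ω • (1 : Mn)) = ω • (1 : Mn) * w.1
    rw [Matrix.mul_smul, mul_one, Matrix.smul_mul, one_mul])

theorem center_eq_pow (h : Root ω) {z : SL} (hz : z ∈ Subgroup.center SL) :
    z = 1 ∨ z = sZ h ∨ z⁻¹ = sZ h := by
  obtain ⟨r, hr, e⟩ := Matrix.SpecialLinearGroup.mem_center_iff.1 hz
  have e' : z.1 = r • (1 : Mn) := by rw [← e, Matrix.scalar_apply, Matrix.smul_one_eq_diagonal]
  rcases h.cases (by simpa using hr) with c | c | c
  · exact Or.inl (Subtype.ext (by rw [e', c, one_smul]; rfl))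
  · exact Or.inr (Or.inl (Subtype.ext (by rw [e', c]; rfl)))
  · refine Or.inr (Or.inr (inv_eq_of_mul_eq_one_right (Subtype.ext ?_)))
    show z.1 * (ω • (1 : Mn)) = 1
    rw [e', c, Matrix.smul_mul, one_mul, smul_smul, show ω * ω * ω = ω ^ 3 by ring, h.cube, one_smul]

/-- The group of order twenty-seven. -/
def R1 (h : Root ω) : Subgroup (Matrix.SpecialLinearGroup (Fin 3) F) := Subgroup.closure {sX h, sY}

theorem sX_mem (h : Root ω) : sX h ∈ R1 h := Subgroup.subset_closure (Or.inl rfl)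

theorem sY_mem (h : Root ω) : sY ∈ R1 h := Subgroup.subset_closure (Or.inr rfl)

theorem center_le_R1 (h : Root ω) : Subgroup.center SL ≤ R1 h := center_le h (sX_mem h) (sY_mem h)

theorem R1_of_inR (h : Root ω) {A : G3} (hA : InR ω A.val) : ∃ S ∈ R1 h, tG S = A := by
  obtain ⟨k, i, j, e⟩ := hA
  refine ⟨sZ h ^ k * (sX h ^ i * sY ^ j), mul_mem (pow_mem (center_le_R1 h (sZ_center h)) _)
    (mul_mem (pow_mem (sX_mem h) _) (pow_mem (sY_mem h) _)), Units.ext ?_⟩
  rw [tG_val, val_mul, val_mul, sZ_pow_val, Matrix.SpecialLinearGroup.coe_pow, Matrix.SpecialLinearGroup.coe_pow, e,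
    Matrix.smul_mul, one_mul]
  rfl

theorem R1_mk (h : Root ω) {S : SL} (hS : S ∈ R1 h) : (mk S : P3) ∈ E h := by
  have hle : R1 h ≤ (E h).comap mk := (Subgroup.closure_le _).2 (by
    rintro _ (rfl | rfl)
    exacts [px_mem h, py_mem h])
  exact hle hS

theorem R1_comm (h : Root ω) {S T : SL} (hS : S ∈ R1 h) (hT : T ∈ R1 h) : ⁅S, T⁆ ∈ Subgroup.center SL := by
  refine (QuotientGroup.eq_one_iff _).1 (show (mk ⁅S, T⁆ : P3) = 1 from ?_)
  rw [map_commutatorElement, commutatorElement_eq_one_iff_mul_comm]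
  exact E_comm h (R1_mk h hS) (R1_mk h hT)

theorem mem_R1_of_mk (h : Root ω) {S : SL} (hS : (mk S : P3) ∈ E h) : S ∈ R1 h := by
  obtain ⟨i, j, e⟩ := (mem_E h).1 hS
  rw [px, py, ← map_pow, ← map_pow, ← map_mul, eq_comm] at e
  have hz := QuotientGroup.eq.1 e
  have := mul_mem (mul_mem (pow_mem (sX_mem h) (i : ℕ)) (pow_mem (sY_mem h) (j : ℕ))) (center_le_R1 h hz)
  rwa [mul_inv_cancel_left] at this

/-! ### Pairs -/

/-- Projection on the plane. -/
noncomputable def PU : Matrix (Fin 3) (Fin 3) F := (2 : F)⁻¹ • (1 - Tm)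

/-- Projection on the line. -/
noncomputable def PP : Matrix (Fin 3) (Fin 3) F := (2 : F)⁻¹ • (1 + Tm)

theorem PU_PP (h2 : (2 : F) ≠ 0) :
    PU * PU = (PU : Mn) ∧ PP * PP = (PP : Mn) ∧ PU * PP = (0 : Mn) ∧ PP * PU = (0 : Mn) ∧ PU + PP = (1 : Mn) := by
  have e : (2 : F)⁻¹ * (2 : F)⁻¹ * 2 = 2⁻¹ := by rw [mul_assoc, inv_mul_cancel₀ h2, mul_one]
  refine ⟨?_, ?_, ?_, ?_, ?_⟩ <;> simp only [PU, PP, Matrix.smul_mul, Matrix.mul_smul, smul_smul, sub_mul, mul_sub,
    add_mul, mul_add, one_mul, mul_one, Tm_sq, ← smul_sub, ← smul_add]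
  · rw [show (1 : Mn) - Tm - (Tm - 1) = (2 : F) • (1 - Tm) by rw [two_smul]; abel, smul_smul, e]
  · rw [show (1 : Mn) + Tm + (Tm + 1) = (2 : F) • (1 + Tm) by rw [two_smul]; abel, smul_smul, e]
  · rw [show (1 : Mn) - Tm + (Tm - 1) = 0 by abel, smul_zero]
  · rw [show (1 : Mn) + Tm - (Tm + 1) = 0 by abel, smul_zero]
  · rw [show (1 : Mn) - Tm + (1 + Tm) = (2 : F) • 1 by rw [two_smul]; abel, smul_smul,
      inv_mul_cancel₀ h2, one_smul]

/-- The element acting by `b` on the plane and by `b'` on the line. -/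
noncomputable def pairMat (b b' : Matrix (Fin 3) (Fin 3) F) : Matrix (Fin 2 → Fin 3) (Fin 2 → Fin 3) F :=
  fa 0 PU * fa 1 b + fa 0 PP * fa 1 b'

theorem kron_mul (A A' B B' : Mn) :
    (fa (0 : Fin 2) A * fa 1 B * (fa 0 A' * fa 1 B') : MT) = fa 0 (A * A') * fa 1 (B * B') := by
  rw [map_mul, map_mul, mul_assoc (fa (0 : Fin 2) A), ← mul_assoc (fa 1 B),
    ← (fa_commute (by decide : (0 : Fin 2) ≠ 1) A' B).eq]
  simp only [mul_assoc]

theorem pairMat_mul (h2 : (2 : F) ≠ 0) (a a' b b' : Mn) :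
    pairMat a a' * pairMat b b' = (pairMat (a * b) (a' * b') : MT) := by
  obtain ⟨e1, e2, e3, e4, -⟩ := PU_PP h2
  simp only [pairMat, add_mul, mul_add, kron_mul, e1, e2, e3, e4, map_zero, zero_mul, add_zero, zero_add]

theorem pairMat_diag (h2 : (2 : F) ≠ 0) (a : Mn) : (pairMat a a : MT) = fa 1 a := by
  rw [pairMat, ← add_mul, ← map_add, (PU_PP h2).2.2.2.2, map_one, one_mul]

theorem PU_apply (h2 : (2 : F) ≠ 0) : (PU : Mn) 0 0 = 1 ∧ (PP : Mn) 0 0 = 0 ∧ (PU : Mn) 1 1 = 2⁻¹ ∧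
    (PP : Mn) 1 1 = 2⁻¹ := by
  refine ⟨?_, ?_, ?_, ?_⟩ <;> simp [PU, PP, Tm]
  field_simp
  norm_num

theorem pairMat_inj (h2 : (2 : F) ≠ 0) {a a' b b' : Mn} (e : (pairMat a a' : MT) = pairMat b b') :
    a = b ∧ a' = b' := by
  obtain ⟨u0, l0, u1, l1⟩ := PU_apply (F := F) h2
  have key : ∀ i k l, (PU : Mn) i i * a k l + (PP : Mn) i i * a' k l =
      (PU : Mn) i i * b k l + (PP : Mn) i i * b' k l := fun i k l => by
    have := congrFun (congrFun e ![i, k]) ![i, l]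
    simpa [pairMat, Matrix.add_apply, fa_mul_apply] using this
  have ha : a = b := by
    ext k l
    have := key 0 k l
    rwa [u0, l0, one_mul, one_mul, zero_mul, zero_mul, add_zero, add_zero] at this
  refine ⟨ha, ?_⟩
  ext k l
  have := key 1 k l
  rw [ha, u1, l1] at this
  exact mul_left_cancel₀ (inv_ne_zero h2) (add_left_cancel this)

/-- The units of pairs. -/
noncomputable def pairU (h2 : (2 : F) ≠ 0) : GL (Fin 3) F × GL (Fin 3) F →* GL (Fin 2 → Fin 3) F :=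
  (Units.map ({ toFun := fun x => pairMat x.1 x.2
                map_one' := by rw [Prod.fst_one, Prod.snd_one, pairMat_diag h2, map_one]
                map_mul' := fun x y => (pairMat_mul h2 _ _ _ _).symm } :
      Matrix (Fin 3) (Fin 3) F × Matrix (Fin 3) (Fin 3) F →* Matrix (Fin 2 → Fin 3) (Fin 2 → Fin 3) F)).comp
    MulEquiv.prodUnits.symm.toMonoidHom

theorem pairU_val (h2 : (2 : F) ≠ 0) (a b : G3) : (pairU h2 (a, b) : GT).val = pairMat a.val b.val := rfl

theorem pairU_diag (h2 : (2 : F) ≠ 0) (a : G3) : (pairU h2 (a, a) : GT) = fu 1 a :=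
  Units.ext (by rw [pairU_val, fu_val, pairMat_diag h2])

theorem pairU_injective (h2 : (2 : F) ≠ 0) : Function.Injective (pairU h2 : G3 × G3 → GT) := by
  rintro ⟨a, a'⟩ ⟨b, b'⟩ e
  obtain ⟨e1, e2⟩ := pairMat_inj h2 (show (pairMat a.val a'.val : MT) = pairMat b.val b'.val from congrArg Units.val e)
  rw [Units.ext e1, Units.ext e2]

/-- The centraliser of the Fourier pair in the matrix algebra of degree three. -/
theorem commFG_lin (h : Root ω) (h2 : (2 : F) ≠ 0) {D : Mn}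
    (hF : D * Fm ω = Fm ω * D) (hG : D * Gm ω = Gm ω * D) :
    D = D 0 0 • PU + (D 1 1 - D 1 2) • PP := by
  have hT : D * Tm = Tm * D := by rw [← Fm_sq h, ← mul_assoc, hF, mul_assoc, hF, mul_assoc]
  have e : ∀ i j, (D * Tm : Mn) i j = (Tm * D : Mn) i j := fun i j => by rw [hT]
  have t01 := e 0 1; have t10 := e 1 0; have t12 := e 1 2; have t11 := e 1 1
  simp [Tm, Matrix.mul_apply, Fin.sum_univ_three] at t01 t10 t12 t11
  rw [Fm, Matrix.smul_mul, Matrix.mul_smul] at hF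
  rw [Gm, Matrix.smul_mul, Matrix.mul_smul] at hG
  have hF' := smul_right_injective Mn (inv_ne_zero h.sub_ne) hF
  have hG' := smul_right_injective Mn (inv_ne_zero h.sub_ne) hG
  have f00 := congrFun (congrFun hF' 0) 0
  have f01 := congrFun (congrFun hF' 0) 1
  have g00 := congrFun (congrFun hG' 0) 0
  simp [Matrix.mul_apply, Fin.sum_univ_three] at f00 f01 g00
  have hb : D 0 1 = 0 := by
    have : (2 * ω * (1 - ω)) * D 0 1 = 0 := by
      linear_combination g00 - ω * ω * f00 - (ω - ω * ω) * (t01)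
    exact (mul_eq_zero.1 this).resolve_left
      (mul_ne_zero (mul_ne_zero h2 h.ne_zero) (sub_ne_zero.2 h.ne_one.symm))
  have h02 : D 0 2 = 0 := by linear_combination hb + t01
  have h10 : D 1 0 = 0 := by grind
  have h20 : D 2 0 = 0 := by grind
  have h22 : D 2 2 = D 1 1 := by grind
  have h21 : D 2 1 = D 1 2 := by grind
  have h00 : D 0 0 = D 1 1 + D 1 2 := by grind
  ext i j
  fin_cases i <;> fin_cases j <;> simp [PU, PP, Tm, hb, h02, h10, h20, h22, h21, h00] <;> field_simp <;> ring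

theorem exists_pair (h : Root ω) (h2 : (2 : F) ≠ 0) {M : MT} (hF : M * fa 0 (Fm ω) = fa 0 (Fm ω) * M)
    (hG : M * fa 0 (Gm ω) = fa 0 (Gm ω) * M) : ∃ b b' : Mn, M = pairMat b b' := by
  let S : Fin 3 → Fin 3 → Mn := fun k l => Matrix.of fun a c => M ![a, k] ![c, l]
  have hS : ∀ A : Mn, M * fa 0 A = fa 0 A * M → ∀ k l, S k l * A = A * S k l := by
    intro A hA k l
    ext a c
    have := congrFun (congrFun hA ![a, k]) ![c, l]
    rw [show (fa (0 : Fin 2) A : MT) = fa 0 A * fa 1 (1 : Mn) by rw [map_one, mul_one],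
      Matrix.mul_apply, Matrix.mul_apply, ← (finTwoArrowEquiv (Fin 3)).symm.sum_comp,
      ← (finTwoArrowEquiv (Fin 3)).symm.sum_comp, Fintype.sum_prod_type, Fintype.sum_prod_type] at this
    simp only [fa_mul_apply, Matrix.one_apply] at this
    simpa [Matrix.mul_apply, S] using this
  refine ⟨Matrix.of fun k l => S k l 0 0, Matrix.of fun k l => S k l 1 1 - S k l 1 2, ?_⟩
  ext x y
  have e := congrFun (congrFun (commFG_lin h h2 (hS _ hF (x 1) (y 1)) (hS _ hG (x 1) (y 1))) (x 0)) (y 0)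
  have hx : ![x 0, x 1] = x := by funext i; fin_cases i <;> rfl
  have hy : ![y 0, y 1] = y := by funext i; fin_cases i <;> rfl
  rw [show M x y = S (x 1) (y 1) (x 0) (y 0) by simp [S, hx, hy], e]
  simp [pairMat, Matrix.add_apply, fa_mul_apply, mul_comm]

theorem exists_pairU (h : Root ω) (h2 : (2 : F) ≠ 0) {z : GT}
    (hF : z * fu 0 (tG (sF h)) = fu 0 (tG (sF h)) * z) (hG : z * fu 0 (tG (sG h)) = fu 0 (tG (sG h)) * z) :
    ∃ a b : G3, z = pairU h2 (a, b) := by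
  have conv : ∀ {w : GT} {A : SL}, w * fu 0 (tG A) = fu 0 (tG A) * w → w.val * fa 0 A.1 = fa 0 A.1 * w.val :=
    fun {w A} e => by have := congrArg Units.val e; rwa [Units.val_mul, Units.val_mul, fu_val, tG_val] at this
  have hF' : Commute z (fu (0 : Fin 2) (tG (sF h))) := hF
  have hG' : Commute z (fu (0 : Fin 2) (tG (sG h))) := hG
  have eF : z.val * fa 0 (Fm ω) = fa 0 (Fm ω) * z.val := @conv z (sF h) hF
  have eG : z.val * fa 0 (Gm ω) = fa 0 (Gm ω) * z.val := @conv z (sG h) hG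
  have eF' : (z⁻¹ : GT).val * fa 0 (Fm ω) = fa 0 (Fm ω) * (z⁻¹ : GT).val := @conv z⁻¹ (sF h) hF'.inv_left.eq
  have eG' : (z⁻¹ : GT).val * fa 0 (Gm ω) = fa 0 (Gm ω) * (z⁻¹ : GT).val := @conv z⁻¹ (sG h) hG'.inv_left.eq
  obtain ⟨b, b', e⟩ := exists_pair h h2 eF eG
  obtain ⟨c, c', e'⟩ := exists_pair h h2 eF' eG'
  have h1 : (pairMat (b * c) (b' * c') : MT) = pairMat 1 1 := by
    rw [← pairMat_mul h2, ← e, ← e', Units.mul_inv, pairMat_diag h2, map_one]
  have h1' : (pairMat (c * b) (c' * b') : MT) = pairMat 1 1 := by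
    rw [← pairMat_mul h2, ← e, ← e', Units.inv_mul, pairMat_diag h2, map_one]
  obtain ⟨r1, r2⟩ := pairMat_inj h2 h1
  obtain ⟨s1, s2⟩ := pairMat_inj h2 h1'
  refine ⟨⟨b, c, r1, s1⟩, ⟨b', c', r2, s2⟩, Units.ext ?_⟩
  rw [pairU_val]
  exact e

/-! ### The subgroup of pairs -/

theorem inR_fin (h : Root ω) {M : Mn} (hM : InR ω M) :
    ∃ t : Fin 3 × Fin 3 × Fin 3, M = ω ^ (t.1 : ℕ) • (Xm ω ^ (t.2.1 : ℕ) * Ym ^ (t.2.2 : ℕ)) := by
  obtain ⟨k, i, j, rfl⟩ := hM
  refine ⟨(⟨k % 3, Nat.mod_lt _ (by norm_num)⟩, ⟨i % 3, Nat.mod_lt _ (by norm_num)⟩,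
    ⟨j % 3, Nat.mod_lt _ (by norm_num)⟩), ?_⟩
  simp only
  rw [← pow_eq_pow_mod k h.cube, ← pow_eq_pow_mod i (show Xm ω ^ 3 = 1 by rw [pow_three, Xm_cube h]),
    ← pow_eq_pow_mod j (show (Ym : Mn) ^ 3 = 1 by rw [pow_three, Ym_cube])]

section abstract

variable [Fintype F] {p : ℕ} [Fact p.Prime] [CharP F p] {h : Root ω} {Y : Subgroup (GL (Fin 3) F × GL (Fin 3) F)}

/-- The trivial kernel of a big projection. -/
theorem ker_one (hω : ((tG (sZ h), 1) : G3 × G3) ∉ Y) (hall : ∀ S : SL, ∃ b : G3, (tG S, b) ∈ Y) {M : SL}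
    (hM : ((tG M, 1) : G3 × G3) ∈ Y) : M = 1 := by
  let K : Subgroup SL := Y.comap ((MonoidHom.inl G3 G3).comp Matrix.SpecialLinearGroup.toGL)
  have hmem : ∀ {A : SL}, A ∈ K ↔ ((tG A, 1) : G3 × G3) ∈ Y := Iff.rfl
  have hnZ : sZ h ∉ K := fun hz => hω (hmem.1 hz)
  haveI : K.Normal := ⟨fun A hA S => by
    obtain ⟨b, hb⟩ := hall S
    have := Y.mul_mem (Y.mul_mem hb (hmem.1 hA)) (Y.inv_mem hb)
    rw [Prod.mk_mul_mk, Prod.inv_mk, Prod.mk_mul_mk, mul_one, mul_inv_cancel, ← map_inv, ← map_mul, ← map_mul] at this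
    exact hmem.2 this⟩
  haveI : IsSimpleGroup P3 := Cfsg.Agent.S0249.result 3 (by norm_num)
  rcases (Subgroup.Normal.map (H := K) inferInstance mk mk_surj).eq_bot_or_eq_top with hb | ht
  · have hMc : M ∈ Subgroup.center SL := by
      refine (QuotientGroup.eq_one_iff M).1 ?_
      have : mk M ∈ K.map mk := ⟨M, hmem.2 hM, rfl⟩
      rwa [hb, Subgroup.mem_bot] at this
    rcases center_eq_pow h hMc with e | e | e
    · exact e
    · exact absurd (e ▸ hmem.2 hM) hnZ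
    · exact absurd (e ▸ K.inv_mem (hmem.2 hM)) hnZ
  · exfalso
    have hlift : ∀ S : SL, ∃ T ∈ K, T⁻¹ * S ∈ Subgroup.center SL := fun S => by
      obtain ⟨T, hT, e⟩ : mk S ∈ K.map mk := by rw [ht]; exact Subgroup.mem_top _
      exact ⟨T, hT, QuotientGroup.eq.1 e⟩
    obtain ⟨A, hA, hcA⟩ := hlift (sX h)
    obtain ⟨B, hB, hcB⟩ := hlift sY
    have hcomm : ⁅sX h, (sY : SL)⁆ = ⁅A, B⁆ := by
      rw [show sX h = A * (A⁻¹ * sX h) by group, show (sY : SL) = B * (B⁻¹ * sY) by group]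
      generalize A⁻¹ * sX h = c, B⁻¹ * (sY : SL) = d at hcA hcB ⊢
      have e1 : ∀ w : SL, c * w = w * c := fun w => (Subgroup.mem_center_iff.1 hcA w).symm
      have e2 : ∀ w : SL, d * w = w * d := fun w => (Subgroup.mem_center_iff.1 hcB w).symm
      rw [commutatorElement_def, commutatorElement_def, _root_.mul_inv_rev, _root_.mul_inv_rev,
        show A * c * (B * d) * (c⁻¹ * A⁻¹) * (d⁻¹ * B⁻¹) = A * (c * (B * d)) * c⁻¹ * (A⁻¹ * d⁻¹) * B⁻¹ by
          simp only [mul_assoc], e1, show A * (B * d * c) * c⁻¹ = A * B * d by group,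
        show A⁻¹ * d⁻¹ = d⁻¹ * A⁻¹ from (Commute.inv_right (Commute.inv_left (e2 A : Commute d A))).eq.symm]
      group
    have hZ : ⁅sX h, (sY : SL)⁆ = sZ h := by
      rw [commutatorElement_def]
      refine mul_inv_eq_iff_eq_mul.2 (mul_inv_eq_iff_eq_mul.2 (Subtype.ext ?_))
      rw [val_mul, val_mul, val_mul, show (sX h).1 * (sY : SL).1 = ω • ((sY : SL).1 * (sX h).1) from XY h]
      show _ = ω • (1 : Mn) * (sY : SL).1 * (sX h).1
      rw [Matrix.smul_mul, one_mul, Matrix.smul_mul]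
    refine hnZ ?_
    rw [← hZ, hcomm, commutatorElement_def]
    exact K.mul_mem (K.mul_mem (K.mul_mem hA hB) (K.inv_mem hA)) (K.inv_mem hB)

/-- A big projection makes the other one big. -/
theorem big_small_false (hF : Fintype.card F = p) (hp : 5 < p) (hω : ((tG (sZ h), 1) : G3 × G3) ∉ Y)
    (hall : ∀ S : SL, ∃ b : G3, (tG S, b) ∈ Y) (hX : ((tG (sX h), tG (sX h)) : G3 × G3) ∈ Y)
    (hsmall : ∀ a b : G3, (a, b) ∈ Y → Nz h b) : False := by
  let low2 : F × F → SL := fun c => ⟨!![1, 0, 0; c.1, 1, 0; c.2, 0, 1], by simp [Matrix.det_fin_three]⟩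
  choose b hb using hall
  have hi : ∀ c, InR ω (sconj (b (low2 c)) (sX h)).1 := fun c => by
    obtain ⟨i, j, e⟩ := (mem_E h).1 (hsmall _ _ (hb (low2 c))).1
    rw [px, py, pconj_mk, ← map_pow, ← map_pow, ← map_mul, eq_comm, mk_eq_iff] at e
    obtain ⟨a, ha, e⟩ := e
    obtain ⟨k, rfl⟩ : ∃ k : ℕ, a = ω ^ k := by
      rcases h.cases ha with e | e | e
      exacts [⟨0, by rw [e, pow_zero]⟩, ⟨1, by rw [e, pow_one]⟩, ⟨2, by rw [e, pow_two]⟩]
    refine ⟨k, i, j, ?_⟩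
    rw [e, val_mul, Matrix.SpecialLinearGroup.coe_pow, Matrix.SpecialLinearGroup.coe_pow]
    rfl
  choose f hf using fun c => inR_fin h (hi c)
  have hinj : Function.Injective f := by
    intro c d hcd
    have e : sconj (b (low2 c)) (sX h) = sconj (b (low2 d)) (sX h) :=
      Subtype.ext (by rw [hf c, hf d, hcd])
    have mem : ∀ c, ((tG (low2 c * sX h * (low2 c)⁻¹), tG (sconj (b (low2 c)) (sX h))) : G3 × G3) ∈ Y := fun c => by
      have := Y.mul_mem (Y.mul_mem (hb (low2 c)) hX) (Y.inv_mem (hb (low2 c)))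
      refine Eq.subst (motive := fun x => x ∈ Y) (Prod.ext ?_ ?_) this
      · show tG (low2 c) * tG (sX h) * (tG (low2 c))⁻¹ = tG (low2 c * sX h * (low2 c)⁻¹)
        rw [← map_inv, ← map_mul, ← map_mul]
      · exact (tG_sconj _ _).symm
    have h1 := Y.mul_mem (mem c) (Y.inv_mem (mem d))
    rw [e, Prod.inv_mk, Prod.mk_mul_mk, mul_inv_cancel, ← map_inv, ← map_mul] at h1
    have h2 := mul_inv_eq_one.1 (ker_one hω (fun S => ⟨b S, hb S⟩) h1)
    have h3 : low2 c * sX h * (low2 c)⁻¹ * low2 d = low2 d * sX h := by rw [h2, inv_mul_cancel_right]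
    have h4 : (low2 c).1 * (sX h).1 * ((low2 c)⁻¹ * low2 d).1 = (low2 d).1 * (sX h).1 := by
      rw [← val_mul, ← val_mul, ← val_mul, ← h3]; simp only [mul_assoc]
    have h5 : (low2 c)⁻¹ * low2 d = ⟨!![1, 0, 0; d.1 - c.1, 1, 0; d.2 - c.2, 0, 1],
        by simp [Matrix.det_fin_three]⟩ := by
      refine inv_mul_eq_iff_eq_mul.2 (Subtype.ext ?_)
      show (low2 d).1 = (low2 c).1 * !![1, 0, 0; d.1 - c.1, 1, 0; d.2 - c.2, 0, 1]
      ext i j
      fin_cases i <;> fin_cases j <;> simp [low2, Matrix.mul_apply, Fin.sum_univ_three]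
    rw [h5] at h4
    have e10 := congrFun (congrFun h4 1) 0
    have e20 := congrFun (congrFun h4 2) 0
    simp [low2, sX, Xm, Matrix.vecMul_diagonal, Matrix.mul_apply, Fin.sum_univ_three] at e10 e20
    refine Prod.ext ?_ ?_
    · have : (ω - 1) * (d.1 - c.1) = 0 := by linear_combination e10
      exact (sub_eq_zero.1 ((mul_eq_zero.1 this).resolve_left (sub_ne_zero.2 h.ne_one))).symm
    · have : (ω * ω - 1) * (d.2 - c.2) = 0 := by linear_combination e20
      exact (sub_eq_zero.1 ((mul_eq_zero.1 this).resolve_left (sub_ne_zero.2 h.sq_ne))).symm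
  have := Fintype.card_le_of_injective f hinj
  simp only [Fintype.card_prod, Fintype.card_fin, hF] at this
  nlinarith

end abstract

variable {h : Root ω} {H : Subgroup (GL (Fin 2 → Fin 3) F)}

/-- No pair with scalar factors mixes the plane and the line. -/
theorem omega_not_nz (h : Root ω) (h2 : (2 : F) ≠ 0) {A : G3} (hA : A.val = ω • PU + PP) : ¬ Nz h A := by
  intro hN
  have hi : (A⁻¹ : G3).val = (ω * ω) • PU + PP := by
    obtain ⟨e1, e2, e3, e4, e5⟩ := PU_PP (F := F) h2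
    have hm : A.val * ((ω * ω) • PU + PP) = 1 := by
      rw [hA, add_mul, mul_add, mul_add, Matrix.smul_mul, Matrix.smul_mul, Matrix.mul_smul, Matrix.mul_smul, e1, e2,
        e3, e4, smul_zero, smul_zero, smul_smul, show ω * (ω * ω) = ω ^ 3 by ring, h.cube, one_smul, add_zero,
        zero_add, e5]
    calc (A⁻¹ : G3).val = (A⁻¹ : G3).val * (A.val * ((ω * ω) • PU + PP)) := by rw [hm, mul_one]
      _ = _ := by rw [← mul_assoc, Units.inv_mul, one_mul]
  have hc := E_comm h (px_mem h) hN.1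
  rw [px, pconj_mk] at hc
  obtain ⟨c, -, hc⟩ := comm_iff.1 hc
  have e00 := congrFun (congrFun hc 0) 0
  have e12 := congrFun (congrFun hc 1) 2
  have hv : (sconj A (sX h)).1 = A.val * Xm ω * (A⁻¹ : G3).val := rfl
  rw [hv, hA, hi] at e00 e12
  simp [sX, PU, PP, Xm, Tm, Matrix.mul_apply, Fin.sum_univ_three] at e00 e12
  have := h.eq
  have := h.three
  have := h.ne_one
  have := h.ne_zero
  field_simp at e00 e12
  have h4 : (4 : F) ≠ 0 := by rw [show (4 : F) = 2 * 2 by norm_num]; exact mul_ne_zero h2 h2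
  have hc1 : c = 1 := mul_left_cancel₀ h4 (by linear_combination -e00)
  rw [hc1, one_mul] at e12
  have : (ω - 1) * (3 * (ω * ω)) = 0 := by
    linear_combination e12 - (ω - 1) * (ω * ω - ω - 1) * h.eq
  simp [sub_eq_zero, h.ne_one, h.three, h.ne_zero] at this

theorem HasN.scalar (N : HasN h H) (i : Fin 2) {z : SL} (hz : z ∈ Subgroup.center SL) : fu i (tG z) ∈ H := by
  have := center_le h (K := H.comap ((fu i).comp Matrix.SpecialLinearGroup.toGL)) (N.both N.X i) (N.both N.Y i) hz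
  exact this

theorem HasN.T (N : HasN h H) : fu (0 : Fin 2) (tG (sT : SL)) ∈ H := by
  have := H.mul_mem N.f N.f
  rwa [← map_mul, ← map_mul, show sF h * sF h = (sT : SL) from Subtype.ext (Fm_sq h)] at this

theorem not_omega (N : HasN h H) (hb : NotBig h H) (h2 : (2 : F) ≠ 0) :
    ((tG (sZ h), 1) : G3 × G3) ∉ H.comap (pairU h2) ∧ ((1, tG (sZ h)) : G3 × G3) ∉ H.comap (pairU h2) := by
  have left : ((tG (sZ h), 1) : G3 × G3) ∉ H.comap (pairU h2) := by
    intro hm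
    obtain ⟨e1, e2, e3, e4, e5⟩ := PU_PP (F := F) h2
    let A : G3 := ⟨ω • PU + PP, (ω * ω) • PU + PP,
      by rw [add_mul, mul_add, mul_add, Matrix.smul_mul, Matrix.smul_mul, Matrix.mul_smul, Matrix.mul_smul, e1, e2,
        e3, e4, smul_zero, smul_zero, smul_smul, show ω * (ω * ω) = ω ^ 3 by ring, h.cube, one_smul, add_zero,
        zero_add, e5],
      by rw [add_mul, mul_add, mul_add, Matrix.smul_mul, Matrix.smul_mul, Matrix.mul_smul, Matrix.mul_smul, e1, e2,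
        e3, e4, smul_zero, smul_zero, smul_smul, show ω * ω * ω = ω ^ 3 by ring, h.cube, one_smul, add_zero,
        zero_add, e5]⟩
    refine omega_not_nz h h2 (A := A) rfl (hb A 1 ?_)
    rw [map_one, one_mul, show (fu (0 : Fin 2) A : GT) = pairU h2 (tG (sZ h), 1) from Units.ext ?_]
    · exact hm
    · rw [fu_val, pairU_val]
      show fa 0 (ω • PU + PP) = fa 0 PU * fa 1 (ω • (1 : Mn)) + fa 0 PP * fa 1 (1 : Mn)
      rw [map_add, map_smul, map_smul, map_one, mul_one, Matrix.mul_smul, mul_one]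
  refine ⟨left, fun hm => left ?_⟩
  have hd : ((tG (sZ h), tG (sZ h)) : G3 × G3) ∈ H.comap (pairU h2) := by
    show pairU h2 _ ∈ H
    rw [pairU_diag]
    exact N.scalar 1 (sZ_center h)
  have := Subgroup.mul_mem _ hd (Subgroup.inv_mem _ hm)
  rwa [Prod.inv_mk, Prod.mk_mul_mk, inv_one, mul_one, mul_inv_cancel] at this

variable [Fintype F] {p : ℕ} [Fact p.Prime] [CharP F p]

/-- Both projections normalise the small group. -/
theorem pair_nz (hF : Fintype.card F = p) (hp : 5 < p) (N : HasN h H) (hb : NotBig h H) (h2 : (2 : F) ≠ 0)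
    {a b : G3} (hab : pairU h2 (a, b) ∈ H) : Nz h a ∧ Nz h b := by
  set Y := H.comap (pairU h2)
  obtain ⟨w1, w2⟩ := not_omega N hb h2
  have diag : ∀ S : SL, fu (1 : Fin 2) (tG S) ∈ H → ((tG S, tG S) : G3 × G3) ∈ Y := fun S hS => by
    show pairU h2 _ ∈ H
    rwa [pairU_diag]
  have hX := diag _ (N.swap N.X)
  have hY := diag _ (N.swap N.Y)
  have hf := diag _ (N.swap N.f)
  have hg := diag _ (N.swap N.g)
  have d1 := dichotomy hF hp h (Y.map (MonoidHom.fst G3 G3)) ⟨_, hX, rfl⟩ ⟨_, hY, rfl⟩ ⟨_, hf, rfl⟩ ⟨_, hg, rfl⟩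
  have d2 := dichotomy hF hp h (Y.map (MonoidHom.snd G3 G3)) ⟨_, hX, rfl⟩ ⟨_, hY, rfl⟩ ⟨_, hf, rfl⟩ ⟨_, hg, rfl⟩
  let Y' := Y.comap (MulEquiv.prodComm (M := G3) (N := G3)).toMonoidHom
  rcases d1 with b1 | s1 <;> rcases d2 with b2 | s2
  rotate_left
  · refine absurd (big_small_false hF hp w1 (fun S => ?_) hX fun a b hm => s2 b ⟨_, hm, rfl⟩) id
    obtain ⟨⟨a, b⟩, hm, rfl : a = tG S⟩ := b1 S
    exact ⟨b, hm⟩
  · refine absurd (big_small_false (Y := Y') hF hp w2 (fun S => ?_) hX fun a b hm => s1 b ⟨_, hm, rfl⟩) id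
    obtain ⟨⟨a, b⟩, hm, rfl : b = tG S⟩ := b2 S
    exact ⟨a, hm⟩
  · exact ⟨s1 a ⟨_, hab, rfl⟩, s2 b ⟨_, hab, rfl⟩⟩
  exfalso
  have hperf : commutator SL = ⊤ := by
    rw [eq_top_iff, ← CfsgLib.StSL.closure_transvection_eq_top (K := F) (n := 3) (by norm_num), Subgroup.closure_le]
    rintro _ ⟨i, j, hij, t, rfl⟩
    rw [commutator_eq_closure]
    exact Subgroup.subset_closure (CfsgLib.SLPerfect.transvection_mem_commutatorSet (by norm_num) hij t)
  let D : Subgroup (SL × SL) :=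
    Y.comap ((Matrix.SpecialLinearGroup.toGL (n := Fin 3) (R := F)).prodMap Matrix.SpecialLinearGroup.toGL)
  have hall1 : ∀ S : SL, ∃ c : G3, (tG S, c) ∈ Y := fun S => by
    obtain ⟨⟨x, y⟩, hm, rfl : x = tG S⟩ := b1 S
    exact ⟨y, hm⟩
  have hall2 : ∀ S : SL, ∃ c : G3, (tG S, c) ∈ Y' := fun S => by
    obtain ⟨⟨x, y⟩, hm, rfl : y = tG S⟩ := b2 S
    exact ⟨x, hm⟩
  have hD : ∀ S : SL, ∃ S' : SL, (S, S') ∈ D := by
    have : D.map (MonoidHom.fst SL SL) = ⊤ := by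
      rw [eq_top_iff, ← hperf, _root_.commutator_def, Subgroup.commutator_le]
      intro S _ T _
      obtain ⟨c, hc⟩ := hall1 S
      obtain ⟨d, hd⟩ := hall1 T
      have := Y.mul_mem (Y.mul_mem (Y.mul_mem hc hd) (Y.inv_mem hc)) (Y.inv_mem hd)
      have hdet : (c * d * c⁻¹ * d⁻¹).val.det = 1 := by
        have h1 : c * d * c⁻¹ * d⁻¹ = ⁅c, d⁆ := (commutatorElement_def c d).symm
        rw [h1]
        show ((Matrix.GeneralLinearGroup.det ⁅c, d⁆ : Fˣ) : F) = 1
        rw [map_commutatorElement, commutatorElement_eq_one_iff_mul_comm.2 (mul_comm _ _), Units.val_one]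
      refine ⟨(⁅S, T⁆, ⟨_, hdet⟩), ?_, rfl⟩
      show (tG ⁅S, T⁆, tG (⟨_, hdet⟩ : SL)) ∈ Y
      rw [show tG (⟨_, hdet⟩ : SL) = c * d * c⁻¹ * d⁻¹ from Units.ext rfl, commutatorElement_def, tG_mul, tG_mul,
        tG_mul, tG_inv, tG_inv]
      exact this
    intro S
    obtain ⟨⟨x, y⟩, hm, rfl⟩ : S ∈ D.map (MonoidHom.fst SL SL) := by rw [this]; exact Subgroup.mem_top _
    exact ⟨y, hm⟩
  choose φ hφ using hD
  have uniq : ∀ {S S'}, (S, S') ∈ D → S' = φ S := by
    intro S S' hm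
    have h0 : ((1, φ S * S'⁻¹) : SL × SL) ∈ D := by
      have := D.mul_mem (hφ S) (D.inv_mem hm)
      rwa [Prod.inv_mk, Prod.mk_mul_mk, mul_inv_cancel] at this
    have h1 : ((tG (φ S * S'⁻¹), 1) : G3 × G3) ∈ Y' := by
      show (1, tG (φ S * S'⁻¹)) ∈ Y
      have : (tG 1, tG (φ S * S'⁻¹)) ∈ Y := h0
      rwa [tG_one] at this
    exact (mul_inv_eq_one.1 (ker_one (Y := Y') w2 hall2 h1)).symm
  let Φ : SL →* SL :=
    { toFun := φ
      map_one' := (uniq D.one_mem).symm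
      map_mul' := fun S T => (uniq (D.mul_mem (hφ S) (hφ T))).symm }
  have hinj : Function.Injective Φ := by
    refine (injective_iff_map_eq_one Φ).2 fun S hS => ker_one w1 hall1 ?_
    have : (tG S, tG (Φ S)) ∈ Y := hφ S
    rwa [hS, tG_one] at this
  have hT : ((sT, sT) : SL × SL) ∈ D := by
    have := Y.mul_mem hf hf
    rwa [Prod.mk_mul_mk, ← map_mul, show sF h * sF h = (sT : SL) from Subtype.ext (Fm_sq h)] at this
  have hid : ∀ S, Φ S = S := fun S => by
    have := fix_all hF hp h (φ := Φ) hinj (uniq hX).symm (uniq hY).symm (uniq hT).symm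
    exact this S
  obtain ⟨S, hS⟩ := exists_not_nz h
  refine hS (hb.one N (c := 1) ?_)
  rw [map_one, one_mul, ← pairU_diag h2]
  have : (tG S, tG (Φ S)) ∈ Y := hφ S
  rw [hid] at this
  exact this

/-- An element of order three centralising the first Fourier pair and inverted by the involution lies in the second
small group. -/
theorem cent_order_three (hF : Fintype.card F = p) (hp : 5 < p) (N : HasN h H) (hb : NotBig h H) {z : GT}
    (hz : z ∈ H) (hzF : z * fu 0 (tG (sF h)) = fu 0 (tG (sF h)) * z)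
    (hzG : z * fu 0 (tG (sG h)) = fu 0 (tG (sG h)) * z) (h3 : z * (z * z) = 1)
    (hj : fu 0 (tG (sT : SL)) * fu 1 (tG sT) * z * (fu 0 (tG sT) * fu 1 (tG sT))⁻¹ = z⁻¹) :
    ∃ S ∈ R1 h, z = fu 1 (tG S) := by
  have h2 : (2 : F) ≠ 0 := by
    intro e
    have := (CharP.cast_eq_zero_iff F p 2).1 (by exact_mod_cast e)
    have := Nat.le_of_dvd (by norm_num) this
    omega
  obtain ⟨a, b, rfl⟩ := exists_pairU h h2 hzF hzG
  obtain ⟨ha, hb'⟩ := pair_nz hF hp N hb h2 hz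
  have h3' := pairU_injective h2 (show pairU h2 ((a, b) * ((a, b) * (a, b))) = pairU h2 1 by
    rw [map_mul, map_mul, h3, map_one])
  rw [Prod.mk_mul_mk, Prod.mk_mul_mk, Prod.mk_eq_one] at h3'
  have hcT : Commute (fu (0 : Fin 2) (tG (sT : SL))) (pairU h2 (a, b)) := by
    rw [← show sF h * sF h = (sT : SL) from Subtype.ext (Fm_sq h), tG_mul, map_mul]
    exact (Commute.mul_right hzF hzF).symm
  have hinv := pairU_injective h2 (show pairU h2 ((tG sT, tG sT) * (a, b) * (tG sT, tG sT)⁻¹) =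
      pairU h2 (a, b)⁻¹ by
    rw [map_mul, map_mul, map_inv, map_inv, pairU_diag, ← hj, fu_comm, _root_.mul_inv_rev,
      show fu (1 : Fin 2) (tG (sT : SL)) * fu 0 (tG sT) * pairU h2 (a, b) * ((fu 0 (tG sT))⁻¹ * (fu 1 (tG sT))⁻¹)
        = fu 1 (tG sT) * (fu 0 (tG sT) * pairU h2 (a, b) * (fu 0 (tG sT))⁻¹) * (fu 1 (tG sT))⁻¹ by
          simp only [mul_assoc], hcT.eq, mul_inv_cancel_right])
  rw [Prod.mk_mul_mk, Prod.inv_mk, Prod.mk_mul_mk, Prod.inv_mk, Prod.mk.injEq] at hinv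
  obtain ⟨S, hS, rfl⟩ := R1_of_inR h (inR_of_inverted h h3'.1 ha hinv.1)
  obtain ⟨S', hS', rfl⟩ := R1_of_inR h (inR_of_inverted h h3'.2 hb' hinv.2)
  refine ⟨S, hS, ?_⟩
  set Y := H.comap (pairU h2)
  have d : ∀ U ∈ R1 h, ((tG U, tG U) : G3 × G3) ∈ Y := fun U hU => by
    show pairU h2 _ ∈ H
    rw [pairU_diag]
    exact (Subgroup.closure_le (K := H.comap ((fu (1 : Fin 2)).comp Matrix.SpecialLinearGroup.toGL))).2 (by
      rintro _ (rfl | rfl)
      exacts [N.swap N.X, N.swap N.Y]) hU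
  have hW : S⁻¹ * S' ∈ R1 h := (R1 h).mul_mem ((R1 h).inv_mem hS) hS'
  have hq : ((1, tG (S⁻¹ * S')) : G3 × G3) ∈ Y := by
    have := Y.mul_mem (Y.inv_mem (d S hS)) (show (tG S, tG S') ∈ Y from hz)
    rwa [Prod.inv_mk, Prod.mk_mul_mk, inv_mul_cancel, ← map_inv, ← map_mul] at this
  have centre_one : ∀ c ∈ Subgroup.center SL, ((1, tG c) : G3 × G3) ∈ Y → c = 1 := by
    intro c hc hm
    rcases center_eq_pow h hc with e | e | e
    · exact e
    · exact absurd (e ▸ hm) (not_omega N hb h2).2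
    · refine absurd ?_ (not_omega N hb h2).2
      have := Y.inv_mem hm
      rwa [Prod.inv_mk, inv_one, ← map_inv, e] at this
  have comm : ∀ U ∈ R1 h, Commute (S⁻¹ * S') U := fun U hU => by
    refine commutatorElement_eq_one_iff_commute.1 (centre_one _ (R1_comm h hW hU) ?_)
    have := Y.mul_mem (Y.mul_mem (Y.mul_mem hq (d U hU)) (Y.inv_mem hq)) (Y.inv_mem (d U hU))
    rwa [Prod.mk_mul_mk, Prod.inv_mk, Prod.mk_mul_mk, Prod.inv_mk, Prod.mk_mul_mk, inv_one, one_mul, mul_one,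
      mul_inv_cancel, ← map_inv, ← map_inv, ← map_mul, ← map_mul, ← map_mul, ← commutatorElement_def] at this
  have hc : S⁻¹ * S' ∈ Subgroup.center SL := by
    have e := scalar_of_commXY h (congrArg Subtype.val (comm _ (sX_mem h)).eq)
      (congrArg Subtype.val (comm _ (sY_mem h)).eq)
    exact Subgroup.mem_center_iff.2 fun w => Subtype.ext (by
      rw [val_mul w (S⁻¹ * S'), val_mul (S⁻¹ * S') w, e, Matrix.mul_smul, mul_one, Matrix.smul_mul, one_mul])
  have := centre_one _ hc hq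
  rw [inv_mul_eq_one] at this
  rw [← this, pairU_diag]

end CfsgLib.MaxSub.SLNine
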