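/-
The `2`-group built from the two quaternion groups and the transposition of the factors.
-/
import Cfsg.Agent.Lib.MaxSub.SLNine.Cent
import Mathlib.GroupTheory.PGroup

set_option autoImplicit false
set_option maxHeartbeats 800000
set_option linter.unusedSectionVars false

namespace CfsgLib.MaxSub.SLNine

open Matrix CfsgLib.MaxSub.SLThree.Hess
open CfsgLib.Aschbacher (pureMat pureGL permGL permMat)
open CfsgLib.MaxSub.TensorPow
open scoped commutatorElement

universe u

variable {F : Type u} [Field F] {ω : F}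

local notation "G3" => GL (Fin 3) F
local notation "GT" => GL (Fin 2 → Fin 3) F
local notation "Mn" => Matrix (Fin 3) (Fin 3) F
local notation "MT" => Matrix (Fin 2 → Fin 3) (Fin 2 → Fin 3) F
local notation "SL" => Matrix.SpecialLinearGroup (Fin 3) F
local notation "P3" => Matrix.ProjectiveSpecialLinearGroup (Fin 3) F

/-! ### Relations -/

theorem FF (h : Root ω) : sF h * sF h = (sT : SL) := Subtype.ext (Fm_sq h)

theorem GG (h : Root ω) : sG h * sG h = (sT : SL) := Subtype.ext (Gm_sq h)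

theorem TT : sT * sT = (1 : SL) := Subtype.ext Tm_sq

theorem sT_inv : (sT : SL)⁻¹ = sT := inv_eq_of_mul_eq_one_right TT

theorem FG' (h : Root ω) : sF h * sG h = (sT * (sG h * sF h) : SL) := Subtype.ext (FG h)

theorem TF (h : Root ω) : Commute (sT : SL) (sF h) := by
  rw [← FF h]; exact (Commute.refl _).mul_left (Commute.refl _)

theorem TG (h : Root ω) : Commute (sT : SL) (sG h) := by
  rw [← GG h]; exact (Commute.refl _).mul_left (Commute.refl _)

theorem GF' (h : Root ω) : sG h * sF h = (sT * (sF h * sG h) : SL) := by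
  rw [FG' h, ← mul_assoc, TT, one_mul]

theorem sT_X (h : Root ω) : sT * sX h * sT⁻¹ = ((sX h)⁻¹ : SL) := by
  have e : sX h * (sX h * sX h) = (1 : SL) := Subtype.ext (Xm_cube h)
  rw [← inv_eq_of_mul_eq_one_right e |>.symm, mul_inv_eq_iff_eq_mul]
  exact Subtype.ext (TX h)

theorem sT_Y : sT * sY * sT⁻¹ = ((sY : SL)⁻¹) := by
  have e : sY * (sY * sY) = (1 : SL) := Subtype.ext Ym_cube
  rw [← inv_eq_of_mul_eq_one_right e |>.symm, mul_inv_eq_iff_eq_mul]
  exact Subtype.ext TY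

theorem sT_ne_one : (sT : SL) ≠ 1 := fun e => by
  have := congrFun (congrFun (congrArg Subtype.val e) 1) 1
  change (Tm : Mn) 1 1 = (1 : Mn) 1 1 at this
  simp [Tm] at this

/-! ### The quaternion group -/

/-- The quaternion group. -/
def Qs (h : Root ω) : Subgroup (Matrix.SpecialLinearGroup (Fin 3) F) := Subgroup.closure {sF h, sG h}

theorem sF_mem (h : Root ω) : sF h ∈ Qs h := Subgroup.subset_closure (Or.inl rfl)

theorem sG_mem (h : Root ω) : sG h ∈ Qs h := Subgroup.subset_closure (Or.inr rfl)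

theorem sT_mem (h : Root ω) : (sT : SL) ∈ Qs h := by
  rw [← FF h]; exact mul_mem (sF_mem h) (sF_mem h)

theorem T_comm_Q (h : Root ω) {A : SL} (hA : A ∈ Qs h) : Commute (sT : SL) A := by
  have : Qs h ≤ Subgroup.centralizer {(sT : SL)} := (Subgroup.closure_le _).2 (by
    rintro _ (rfl | rfl)
    exacts [Subgroup.mem_centralizer_singleton_iff.2 (TF h).eq.symm, Subgroup.mem_centralizer_singleton_iff.2 (TG h).eq.symm])
  exact (Subgroup.mem_centralizer_singleton_iff.1 (this hA)).symm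

theorem Q_norm_form (h : Root ω) {A : SL} (hA : A ∈ Qs h) :
    ∃ e f g : Fin 2, A = sT ^ (e : ℕ) * (sF h ^ (f : ℕ) * sG h ^ (g : ℕ)) := by
  let P : SL → Prop := fun A => ∃ e f g : ℕ, A = sT ^ e * (sF h ^ f * sG h ^ g)
  have rG : ∀ B, P B → P (B * sG h) := by
    rintro _ ⟨e, f, g, rfl⟩
    exact ⟨e, f, g + 1, by rw [pow_succ]; simp only [mul_assoc]⟩
  have swap : ∀ g : ℕ, sG h ^ g * sF h = sT ^ g * (sF h * sG h ^ g) := fun g => by
    induction g with
    | zero => simp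
    | succ g ih =>
      rw [pow_succ', mul_assoc, ih, ← mul_assoc, ← ((TG h).pow_left g).eq, mul_assoc, ← mul_assoc (sG h), GF', pow_succ]
      simp only [mul_assoc]
  have rF : ∀ B, P B → P (B * sF h) := by
    rintro _ ⟨e, f, g, rfl⟩
    refine ⟨e + g, f + 1, g, ?_⟩
    rw [mul_assoc, mul_assoc, swap, ← mul_assoc (sF h ^ f), ← (((TF h).pow_left g).pow_right f).eq, pow_add,
      pow_succ]
    simp only [mul_assoc]
  have hi : ∀ s : SL, s * s = sT → s⁻¹ = s * s * s := fun s hs => by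
    refine inv_eq_of_mul_eq_one_right ?_
    rw [show s * (s * s * s) = s * s * (s * s) by group, hs, TT]
  have hP : P A := by
    induction hA using Subgroup.closure_induction_right with
    | one => exact ⟨0, 0, 0, by simp⟩
    | mul_right x y _ hy ih =>
      rcases hy with rfl | rfl
      exacts [rF _ ih, rG _ ih]
    | mul_inv_cancel x y _ hy ih =>
      rcases hy with rfl | rfl
      · rw [hi _ (FF h), ← mul_assoc, ← mul_assoc]; exact rF _ (rF _ (rF _ ih))
      · rw [hi _ (GG h), ← mul_assoc, ← mul_assoc]; exact rG _ (rG _ (rG _ ih))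
  obtain ⟨e, f, g, rfl⟩ := hP
  refine ⟨⟨(e + f / 2 + g / 2) % 2, Nat.mod_lt _ two_pos⟩, ⟨f % 2, Nat.mod_lt _ two_pos⟩,
    ⟨g % 2, Nat.mod_lt _ two_pos⟩, ?_⟩
  simp only
  have eT : (sT : SL) ^ 2 = 1 := by rw [pow_two, TT]
  rw [← pow_eq_pow_mod _ eT]
  conv_lhs => rw [← Nat.div_add_mod f 2, ← Nat.div_add_mod g 2, pow_add, pow_add, pow_mul, pow_mul, pow_two, pow_two,
    FF h, GG h]
  rw [pow_add, pow_add, show sT ^ (f / 2) * sF h ^ (f % 2) * (sT ^ (g / 2) * sG h ^ (g % 2)) =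
    sT ^ (f / 2) * (sF h ^ (f % 2) * sT ^ (g / 2)) * sG h ^ (g % 2) by simp only [mul_assoc],
    ← (((TF h).pow_left (g / 2)).pow_right (f % 2)).eq]
  simp only [mul_assoc]

theorem F_ne_one (h : Root ω) : sF h ≠ (1 : SL) := fun e => sT_ne_one (by rw [← FF h, e, one_mul])

theorem FG_ne (h : Root ω) : sF h * sG h ≠ (sG h * sF h : SL) := fun e => by
  rw [FG' h] at e
  exact sT_ne_one (mul_eq_right.1 e)

theorem Q_centre (h : Root ω) {A : SL} (hA : A ∈ Qs h) (hF : A * sF h = sF h * A)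
    (hG : A * sG h = sG h * A) : A = 1 ∨ A = sT := by
  obtain ⟨e, f, g, rfl⟩ := Q_norm_form h hA
  have strip : ∀ s, Commute (sT : SL) s → sT ^ (e : ℕ) * (sF h ^ (f : ℕ) * sG h ^ (g : ℕ)) * s =
      s * (sT ^ (e : ℕ) * (sF h ^ (f : ℕ) * sG h ^ (g : ℕ))) →
      sF h ^ (f : ℕ) * sG h ^ (g : ℕ) * s = s * (sF h ^ (f : ℕ) * sG h ^ (g : ℕ)) := fun s hs e' => by
    rw [mul_assoc, ← mul_assoc s, ← (hs.pow_left (e : ℕ)).eq] at e'
    simp only [mul_assoc] at e' ⊢
    exact mul_left_cancel e'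
  have hF' := strip _ (TF h) hF
  have hG' := strip _ (TG h) hG
  fin_cases f <;> fin_cases g <;> simp only [pow_zero, pow_one, one_mul, mul_one] at hF' hG' ⊢
  · fin_cases e
    · exact Or.inl (pow_zero _)
    · exact Or.inr (pow_one _)
  · exact absurd hF'.symm (FG_ne h)
  · exact absurd hG' (FG_ne h)
  · rw [mul_assoc] at hF'
    exact absurd (mul_left_cancel hF').symm (FG_ne h)

theorem Q_sq (h : Root ω) {A : SL} (hA : A ∈ Qs h) :
    (A = 1 ∨ A = sT) ∨ A * A = (sT : SL) := by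
  obtain ⟨e, f, g, rfl⟩ := Q_norm_form h hA
  have key : ∀ s : SL, Commute (sT : SL) s → s * s = sT → (sT ^ (e : ℕ) * s) * (sT ^ (e : ℕ) * s) = sT := by
    intro s hs hss
    rw [mul_assoc, ← mul_assoc s, ← (hs.pow_left (e : ℕ)).eq, mul_assoc, hss, ← mul_assoc, ← pow_add,
      show (e : ℕ) + e = 2 * e by ring, pow_mul, pow_two, TT, one_pow, one_mul]
  fin_cases f <;> fin_cases g <;> simp only [pow_zero, pow_one, one_mul, mul_one] at key ⊢
  · fin_cases e
    · exact Or.inl (Or.inl (pow_zero _))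
    · exact Or.inl (Or.inr (pow_one _))
  · exact Or.inr (key _ (TG h) (GG h))
  · exact Or.inr (key _ (TF h) (FF h))
  · refine Or.inr (key _ ((TF h).mul_right (TG h)) ?_)
    rw [mul_assoc, ← mul_assoc (sG h), GF', mul_assoc, mul_assoc, GG h, ← mul_assoc (sF h), ← (TF h).eq, mul_assoc,
      (TF h).eq, ← mul_assoc (sF h), FF h, TT, mul_one]

theorem Q_fourth (h : Root ω) {A : SL} (hA : A ∈ Qs h) : A ^ 4 = 1 := by
  rw [show 4 = 2 + 2 from rfl, pow_add, pow_two]
  rcases Q_sq h hA with (rfl | rfl) | e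
  · simp
  · rw [TT, one_mul]
  · rw [e, TT]

theorem Q_TP (h : Root ω) {A : SL} (hA : A ∈ Qs h) : A.1 * (1 + Tm : Mn) = 1 + Tm := by
  have := h.eq
  induction hA using Subgroup.closure_induction with
  | mem x hx =>
    rcases hx with rfl | rfl
    · show Fm ω * (1 + Tm) = 1 + Tm
      rw [Fm, Matrix.smul_mul]
      refine (inv_smul_eq_iff₀ h.sub_ne).2 ?_
      ext i j
      fin_cases i <;> fin_cases j <;> simp [Tm, Matrix.mul_apply, Fin.sum_univ_three] <;> grind
    · show Gm ω * (1 + Tm) = 1 + Tm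
      rw [Gm, Matrix.smul_mul]
      refine (inv_smul_eq_iff₀ h.sub_ne).2 ?_
      ext i j
      fin_cases i <;> fin_cases j <;> simp [Tm, Matrix.mul_apply, Fin.sum_univ_three] <;> grind
  | one => exact one_mul _
  | mul x y _ _ hx hy => rw [val_mul, mul_assoc, hy, hx]
  | inv x _ hx =>
    conv_lhs => arg 2; rw [← hx]
    rw [← mul_assoc, ← val_mul, inv_mul_cancel]
    exact one_mul _

theorem eq_one_of_scalar (h : Root ω) {A : SL} (hA : A ∈ Qs h) {a : F}
    (e : A.1 = a • (1 : Mn)) : A = 1 := by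
  have hc : ∀ s : SL, A * s = s * A := fun s => Subtype.ext (by
    rw [val_mul A s, val_mul s A, e, Matrix.smul_mul, one_mul, Matrix.mul_smul, mul_one])
  rcases Q_centre h hA (hc _) (hc _) with r | r
  · exact r
  · exfalso
    rw [r] at e
    have e00 := congrFun (congrFun e 0) 0
    have e11 := congrFun (congrFun e 1) 1
    change (Tm : Mn) 0 0 = _ at e00
    change (Tm : Mn) 1 1 = _ at e11
    simp [Tm] at e00 e11
    rw [← e11] at e00
    simp at e00

/-! ### Pairs of quaternions -/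

/-- An element of the product of the two factors. -/
noncomputable def q2 : Matrix.SpecialLinearGroup (Fin 3) F × Matrix.SpecialLinearGroup (Fin 3) F →*
    GL (Fin 2 → Fin 3) F where
  toFun a := fu 0 (tG a.1) * fu 1 (tG a.2)
  map_one' := by rw [Prod.fst_one, Prod.snd_one, tG_one, map_one, map_one, one_mul]
  map_mul' a b := by
    rw [Prod.fst_mul, Prod.snd_mul, tG_mul, tG_mul, map_mul, map_mul, mul_assoc (fu 0 (tG a.1)),
      ← mul_assoc (fu 0 (tG b.1)), fu_comm (tG b.1) (tG a.2)]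
    simp only [mul_assoc]

theorem q2_val (a b : SL) : (q2 (a, b) : GT).val = fa 0 a.1 * fa 1 b.1 := rfl

theorem q2_left (a : SL) : (q2 (a, 1) : GT) = fu 0 (tG a) := by
  show fu 0 (tG a) * fu 1 (tG 1) = _
  rw [tG_one, map_one, mul_one]

theorem q2_right (b : SL) : (q2 (1, b) : GT) = fu 1 (tG b) := by
  show fu 0 (tG 1) * fu 1 (tG b) = _
  rw [tG_one, map_one, one_mul]

theorem q2_one {a b : SL} (h : Root ω) (ha : a ∈ Qs h) (hb : b ∈ Qs h)
    (e : (q2 (a, b) : GT) = 1) : a = 1 ∧ b = 1 := by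
  have e' : (fa (0 : Fin 2) a.1 * fa 1 b.1 : MT) = (1 : F) • 1 := by rw [← q2_val, e, one_smul]; rfl
  obtain ⟨⟨x, hx⟩, ⟨y, hy⟩⟩ := scalar_of_kron one_ne_zero e'
  exact ⟨eq_one_of_scalar h ha hx, eq_one_of_scalar h hb hy⟩

theorem tau_q2 (a b : SL) : tau * q2 (a, b) = (q2 (b, a) * tau : GT) := by
  show tau * (fu 0 (tG a) * fu 1 (tG b)) = fu 0 (tG b) * fu 1 (tG a) * tau
  rw [← mul_assoc, show tau * fu 0 (tG a) = fu 1 (tG a) * tau from mul_inv_eq_iff_eq_mul.1 (tau_zero _),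
    mul_assoc, show tau * fu 1 (tG b) = fu 0 (tG b) * tau from mul_inv_eq_iff_eq_mul.1 (tau_one _), ← mul_assoc,
    ← fu_comm]

/-- The involution inverting the symplectic group. -/
noncomputable def jj : GL (Fin 2 → Fin 3) F := q2 (sT, sT)

/-- The involution of the first factor. -/
noncomputable def ii : GL (Fin 2 → Fin 3) F := q2 (sT, 1)

theorem jj_sq : (jj : GT) * jj = 1 := by
  rw [jj, ← map_mul, Prod.mk_mul_mk, TT]; exact map_one _

theorem ii_sq : (ii : GT) * ii = 1 := by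
  rw [ii, ← map_mul, Prod.mk_mul_mk, TT, one_mul]; exact map_one _

/-- The `2`-group. -/
noncomputable def PG (h : Root ω) : Subgroup (GL (Fin 2 → Fin 3) F) where
  carrier := {w | ∃ a ∈ Qs h, ∃ b ∈ Qs h, w = q2 (a, b) ∨ w = q2 (a, b) * tau}
  one_mem' := ⟨1, one_mem _, 1, one_mem _, Or.inl (map_one q2).symm⟩
  mul_mem' := by
    rintro _ _ ⟨a, ha, b, hb, rfl | rfl⟩ ⟨c, hc, d, hd, rfl | rfl⟩
    · exact ⟨a * c, mul_mem ha hc, b * d, mul_mem hb hd, Or.inl (by rw [← map_mul, Prod.mk_mul_mk])⟩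
    · exact ⟨a * c, mul_mem ha hc, b * d, mul_mem hb hd, Or.inr (by rw [← mul_assoc, ← map_mul, Prod.mk_mul_mk])⟩
    · exact ⟨a * d, mul_mem ha hd, b * c, mul_mem hb hc, Or.inr (by
        rw [mul_assoc, tau_q2, ← mul_assoc, ← map_mul, Prod.mk_mul_mk])⟩
    · exact ⟨a * d, mul_mem ha hd, b * c, mul_mem hb hc, Or.inl (by
        rw [mul_assoc, ← mul_assoc tau, tau_q2, mul_assoc (q2 (d, c)), tau_sq, mul_one, ← map_mul, Prod.mk_mul_mk])⟩
  inv_mem' := by
    rintro _ ⟨a, ha, b, hb, rfl | rfl⟩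
    · exact ⟨a⁻¹, inv_mem ha, b⁻¹, inv_mem hb, Or.inl (by rw [← map_inv, Prod.inv_mk])⟩
    · exact ⟨b⁻¹, inv_mem hb, a⁻¹, inv_mem ha, Or.inr (by
        rw [_root_.mul_inv_rev, tau_inv, ← map_inv, Prod.inv_mk, tau_q2])⟩

theorem q2_mem (h : Root ω) {a b : SL} (ha : a ∈ Qs h) (hb : b ∈ Qs h) : q2 (a, b) ∈ PG h :=
  ⟨a, ha, b, hb, Or.inl rfl⟩

theorem tau_mem (h : Root ω) : (tau : GT) ∈ PG h :=
  ⟨1, one_mem _, 1, one_mem _, Or.inr (by rw [show (q2 ((1 : SL), 1) : GT) = 1 from map_one q2, one_mul])⟩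

theorem PG_sq (h : Root ω) {w : GT} (hw : w ∈ PG h) :
    ∃ a ∈ Qs h, ∃ b ∈ Qs h, w * w = q2 (a, b) := by
  obtain ⟨a, ha, b, hb, rfl | rfl⟩ := hw
  · exact ⟨_, mul_mem ha ha, _, mul_mem hb hb, by rw [← map_mul, Prod.mk_mul_mk]⟩
  · exact ⟨_, mul_mem ha hb, _, mul_mem hb ha, by
      rw [mul_assoc, ← mul_assoc tau, tau_q2, mul_assoc (q2 (b, a)), tau_sq, mul_one, ← map_mul, Prod.mk_mul_mk]⟩

theorem PG_two (h : Root ω) : IsPGroup 2 (PG h) := by
  rintro ⟨w, hw⟩
  refine ⟨3, Subtype.ext ?_⟩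
  obtain ⟨a, ha, b, hb, e⟩ := PG_sq h hw
  show w ^ (2 ^ 3) = 1
  rw [show 2 ^ 3 = 2 * 4 from rfl, pow_mul, pow_two, e, ← map_pow, Prod.pow_mk, Q_fourth h ha, Q_fourth h hb]
  exact map_one q2

theorem PG_jj (h : Root ω) {w : GT} (hw : w ∈ PG h) : Commute w jj := by
  have base : ∀ {a b : SL}, a ∈ Qs h → b ∈ Qs h → Commute (q2 (a, b) : GT) jj := fun {a b} ha hb =>
    show q2 (a, b) * q2 (sT, sT) = q2 (sT, sT) * q2 (a, b) by
      rw [← map_mul, ← map_mul, Prod.mk_mul_mk, Prod.mk_mul_mk, (T_comm_Q h ha).eq, (T_comm_Q h hb).eq]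
  obtain ⟨a, ha, b, hb, rfl | rfl⟩ := hw
  · exact base ha hb
  · exact (base ha hb).mul_left (tau_q2 sT sT)

theorem ii_tau : tau * ii * tau⁻¹ = (q2 (1, sT) : GT) := by
  rw [ii, tau_q2, mul_inv_cancel_right]

theorem ii_mul : (ii : GT) * q2 (1, sT) = jj := by
  rw [ii, jj, ← map_mul, Prod.mk_mul_mk, mul_one, one_mul]

theorem PG_not_comm (h : Root ω) {a b : SL} (ha : a ∈ Qs h) (hb : b ∈ Qs h) :
    ¬ Commute (q2 (a, b) * tau : GT) ii := fun e => by
  have hc : Commute (q2 (a, b) : GT) (q2 (1, sT)) :=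
    show q2 (a, b) * q2 (1, sT) = q2 (1, sT) * q2 (a, b) by
      rw [← map_mul, ← map_mul, Prod.mk_mul_mk, Prod.mk_mul_mk, mul_one, one_mul, (T_comm_Q h hb).eq]
  have e1 : q2 (a, b) * (q2 (1, sT) * tau) = ii * (q2 (a, b) * tau : GT) := by
    rw [← tau_q2 sT 1, ← mul_assoc]; exact e.eq
  rw [← mul_assoc, ← mul_assoc, hc.eq] at e1
  have e2 : (q2 (1, sT) : GT) = ii := mul_right_cancel (mul_right_cancel e1)
  have e3 : (q2 (sT, sT) : GT) = 1 := by
    rw [show (q2 (sT, sT) : GT) = ii * q2 (1, sT) from ii_mul.symm, e2, ii_sq]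
  exact sT_ne_one (q2_one h (sT_mem h) (sT_mem h) e3).1

/-! ### Traces -/

theorem sum_pairs {M : Type*} [AddCommMonoid M] (f : (Fin 2 → Fin 3) → M) :
    ∑ x, f x = ∑ a : Fin 3, ∑ b : Fin 3, f ![a, b] := by
  rw [← (finTwoArrowEquiv (Fin 3)).symm.sum_comp, Fintype.sum_prod_type]
  rfl

theorem trace_kron (A B : Mn) : (fa (0 : Fin 2) A * fa 1 B : MT).trace = A.trace * B.trace := by
  simp only [Matrix.trace, Matrix.diag, sum_pairs, fa_mul_apply]
  simp [Finset.mul_sum, Finset.sum_mul]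
  exact Finset.sum_comm

theorem trace_q2_tau (a b : SL) : (q2 (a, b) * tau : GT).val.trace = -(a.1 * b.1).trace := by
  rw [Units.val_mul, q2_val]
  show (fa 0 a.1 * fa 1 b.1 * -(permGL 3 F (Equiv.swap (0 : Fin 2) 1)).val).trace = _
  rw [mul_neg, Matrix.trace_neg]
  congr 1
  have hp : ∀ y : Fin 2 → Fin 3, (fa (0 : Fin 2) a.1 * fa 1 b.1 * (permGL 3 F (Equiv.swap (0 : Fin 2) 1)).val : MT) y y =
      a.1 (y 0) (y 1) * b.1 (y 1) (y 0) := fun y => by
    rw [Matrix.mul_apply, Finset.sum_eq_single (y ∘ Equiv.swap (0 : Fin 2) 1)]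
    · rw [fa_mul_apply]
      show _ * permMat 3 F (Equiv.swap (0 : Fin 2) 1) _ y = _
      simp [permMat, funext_iff, Fin.forall_fin_two]
    · intro z _ hz
      show _ * permMat 3 F (Equiv.swap (0 : Fin 2) 1) z y = _
      rw [permMat, Matrix.of_apply, if_neg, mul_zero]
      intro e
      exact hz (by rw [e]; funext i; simp [Function.comp_apply])
    · simp
  simp only [Matrix.trace, Matrix.diag, hp, sum_pairs, Matrix.mul_apply]
  simp

theorem trace_Tm : (Tm : Mn).trace = -1 := by simp [Tm, Matrix.trace_fin_three]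

/-- The only involution of the group with trace one is the inverting one. -/
theorem PG_trace (h : Root ω) (h2 : (2 : F) ≠ 0) {w : GT} (hw : w ∈ PG h) (hw2 : w * w = 1)
    (htr : w.val.trace = 1) : w = jj := by
  have h4 : (4 : F) ≠ 0 := by rw [show (4 : F) = 2 * 2 by norm_num]; exact mul_ne_zero h2 h2
  obtain ⟨a, ha, b, hb, rfl | rfl⟩ := hw
  · rw [← map_mul, Prod.mk_mul_mk] at hw2
    obtain ⟨e1, e2⟩ := q2_one h (mul_mem ha ha) (mul_mem hb hb) hw2
    have ha' : a = 1 ∨ a = sT := (Q_sq h ha).resolve_right (fun e => sT_ne_one (e ▸ e1))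
    have hb' : b = 1 ∨ b = sT := (Q_sq h hb).resolve_right (fun e => sT_ne_one (e ▸ e2))
    rw [q2_val, trace_kron] at htr
    rcases ha' with rfl | rfl <;> rcases hb' with rfl | rfl <;>
      simp [show (sT : SL).1 = Tm from rfl, trace_Tm] at htr
    · exact absurd (mul_left_cancel₀ h2 (show (2 : F) * 4 = 2 * 0 by linear_combination htr)) h4
    · exact absurd (show (4 : F) = 0 by linear_combination -htr) h4
    · exact absurd (show (4 : F) = 0 by linear_combination -htr) h4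
    · rfl
  · exfalso
    have hb' : b = a⁻¹ := by
      rw [mul_assoc, ← mul_assoc tau, tau_q2, mul_assoc (q2 (b, a)), tau_sq, mul_one, ← map_mul, Prod.mk_mul_mk] at hw2
      exact (inv_eq_of_mul_eq_one_right (q2_one h (mul_mem ha hb) (mul_mem hb ha) hw2).1).symm
    rw [trace_q2_tau, ← val_mul, hb', mul_inv_cancel] at htr
    simp [Matrix.trace_fin_three] at htr
    exact h4 (by linear_combination -htr)

theorem trace_jj : (jj : GT).val.trace = (1 : F) := by
  rw [jj, q2_val, trace_kron]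
  show (Tm : Mn).trace * (Tm : Mn).trace = 1
  rw [trace_Tm]; ring

/-! ### Commuting with the symplectic group -/

/-- A matrix commuting with the four generators is scalar. -/
theorem scalar_of_comm4 (h : Root ω) {M : MT} (hX : ∀ i : Fin 2, M * fa i (Xm ω) = fa i (Xm ω) * M)
    (hY : ∀ i : Fin 2, M * fa i (Ym : Mn) = fa i (Ym : Mn) * M) : ∃ c : F, M = c • 1 := by
  let S0 : Fin 3 → Fin 3 → Mn := fun k l => Matrix.of fun a c => M ![a, k] ![c, l]
  let S1 : Fin 3 → Fin 3 → Mn := fun a c => Matrix.of fun k l => M ![a, k] ![c, l]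
  have c0 : ∀ A : Mn, M * fa 0 A = fa 0 A * M → ∀ k l, S0 k l * A = A * S0 k l := by
    intro A hA k l
    ext a c
    have := congrFun (congrFun hA ![a, k]) ![c, l]
    rw [show (fa (0 : Fin 2) A : MT) = fa 0 A * fa 1 (1 : Mn) by rw [map_one, mul_one],
      Matrix.mul_apply, Matrix.mul_apply, sum_pairs, sum_pairs] at this
    simp only [fa_mul_apply, Matrix.one_apply] at this
    simpa [Matrix.mul_apply, S0] using this
  have c1 : ∀ A : Mn, M * fa 1 A = fa 1 A * M → ∀ a c, S1 a c * A = A * S1 a c := by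
    intro A hA a c
    ext k l
    have := congrFun (congrFun hA ![a, k]) ![c, l]
    rw [show (fa (1 : Fin 2) A : MT) = fa 0 (1 : Mn) * fa 1 A by rw [map_one, one_mul],
      Matrix.mul_apply, Matrix.mul_apply, sum_pairs, sum_pairs] at this
    simp only [fa_mul_apply, Matrix.one_apply] at this
    simp only [one_mul, zero_mul, mul_ite, ite_mul, mul_zero, Finset.sum_ite_irrel, Finset.sum_const_zero, Finset.sum_ite_eq,
      Finset.sum_ite_eq', Finset.mem_univ, if_true] at this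
    simpa [Matrix.mul_apply, S1] using this
  have e0 := fun k l => scalar_of_commXY h (c0 _ (hX 0) k l) (c0 _ (hY 0) k l)
  have e1 := fun a c => scalar_of_commXY h (c1 _ (hX 1) a c) (c1 _ (hY 1) a c)
  refine ⟨M ![0, 0] ![0, 0], ?_⟩
  ext x y
  have hx : ![x 0, x 1] = x := by funext i; fin_cases i <;> rfl
  have hy : ![y 0, y 1] = y := by funext i; fin_cases i <;> rfl
  have f0 : M x y = M ![0, x 1] ![0, y 1] * (1 : Mn) (x 0) (y 0) := by
    have := congrFun (congrFun (e0 (x 1) (y 1)) (x 0)) (y 0)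
    simp only [S0, Matrix.smul_apply, Matrix.of_apply, smul_eq_mul, hx, hy] at this
    exact this
  have f1 : M ![0, x 1] ![0, y 1] = M ![0, 0] ![0, 0] * (1 : Mn) (x 1) (y 1) := by
    have := congrFun (congrFun (e1 0 0) (x 1)) (y 1)
    simpa [S1] using this
  rw [f0, f1, Matrix.smul_apply, smul_eq_mul, mul_assoc]
  congr 1
  simp only [Matrix.one_apply]
  by_cases e : x = y
  · simp [e]
  · rw [if_neg e]
    by_cases ea : x 1 = y 1
    · rw [if_neg (fun eb : x 0 = y 0 => e (by funext i; fin_cases i <;> assumption)), mul_zero]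
    · rw [if_neg ea, zero_mul]

/-! ### The group of order twenty-seven -/

theorem R1_inR (h : Root ω) {S : SL} (hS : S ∈ R1 h) : InR ω S.1 ∧ S * (S * S) = 1 := by
  have cube : ∀ {T : SL}, InR ω T.1 → T * (T * T) = 1 := fun {T} hT => Subtype.ext (by
    obtain ⟨⟨k, i, j⟩, e⟩ := inR_fin h hT
    rw [val_mul, val_mul, e]
    simp only [Matrix.smul_mul, Matrix.mul_smul, smul_smul]
    rw [W_cube h, ← pow_add, ← pow_add, show (k : ℕ) + k + k = 3 * k by ring, pow_mul, h.cube, one_pow, one_smul]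
    rfl)
  have hR : InR ω S.1 := by
    induction hS using Subgroup.closure_induction with
    | mem x hx =>
      rcases hx with rfl | rfl
      · exact ⟨0, 1, 0, by simp [show (sX h : SL).1 = Xm ω from rfl]⟩
      · exact ⟨0, 0, 1, by simp [show (sY : SL).1 = Ym from rfl]⟩
    | one => exact InR.one
    | mul x y _ _ hx hy => rw [val_mul]; exact hx.mul h hy
    | inv x _ hx =>
      rw [inv_eq_of_mul_eq_one_right (cube hx), val_mul]
      exact hx.mul h hx
  exact ⟨hR, cube hR⟩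

theorem R1_commX (h : Root ω) {B : SL} (hB : B ∈ R1 h) (hc : B * sX h = sX h * B) :
    ∃ k i : ℕ, B = sZ h ^ k * sX h ^ i := by
  obtain ⟨⟨k, i, j⟩, e⟩ := inR_fin h (R1_inR h hB).1
  refine ⟨k, i, Subtype.ext ?_⟩
  rw [val_mul, sZ_pow_val, Matrix.SpecialLinearGroup.coe_pow, Matrix.smul_mul, one_mul, e]
  suffices hj : j = 0 by
    subst hj
    rw [Fin.val_zero, pow_zero, mul_one]
    rfl
  by_contra hj
  have hd := diag_of_commX h (congrArg Subtype.val hc)
  have hdet : B.1.det = 1 := B.2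
  rw [hd, Matrix.det_diagonal] at hdet
  have h0 : B.1 0 0 = 0 := by
    rw [e, Matrix.smul_apply, show Xm ω ^ (i : ℕ) = Matrix.diagonal ((![1, ω, ω * ω] : Fin 3 → F) ^ (i : ℕ)) from
      Matrix.diagonal_pow _ _, Matrix.diagonal_mul]
    fin_cases j
    · exact absurd rfl hj
    · simp [Ym]
    · simp [Ym, pow_two, Matrix.mul_apply, Fin.sum_univ_three]
  rw [Finset.prod_eq_zero (f := fun i => B.1 i i) (Finset.mem_univ (0 : Fin 3)) h0] at hdet
  exact zero_ne_one hdet

/-! ### The two hypotheses of the proper case -/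

/-- Elements of order three centralising the first quaternion group and inverted by the involution lie in the
second small group. -/
def CentThree (h : Root ω) (H : Subgroup (GL (Fin 2 → Fin 3) F)) : Prop :=
  ∀ z ∈ H, z * fu 0 (tG (sF h)) = fu 0 (tG (sF h)) * z → z * fu 0 (tG (sG h)) = fu 0 (tG (sG h)) * z →
    z * (z * z) = 1 → jj * z * jj⁻¹ = z⁻¹ → ∃ S ∈ R1 h, z = fu 1 (tG S)

/-- The inverting involution is alone in its class in the `2`-group. -/
def OnlyJJ (h : Root ω) : Prop :=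
  ∀ w ∈ PG h, w * w = 1 → (∃ g : GL (Fin 2 → Fin 3) F, w = g * jj * g⁻¹) → w = jj

theorem onlyJJ_of_two (h : Root ω) (h2 : (2 : F) ≠ 0) : OnlyJJ h := by
  rintro w hw hw2 ⟨g, rfl⟩
  exact PG_trace h h2 hw hw2 (by rw [Units.val_mul, Units.val_mul, Matrix.trace_units_conj, trace_jj])

end CfsgLib.MaxSub.SLNine
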