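/-
Eigenvectors for the conjugation action of the group `3^(1+4)` on matrices.
-/
import Cfsg.Agent.Lib.MaxSub.SLNine.Quat

set_option autoImplicit false
set_option maxHeartbeats 800000
set_option linter.unusedSectionVars false

namespace CfsgLib.MaxSub.SLNine

open Matrix CfsgLib.MaxSub.SLThree.Hess
open CfsgLib.MaxSub.TensorPow
open scoped commutatorElement

universe u

variable {F : Type u} [Field F] {ω : F}

local notation "G3" => GL (Fin 3) F
local notation "GT" => GL (Fin 2 → Fin 3) F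
local notation "Mn" => Matrix (Fin 3) (Fin 3) F
local notation "MT" => Matrix (Fin 2 → Fin 3) (Fin 2 → Fin 3) F
local notation "SL" => Matrix.SpecialLinearGroup (Fin 3) F

/-- Being a scalar matrix. -/
def IsSc (M : Matrix (Fin 2 → Fin 3) (Fin 2 → Fin 3) F) : Prop := ∃ c : F, M = c • 1

theorem IsSc.smul {M : MT} (hM : IsSc M) (a : F) : IsSc (a • M) := by
  obtain ⟨c, rfl⟩ := hM
  exact ⟨a * c, smul_smul a c 1⟩

theorem IsSc.add {M N : MT} (hM : IsSc M) (hN : IsSc N) : IsSc (M + N) := by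
  obtain ⟨c, rfl⟩ := hM
  obtain ⟨d, rfl⟩ := hN
  exact ⟨c + d, (add_smul c d 1).symm⟩

/-- The standard form of an eigenvector. -/
def Eig (ω : F) (M : Matrix (Fin 2 → Fin 3) (Fin 2 → Fin 3) F) : Prop :=
  ∀ i : Fin 2, (∃ a : ℕ, M * fa i (Xm ω) = ω ^ a • (fa i (Xm ω) * M)) ∧
    ∃ b : ℕ, M * fa i (Ym : Matrix (Fin 3) (Fin 3) F) = ω ^ b • (fa i (Ym : Matrix (Fin 3) (Fin 3) F) * M)

/-- Moving a generator past a monomial. -/
theorem push (h : Root ω) (a b : ℕ) :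
    (Ym : Mn) ^ a * Xm ω ^ b * Xm ω = (ω * ω) ^ a • (Xm ω * (Ym ^ a * Xm ω ^ b)) ∧
      (Ym : Mn) ^ a * Xm ω ^ b * Ym = ω ^ b • (Ym * (Ym ^ a * Xm ω ^ b)) := by
  have hXY : Xm ω * Ym = ω • (Ym * Xm ω) := XY h
  have hyx : Ym * Xm ω = (ω * ω) • (Xm ω * Ym) := by
    rw [XY h, smul_smul, show ω * ω * ω = ω ^ 3 by ring, h.cube, one_smul]
  have yp : ∀ m : ℕ, Ym ^ m * Xm ω = (ω * ω) ^ m • (Xm ω * Ym ^ m) := fun m => by
    induction m with
    | zero => simp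
    | succ m ih =>
      rw [pow_succ', mul_assoc, ih, Matrix.mul_smul, ← mul_assoc, hyx, Matrix.smul_mul, smul_smul, mul_assoc,
        ← pow_succ]
  have xp : ∀ m : ℕ, Xm ω ^ m * Ym = ω ^ m • (Ym * Xm ω ^ m) := fun m => by
    induction m with
    | zero => simp
    | succ m ih =>
      rw [pow_succ', mul_assoc, ih, Matrix.mul_smul, ← mul_assoc, hXY, Matrix.smul_mul, smul_smul, mul_assoc,
        ← pow_succ]
  constructor
  · rw [mul_assoc, ← pow_succ, pow_succ', ← mul_assoc, yp, Matrix.smul_mul, mul_assoc]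
  · rw [mul_assoc, xp, Matrix.mul_smul, ← mul_assoc, ← pow_succ, pow_succ', mul_assoc]

theorem eig_form (h : Root ω) {M : MT} (hM : Eig ω M) :
    ∃ (c : F) (S S' : SL), S ∈ R1 h ∧ S' ∈ R1 h ∧ M = c • (fa 0 S.1 * fa 1 S'.1) := by
  obtain ⟨⟨a, hX⟩, ⟨b, hY⟩⟩ := hM 0
  obtain ⟨⟨c, hX'⟩, ⟨d, hY'⟩⟩ := hM 1
  set W : MT := fa 0 (Ym ^ a * Xm ω ^ (2 * b)) * fa 1 (Ym ^ c * Xm ω ^ (2 * d)) with hW
  have hc : ∀ {i : Fin 2} {A : Mn}, Commute (fa (1 - i) A : MT) (fa i (Xm ω)) ∧ Commute (fa (1 - i) A : MT) (fa i (Ym : Mn)) :=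
    fun {i A} => ⟨fa_commute (by revert i; decide) _ _, fa_commute (by revert i; decide) _ _⟩
  obtain ⟨p0X, p0Y⟩ := push h a (2 * b)
  obtain ⟨p1X, p1Y⟩ := push h c (2 * d)
  have e0X : W * fa 0 (Xm ω) = (ω * ω) ^ a • (fa 0 (Xm ω) * W) := by
    rw [hW, mul_assoc, (fa_commute (by decide : (1 : Fin 2) ≠ 0) _ _).eq, ← mul_assoc, ← map_mul, p0X, map_smul,
      Matrix.smul_mul, map_mul, mul_assoc]
  have e0Y : W * fa 0 (Ym : Mn) = ω ^ (2 * b) • (fa 0 (Ym : Mn) * W) := by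
    rw [hW, mul_assoc, (fa_commute (by decide : (1 : Fin 2) ≠ 0) _ _).eq, ← mul_assoc, ← map_mul, p0Y, map_smul,
      Matrix.smul_mul, map_mul, mul_assoc]
  have e1X : W * fa 1 (Xm ω) = (ω * ω) ^ c • (fa 1 (Xm ω) * W) := by
    rw [hW, mul_assoc, ← map_mul, p1X, map_smul, Matrix.mul_smul, map_mul (fa (1 : Fin 2)) (Xm ω) (Ym ^ c * Xm ω ^ (2 * d)), ← mul_assoc,
      (fa_commute (by decide : (0 : Fin 2) ≠ 1) _ _).eq, mul_assoc]
  have e1Y : W * fa 1 (Ym : Mn) = ω ^ (2 * d) • (fa 1 (Ym : Mn) * W) := by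
    rw [hW, mul_assoc, ← map_mul, p1Y, map_smul, Matrix.mul_smul, map_mul (fa (1 : Fin 2)) (Ym : Mn) (Ym ^ c * Xm ω ^ (2 * d)), ← mul_assoc,
      (fa_commute (by decide : (0 : Fin 2) ≠ 1) _ _).eq, mul_assoc]
  have kill : ∀ {G : MT} {m k : ℕ}, M * G = ω ^ m • (G * M) → W * G = ω ^ k • (G * W) → (∃ l, m + k = 3 * l) →
      M * W * G = G * (M * W) := by
    rintro G m k e1 e2 ⟨l, hl⟩
    rw [mul_assoc, e2, Matrix.mul_smul, ← mul_assoc, e1, Matrix.smul_mul, smul_smul, ← pow_add, add_comm, hl, pow_mul,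
      h.cube, one_pow, one_smul, mul_assoc]
  have sq : ∀ m : ℕ, (ω * ω) ^ m = ω ^ (2 * m) := fun m => by rw [← pow_two, ← pow_mul]
  rw [sq] at e0X e1X
  obtain ⟨r, hr⟩ := scalar_of_comm4 h (M := M * W)
    (fun i => by
      fin_cases i
      exacts [kill hX e0X ⟨a, by ring⟩, kill hX' e1X ⟨c, by ring⟩])
    (fun i => by
      fin_cases i
      exacts [kill hY e0Y ⟨b, by ring⟩, kill hY' e1Y ⟨d, by ring⟩])
  have hinv : ∀ m k : ℕ, (Ym : Mn) ^ m * Xm ω ^ (2 * k) * (Xm ω ^ k * Ym ^ (2 * m)) = 1 := fun m k => by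
    rw [mul_assoc, ← mul_assoc (Xm ω ^ (2 * k)), ← pow_add, show 2 * k + k = 3 * k by ring, pow_mul, pow_three,
      Xm_cube h, one_pow, one_mul, ← pow_add, show m + 2 * m = 3 * m by ring, pow_mul, pow_three, Ym_cube, one_pow]
  refine ⟨r, sX h ^ b * sY ^ (2 * a), sX h ^ d * sY ^ (2 * c),
    mul_mem (pow_mem (sX_mem h) _) (pow_mem (sY_mem h) _), mul_mem (pow_mem (sX_mem h) _) (pow_mem (sY_mem h) _), ?_⟩
  rw [val_mul, val_mul, Matrix.SpecialLinearGroup.coe_pow, Matrix.SpecialLinearGroup.coe_pow,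
    Matrix.SpecialLinearGroup.coe_pow, Matrix.SpecialLinearGroup.coe_pow]
  change M = r • (fa 0 (Xm ω ^ b * Ym ^ (2 * a)) * fa 1 (Xm ω ^ d * Ym ^ (2 * c)))
  rw [← one_mul (fa (0 : Fin 2) (Xm ω ^ b * Ym ^ (2 * a)) * fa 1 (Xm ω ^ d * Ym ^ (2 * c))), ← Matrix.smul_mul, ← hr,
    mul_assoc, hW, kron_mul, hinv, hinv, map_one, map_one, one_mul, mul_one]

/-- A non-scalar invariant subspace contains a non-scalar eigenvector of one transformation. -/
theorem eigen_step (h : Root ω) {V : Submodule F MT} (g : GT) (hg : g * (g * g) = 1)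
    (hV : ∀ X ∈ V, Ad g X ∈ V) (hns : ∃ X ∈ V, ¬ IsSc X) :
    ∃ k : ℕ, ∃ X ∈ V, ¬ IsSc X ∧ Ad g X = ω ^ k • X := by
  obtain ⟨X, hX, hXns⟩ := hns
  set Y := Ad g X with hY
  set Z := Ad g Y with hZ
  have hZX : Ad g Z = X := by rw [hZ, hY, ← Ad_mul, ← Ad_mul, mul_assoc, hg, Ad_one]
  let w : ℕ → MT := fun k => X + (ω * ω) ^ k • Y + ω ^ k • Z
  have hwV : ∀ k, w k ∈ V := fun k =>
    V.add_mem (V.add_mem hX (V.smul_mem _ (hV X hX))) (V.smul_mem _ (hV _ (hV X hX)))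
  have hw : ∀ k, Ad g (w k) = ω ^ k • w k := fun k => by
    simp only [w, map_add, map_smul, ← hY, ← hZ, hZX, smul_add, smul_smul]
    rw [show ω ^ k * (ω * ω) ^ k = 1 by rw [← mul_pow, show ω * (ω * ω) = ω ^ 3 by ring, h.cube, one_pow],
      one_smul, show ω ^ k * ω ^ k = (ω * ω) ^ k by rw [mul_pow]]
    abel
  by_contra hno
  have hsc : ∀ k, IsSc (w k) := fun k => by
    by_contra hk
    exact hno ⟨k, w k, hwV k, hk, hw k⟩
  refine hXns ?_
  have := ((hsc 0).add (hsc 1)).add (hsc 2)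
  have e : w 0 + w 1 + w 2 = (3 : F) • X := by
    have e1 := h.eq
    have e2 : ω ^ 2 = ω * ω := pow_two ω
    have e3 : (ω * ω) ^ 2 = ω := by linear_combination ω * h.cube
    simp only [w, pow_zero, pow_one, e2, e3, one_smul]
    rw [show X + Y + Z + (X + (ω * ω) • Y + ω • Z) + (X + ω • Y + (ω * ω) • Z) =
      (1 + 1 + 1 : F) • X + (1 + ω * ω + ω) • Y + (1 + ω + ω * ω) • Z by
        simp only [add_smul, one_smul]; abel,
      show 1 + ω * ω + ω = 0 by linear_combination e1, show 1 + ω + ω * ω = 0 by linear_combination e1, zero_smul,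
      zero_smul, add_zero, add_zero, show (1 + 1 + 1 : F) = 3 by norm_num]
  rw [e] at this
  have := this.smul (3 : F)⁻¹
  rwa [smul_smul, inv_mul_cancel₀ h.three, one_smul] at this

theorem eig_of_ad (h : Root ω) {g : GT} {X : MT} {k : ℕ} (e : Ad g X = ω ^ k • X) :
    X * g.val = ω ^ (2 * k) • (g.val * X) := by
  have e' := congrArg (fun M : MT => ω ^ (2 * k) • (M * g.val)) e
  replace e' : ω ^ (2 * k) • (Ad g X * g.val) = ω ^ (2 * k) • (ω ^ k • X * g.val) := e'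
  rw [Ad_apply, mul_assoc, Units.inv_mul, mul_one, Matrix.smul_mul, smul_smul, ← pow_add,
    show 2 * k + k = 3 * k by ring, pow_mul ω 3 k, h.cube, one_pow, one_smul] at e'
  exact e'.symm

theorem Ad_comm {g g' : GT} {c : F} (hc : c ≠ 0) (e : g.val * g'.val = c • (g'.val * g.val)) (X : MT) :
    Ad g (Ad g' X) = Ad g' (Ad g X) := by
  have e' : ((g * g')⁻¹ : GT).val = c⁻¹ • ((g' * g)⁻¹ : GT).val := by
    have h1 : (g * g').val * (c⁻¹ • ((g' * g)⁻¹ : GT).val) = 1 := by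
      rw [Units.val_mul, e, Matrix.smul_mul, Matrix.mul_smul, smul_smul, mul_inv_cancel₀ hc, one_smul,
        ← Units.val_mul, Units.mul_inv]
    calc ((g * g')⁻¹ : GT).val = ((g * g')⁻¹ : GT).val * ((g * g').val * (c⁻¹ • ((g' * g)⁻¹ : GT).val)) := by
          rw [h1, mul_one]
      _ = _ := by rw [← mul_assoc, Units.inv_mul, one_mul]
  rw [← Ad_mul, ← Ad_mul, Ad_apply, Ad_apply, e', Units.val_mul, e, Matrix.smul_mul, Matrix.smul_mul, Matrix.mul_smul,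
    smul_smul, mul_inv_cancel₀ hc, one_smul, Units.val_mul]

/-- A non-scalar invariant subspace contains a non-scalar element of standard form. -/
theorem exists_eigen (h : Root ω) {V : Submodule F MT}
    (hV : ∀ i : Fin 2, ∀ X ∈ V, Ad (fu i (tG (sX h))) X ∈ V ∧ Ad (fu i (tG sY)) X ∈ V)
    (hns : ∃ X ∈ V, ¬ IsSc X) : ∃ X ∈ V, ¬ IsSc X ∧ Eig ω X := by
  let idx : Fin 4 → Fin 2 := ![0, 0, 1, 1]
  let gen : Fin 4 → SL := ![sX h, sY, sX h, sY]
  let g : Fin 4 → GT := fun n => fu (idx n) (tG (gen n))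
  have hgen : ∀ n, gen n ∈ R1 h := by
    intro n
    fin_cases n
    exacts [sX_mem h, sY_mem h, sX_mem h, sY_mem h]
  have hg3 : ∀ n, g n * (g n * g n) = 1 := fun n => by
    show fu _ (tG (gen n)) * (fu _ (tG (gen n)) * fu _ (tG (gen n))) = 1
    rw [← map_mul, ← map_mul, ← tG_mul, ← tG_mul, (R1_inR h (hgen n)).2, tG_one, map_one]
  have hgV : ∀ n, ∀ X ∈ V, Ad (g n) X ∈ V := by
    intro n X hX
    fin_cases n
    exacts [(hV 0 X hX).1, (hV 0 X hX).2, (hV 1 X hX).1, (hV 1 X hX).2]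
  have hcomm : ∀ n m, ∃ c : F, c ≠ 0 ∧ (g n).val * (g m).val = c • ((g m).val * (g n).val) := by
    intro n m
    show ∃ c : F, c ≠ 0 ∧ (fu (idx n) (tG (gen n)) : GT).val * (fu (idx m) (tG (gen m)) : GT).val =
      c • ((fu (idx m) (tG (gen m)) : GT).val * (fu (idx n) (tG (gen n)) : GT).val)
    simp only [fu_val, tG_val]
    by_cases hij : idx n = idx m
    · rw [hij]
      obtain ⟨r, hr, hr'⟩ := Matrix.SpecialLinearGroup.mem_center_iff.1 (R1_comm h (hgen n) (hgen m))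
      refine ⟨r, fun hr0 => ?_, ?_⟩
      · rw [hr0] at hr; simp at hr
      · have e : gen n * gen m = ⁅gen n, gen m⁆ * (gen m * gen n) := by rw [commutatorElement_def]; group
        rw [← map_mul, ← map_mul, ← val_mul, e, val_mul, ← hr', Matrix.scalar_apply, ← Matrix.smul_one_eq_diagonal,
          Matrix.smul_mul, one_mul, map_smul, val_mul]
    · exact ⟨1, one_ne_zero, by rw [one_smul]; exact fa_commute hij _ _⟩
  suffices main : ∀ N : ℕ, N ≤ 4 → ∃ W : Submodule F MT, W ≤ V ∧ (∃ X ∈ W, ¬ IsSc X) ∧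
      (∀ n, ∀ X ∈ W, Ad (g n) X ∈ W) ∧ ∀ n : Fin 4, (n : ℕ) < N → ∃ k : ℕ, ∀ X ∈ W, Ad (g n) X = ω ^ k • X by
    obtain ⟨W, hWV, ⟨X, hX, hns'⟩, -, hk⟩ := main 4 le_rfl
    refine ⟨X, hWV hX, hns', fun i => ?_⟩
    have get : ∀ n : Fin 4, ∃ k : ℕ, X * (g n).val = ω ^ k • ((g n).val * X) := fun n => by
      obtain ⟨k, hk'⟩ := hk n n.isLt
      exact ⟨2 * k, eig_of_ad h (hk' X hX)⟩
    fin_cases i
    · exact ⟨get 0, get 1⟩
    · exact ⟨get 2, get 3⟩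
  intro N
  induction N with
  | zero => exact fun _ => ⟨V, le_rfl, hns, hgV, fun n hn => absurd hn (Nat.not_lt_zero _)⟩
  | succ N ih =>
    intro hN
    obtain ⟨W, hWV, hW, hWi, hk⟩ := ih (by omega)
    obtain ⟨k, X, hX, hXns, hXk⟩ := eigen_step h (g ⟨N, by omega⟩) (hg3 _) (hWi _) hW
    let W' : Submodule F MT :=
      { carrier := {Y | Y ∈ W ∧ Ad (g ⟨N, by omega⟩) Y = ω ^ k • Y}
        add_mem' := fun {a b} ha hb => ⟨W.add_mem ha.1 hb.1, by rw [map_add, ha.2, hb.2, smul_add]⟩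
        zero_mem' := ⟨W.zero_mem, by rw [map_zero, smul_zero]⟩
        smul_mem' := fun c a ha => ⟨W.smul_mem c ha.1, by rw [map_smul, ha.2, smul_comm]⟩ }
    refine ⟨W', fun Y hY => hWV hY.1, ⟨X, ⟨hX, hXk⟩, hXns⟩, fun n Y hY => ⟨hWi n Y hY.1, ?_⟩, fun n hn => ?_⟩
    · obtain ⟨c, hc0, hc⟩ := hcomm ⟨N, by omega⟩ n
      rw [Ad_comm hc0 hc, hY.2, map_smul]
    · rcases Nat.lt_succ_iff_lt_or_eq.1 hn with hlt | heq
      · obtain ⟨k', hk'⟩ := hk n hlt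
        exact ⟨k', fun Y hY => hk' Y hY.1⟩
      · refine ⟨k, fun Y hY => ?_⟩
        rw [show n = ⟨N, by omega⟩ from Fin.ext heq]
        exact hY.2

end CfsgLib.MaxSub.SLNine
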