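/-
The inverting involution is isolated in a proper overgroup of the normaliser.
-/
import Cfsg.Agent.Lib.MaxSub.SLNine.Quat
import Cfsg.Prelude.Def_IsolatedElements
import Mathlib.GroupTheory.Nilpotent
import Mathlib.GroupTheory.Sylow

set_option autoImplicit false
set_option maxHeartbeats 800000
set_option linter.unusedSectionVars false

namespace CfsgLib.MaxSub.SLNine

open Matrix CfsgLib.MaxSub.SLThree.Hess
open CfsgLib.MaxSub.TensorPow
open scoped commutatorElement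

universe u

variable {F : Type u} [Field F] {ω : F}

local notation "G3" => GL (Fin 3) F
local notation "GT" => GL (Fin 2 → Fin 3) F
local notation "Mn" => Matrix (Fin 3) (Fin 3) F
local notation "MT" => Matrix (Fin 2 → Fin 3) (Fin 2 → Fin 3) F
local notation "SL" => Matrix.SpecialLinearGroup (Fin 3) F
local notation "P3" => Matrix.ProjectiveSpecialLinearGroup (Fin 3) F

variable {h : Root ω} {H : Subgroup (GL (Fin 2 → Fin 3) F)}

theorem sX_cube (h : Root ω) : sX h * (sX h * sX h) = (1 : SL) := Subtype.ext (Xm_cube h)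

theorem sY_cube : sY * (sY * sY) = (1 : SL) := Subtype.ext Ym_cube

theorem fu_sZ_comm (h : Root ω) (i : Fin 2) (k : ℕ) (g : GT) : Commute (fu i (tG (sZ h ^ k))) g := by
  refine Units.ext ?_
  rw [Units.val_mul, Units.val_mul, fu_val, tG_val, sZ_pow_val, map_smul, map_one, Matrix.smul_mul, one_mul,
    Matrix.mul_smul, mul_one]

theorem HasN.PG_le (N : HasN h H) : PG h ≤ H := by
  have hq : ∀ i : Fin 2, ∀ a ∈ Qs h, fu i (tG a) ∈ H := fun i a ha =>
    (Subgroup.closure_le (K := H.comap ((fu i).comp Matrix.SpecialLinearGroup.toGL))).2 (by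
      rintro _ (rfl | rfl)
      exacts [N.both N.f i, N.both N.g i]) ha
  rintro _ ⟨a, ha, b, hb, rfl | rfl⟩
  · exact H.mul_mem (hq 0 a ha) (hq 1 b hb)
  · exact H.mul_mem (H.mul_mem (hq 0 a ha) (hq 1 b hb)) N.t

/-- Elements of the group normalising the `2`-group and fixing both involutions. -/
structure Adm (h : Root ω) (H : Subgroup (GL (Fin 2 → Fin 3) F)) (x : GL (Fin 2 → Fin 3) F) : Prop where
  mem : x ∈ H
  norm : ∀ w ∈ PG h, x * w * x⁻¹ ∈ PG h
  norm' : ∀ w ∈ PG h, x⁻¹ * w * x ∈ PG h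
  cj : Commute x jj
  ci : Commute x ii

theorem Adm.inv {x : GT} (a : Adm h H x) : Adm h H x⁻¹ where
  mem := H.inv_mem a.mem
  norm w hw := by rw [inv_inv]; exact a.norm' w hw
  norm' w hw := by rw [inv_inv]; exact a.norm w hw
  cj := a.cj.inv_left
  ci := a.ci.inv_left

theorem Adm.mul {x y : GT} (a : Adm h H x) (b : Adm h H y) : Adm h H (x * y) where
  mem := H.mul_mem a.mem b.mem
  norm w hw := by
    have := a.norm _ (b.norm w hw)
    rwa [show x * (y * w * y⁻¹) * x⁻¹ = x * y * w * (x * y)⁻¹ by group] at this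
  norm' w hw := by
    have := b.norm' _ (a.norm' w hw)
    rwa [show y⁻¹ * (x⁻¹ * w * x) * y = (x * y)⁻¹ * w * (x * y) by group] at this
  cj := a.cj.mul_left b.cj
  ci := a.ci.mul_left b.ci

theorem Adm.swap (N : HasN h H) {x : GT} (a : Adm h H x) : Adm h H (tau * x * tau⁻¹) where
  mem := H.mul_mem (H.mul_mem N.t a.mem) (H.inv_mem N.t)
  norm w hw := by
    have ht := tau_mem (F := F) h
    have := mul_mem (mul_mem ht (a.norm _ (mul_mem (mul_mem (inv_mem ht) hw) ht))) (inv_mem ht)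
    rwa [show tau * (x * (tau⁻¹ * w * tau) * x⁻¹) * tau⁻¹ = tau * x * tau⁻¹ * w * (tau * x * tau⁻¹)⁻¹ by group] at this
  norm' w hw := by
    have ht := tau_mem (F := F) h
    have := mul_mem (mul_mem ht (a.norm' _ (mul_mem (mul_mem (inv_mem ht) hw) ht))) (inv_mem ht)
    rwa [show tau * (x⁻¹ * (tau⁻¹ * w * tau) * x) * tau⁻¹ = (tau * x * tau⁻¹)⁻¹ * w * (tau * x * tau⁻¹) by group] at this
  cj := by
    have e : tau * jj * tau⁻¹ = (jj : GT) := by
      rw [(PG_jj h (tau_mem h)).eq, mul_inv_cancel_right]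
    have := a.cj.map (MulAut.conj (tau : GT)).toMonoidHom
    simpa [MulAut.conj_apply, e] using this
  ci := by
    have e : (ii : GT) * jj = q2 (1, sT) := by rw [ii, jj, ← map_mul, Prod.mk_mul_mk, TT, one_mul]
    have e' : tau * q2 (1, sT) * tau⁻¹ = (ii : GT) := by rw [tau_q2, mul_inv_cancel_right]; rfl
    have := (a.ci.mul_right a.cj).map (MulAut.conj (tau : GT)).toMonoidHom
    rw [e] at this
    simpa [MulAut.conj_apply, e'] using this

theorem q2_adm (N : HasN h H) {a b : SL} (ha : a ∈ Qs h) (hb : b ∈ Qs h) : Adm h H (q2 (a, b)) where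
  mem := N.PG_le (q2_mem h ha hb)
  norm w hw := mul_mem (mul_mem (q2_mem h ha hb) hw) (inv_mem (q2_mem h ha hb))
  norm' w hw := mul_mem (mul_mem (inv_mem (q2_mem h ha hb)) hw) (q2_mem h ha hb)
  cj := PG_jj h (q2_mem h ha hb)
  ci := show q2 (a, b) * q2 (sT, 1) = q2 (sT, 1) * q2 (a, b) by
    rw [← map_mul, ← map_mul, Prod.mk_mul_mk, Prod.mk_mul_mk, (T_comm_Q h ha).eq, mul_one, one_mul]

/-- The quaternion group of the first factor is fixed. -/
theorem Adm.left (N : HasN h H) {x : GT} (hx : Adm h H x) {a : SL} (ha : a ∈ Qs h) :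
    ∃ c ∈ Qs h, x * fu 0 (tG a) * x⁻¹ = fu 0 (tG c) := by
  obtain ⟨c, hc, d, hd, e | e⟩ := hx.norm _ (q2_mem h ha (one_mem _))
  swap
  · refine absurd ?_ (PG_not_comm h hc hd)
    rw [← e]
    exact ((hx.ci.mul_left (q2_adm N ha (one_mem _)).ci).mul_left hx.ci.inv_left)
  refine ⟨c, hc, ?_⟩
  rw [q2_left] at e
  rw [e, ← q2_left]
  congr 2
  let Z : MT := fa (0 : Fin 2) (1 + Tm)
  have hZ : Z = 1 + (ii : GT).val := by
    show fa 0 (1 + Tm) = 1 + fa 0 Tm * fa 1 (1 : Mn)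
    rw [map_add, map_one, map_one, mul_one]
  have hcZ : Commute x.val Z := by
    rw [hZ]
    exact (Commute.one_right _).add_right (Commute.units_val hx.ci)
  have h1 : (fu (0 : Fin 2) (tG a) : GT).val * Z = Z := by
    show fa 0 a.1 * fa 0 (1 + Tm) = _
    rw [← map_mul, Q_TP h ha]
  have h3 : (q2 (c, d) : GT).val * Z = Z := by
    rw [← e, Units.val_mul, Units.val_mul, mul_assoc, show (x⁻¹ : GT).val * Z = Z * (x⁻¹ : GT).val from
      (hcZ.units_inv_left).eq, mul_assoc, ← mul_assoc (fu (0 : Fin 2) (tG a) : GT).val, h1, ← mul_assoc, hcZ.eq,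
      mul_assoc, Units.mul_inv, mul_one]
  rw [q2_val, show Z = fa 0 (1 + Tm) * fa 1 (1 : Mn) by rw [map_one, mul_one], kron_mul, Q_TP h hc, mul_one] at h3
  refine Subtype.ext ?_
  ext i k
  have := congrFun (congrFun h3 ![1, i]) ![1, k]
  simp only [fa_mul_apply, Matrix.cons_val_zero, Matrix.cons_val_one] at this
  simpa [Tm, Matrix.one_apply] using this

variable [Fintype F]

theorem Adm.move_one (N : HasN h H) (hC : CentThree h H)
    {x : GT} (hx : Adm h H x) {S : SL} (hS : S ∈ R1 h) (hinv : sT * S * sT⁻¹ = S⁻¹) :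
    ∃ S' ∈ R1 h, sT * S' * sT⁻¹ = S'⁻¹ ∧ x * fu 1 (tG S) * x⁻¹ = fu 1 (tG S') := by
  set z := x * fu 1 (tG S) * x⁻¹ with hz
  have hmem : fu (1 : Fin 2) (tG S) ∈ H :=
    (Subgroup.closure_le (K := H.comap ((fu (1 : Fin 2)).comp Matrix.SpecialLinearGroup.toGL))).2 (by
      rintro _ (rfl | rfl)
      exacts [N.swap N.X, N.swap N.Y]) hS
  have hc : ∀ a ∈ Qs h, z * fu 0 (tG a) = fu 0 (tG a) * z := fun a ha => by
    obtain ⟨c, -, e⟩ := hx.inv.left N ha
    rw [inv_inv] at e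
    have e' : fu (0 : Fin 2) (tG a) = x * fu 0 (tG c) * x⁻¹ := by rw [← e]; group
    rw [hz, e', _root_.conj_mul, _root_.conj_mul, ← fu_comm]
  have hfu : fu (0 : Fin 2) (tG sT) * fu 1 (tG sT) = (jj : GT) := rfl
  have hjc : jj * fu 1 (tG S) * jj⁻¹ = ((fu 1 (tG S))⁻¹ : GT) := by
    rw [jj, ← q2_right, ← map_inv, ← map_mul, ← map_mul, ← map_inv, Prod.inv_mk, Prod.mk_mul_mk, Prod.mk_mul_mk,
      mul_one, mul_inv_cancel, hinv, Prod.inv_mk, inv_one]
  obtain ⟨S', hS', e⟩ := hC z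
    (H.mul_mem (H.mul_mem hx.mem hmem) (H.inv_mem hx.mem)) (hc _ (sF_mem h)) (hc _ (sG_mem h))
    (by rw [hz, _root_.conj_mul, _root_.conj_mul, ← map_mul, ← map_mul, ← tG_mul, ← tG_mul, (R1_inR h hS).2,
      tG_one, map_one, mul_one, mul_inv_cancel])
    (by
      rw [hz, _root_.mul_inv_rev, _root_.mul_inv_rev, inv_inv]
      rw [show jj * (x * fu 1 (tG S) * x⁻¹) * jj⁻¹ = (jj * x) * fu 1 (tG S) * (jj * x)⁻¹ by group, ← hx.cj.eq,
        show x * jj * fu 1 (tG S) * (x * jj)⁻¹ = x * (jj * fu 1 (tG S) * jj⁻¹) * x⁻¹ by group, hjc, mul_assoc])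
  refine ⟨S', hS', ?_, e⟩
  have h5 : jj * z * jj⁻¹ = z⁻¹ := by
    rw [show jj * z * jj⁻¹ = (jj * x) * fu 1 (tG S) * (jj * x)⁻¹ by rw [hz]; group, ← hx.cj.eq,
      show x * jj * fu 1 (tG S) * (x * jj)⁻¹ = x * (jj * fu 1 (tG S) * jj⁻¹) * x⁻¹ by group, hjc, hz]
    group
  rw [e, jj, ← q2_right, ← map_inv, ← map_mul, ← map_mul, ← map_inv] at h5
  simp only [Prod.inv_mk, Prod.mk_mul_mk, mul_one, mul_inv_cancel, inv_one] at h5
  simp only [q2_right] at h5
  exact Matrix.SpecialLinearGroup.toGL_injective (fu_injective 1 h5)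

theorem Adm.move_zero (N : HasN h H) (hC : CentThree h H)
    {x : GT} (hx : Adm h H x) {S : SL} (hS : S ∈ R1 h) (hinv : sT * S * sT⁻¹ = S⁻¹) :
    ∃ S' ∈ R1 h, sT * S' * sT⁻¹ = S'⁻¹ ∧ x * fu 0 (tG S) * x⁻¹ = fu 0 (tG S') := by
  obtain ⟨S', hS', hi, e⟩ := (hx.swap N).move_one N hC hS hinv
  refine ⟨S', hS', hi, ?_⟩
  rw [← tau_one, ← tau_one (tG S'), ← e, tau_inv]
  simp only [_root_.mul_inv_rev, mul_assoc, tau_inv]
  rw [← mul_assoc tau tau, tau_sq, one_mul, mul_one]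

/-- The image of the diagonal generator is conjugate to it under the quaternion group. -/
theorem exists_q (h : Root ω) {S : SL} (hS : S ∈ R1 h) (hne : (mk S : P3) ≠ 1) (hinv : sT * S * sT⁻¹ = S⁻¹) :
    ∃ q ∈ Qs h, S = q * sX h * q⁻¹ := by
  obtain ⟨w, hw, hcase⟩ := exists_conj h (R1_mk h hS) hne
  have hlift : Subgroup.closure ({pf h, pg h} : Set P3) ≤ (Qs h).map mk := (Subgroup.closure_le _).2 (by
    rintro _ (rfl | rfl)
    exacts [⟨_, sF_mem h, rfl⟩, ⟨_, sG_mem h, rfl⟩])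
  obtain ⟨q, hq, rfl⟩ := hlift hw
  obtain ⟨r, hr, e⟩ : ∃ r ∈ Qs h, mk S = (mk (r * sX h * r⁻¹) : P3) := by
    rcases hcase with c | c
    · exact ⟨q, hq, by rw [map_mul, map_mul, map_inv]; exact c⟩
    · refine ⟨q * sT, mul_mem hq (sT_mem h), ?_⟩
      rw [show q * sT * sX h * (q * sT)⁻¹ = q * (sT * sX h * sT⁻¹) * q⁻¹ by group, sT_X, ← _root_.inv_inj, ← map_inv,
        ← map_inv, show (q * (sX h)⁻¹ * q⁻¹)⁻¹ = q * sX h * q⁻¹ by group, map_mul, map_mul, map_inv mk S, map_inv mk q]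
      exact c
  refine ⟨r, hr, ?_⟩
  obtain ⟨z, hz, rfl⟩ : ∃ z ∈ Subgroup.center SL, S = r * sX h * r⁻¹ * z :=
    ⟨(r * sX h * r⁻¹)⁻¹ * S, QuotientGroup.eq.1 e.symm, by rw [mul_inv_cancel_left]⟩
  have hzc : ∀ g, g * z = z * g := Subgroup.mem_center_iff.1 hz
  have h1 : sT * (r * sX h * r⁻¹) * sT⁻¹ = (r * sX h * r⁻¹)⁻¹ := by
    rw [show sT * (r * sX h * r⁻¹) * sT⁻¹ = (sT * r) * sX h * (sT * r)⁻¹ by group, (T_comm_Q h hr).eq,
      show r * sT * sX h * (r * sT)⁻¹ = r * (sT * sX h * sT⁻¹) * r⁻¹ by group, sT_X]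
    group
  generalize r * sX h * r⁻¹ = A at h1 hinv ⊢
  have e1 : sT * (A * z) * sT⁻¹ = sT * A * sT⁻¹ * z := by
    simp only [mul_assoc]; rw [← hzc sT⁻¹]
  rw [e1, h1, _root_.mul_inv_rev, hzc] at hinv
  have hzz : z * z = 1 := by
    have := mul_right_cancel hinv
    calc z * z = z⁻¹ * z := by rw [← this]
      _ = 1 := inv_mul_cancel z
  have hz1 : z = 1 := by
    have h3 : z ^ 3 = 1 := by
      rcases center_eq_pow h hz with e | e | e
      · rw [e, one_pow]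
      · rw [e]; exact Subtype.ext (by rw [sZ_pow_val, h.cube, one_smul]; rfl)
      · rw [← _root_.inv_inj, ← inv_pow, inv_one, e]; exact Subtype.ext (by rw [sZ_pow_val, h.cube, one_smul]; rfl)
    rw [pow_succ, pow_two, hzz, one_mul] at h3
    exact h3
  rw [hz1, mul_one]

theorem eq_one_of_coprime {G : Type*} [Monoid G] {c : G} {a b : ℕ} (ha : c ^ a = 1) (hb : c ^ b = 1)
    (hab : Nat.Coprime a b) : c = 1 := by
  rw [← orderOf_eq_one_iff]
  exact Nat.dvd_one.1 (hab ▸ Nat.dvd_gcd (orderOf_dvd_of_pow_eq_one ha) (orderOf_dvd_of_pow_eq_one hb))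

set_option maxHeartbeats 4000000 in
theorem Adm.mem_PG (N : HasN h H) (hC : CentThree h H)
    {x : GT} (hx : Adm h H x) {S : Subgroup GT} (hS : IsPGroup 2 S) (hPS : PG h ≤ S) (hxS : x ∈ S) : x ∈ PG h := by
  have hX1 := sX_mem h
  have hXi := sT_X h
  -- the diagonal generators
  have key : ∀ i : Fin 2, ∃ q ∈ Qs h, x * fu i (tG (sX h)) * x⁻¹ = fu i (tG (q * sX h * q⁻¹)) := by
    intro i
    obtain ⟨S', hS', hi', e⟩ : ∃ S' ∈ R1 h, sT * S' * sT⁻¹ = S'⁻¹ ∧
        x * fu i (tG (sX h)) * x⁻¹ = fu i (tG S') := by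
      fin_cases i
      exacts [hx.move_zero N hC hX1 hXi, hx.move_one N hC hX1 hXi]
    have hne : (CfsgLib.MaxSub.SLThree.Hess.mk S' : P3) ≠ 1 := fun e1 => by
      obtain ⟨c, -, hc⟩ := mk_eq_one.1 e1
      have e2 : (fu i (tG S') : GT).val = c • 1 := by rw [fu_val, tG_val, hc, map_smul, map_one]
      have e3 : (fu i (tG (sX h)) : GT).val = c • 1 := by
        rw [show fu i (tG (sX h)) = x⁻¹ * (x * fu i (tG (sX h)) * x⁻¹) * x by group, e, Units.val_mul, Units.val_mul, e2,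
          Matrix.mul_smul, mul_one, Matrix.smul_mul, Units.inv_mul]
      have e4 : (Xm ω : Mn) = c • 1 := fa_injective i (by rw [map_smul, map_one, ← e3, fu_val]; rfl)
      have a0 := congrFun (congrFun e4 0) 0
      have a1 := congrFun (congrFun e4 1) 1
      simp [Xm] at a0 a1
      exact h.ne_one (a1.trans a0.symm)
    obtain ⟨q, hq, rfl⟩ := exists_q h hS' hne hi'
    exact ⟨q, hq, e⟩
  obtain ⟨q, hq, eq0⟩ := key 0
  obtain ⟨r, hr, eq1⟩ := key 1
  set y := q2 (q⁻¹, r⁻¹) * x with hy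
  have hyA : Adm h H y := (q2_adm N (inv_mem hq) (inv_mem hr)).mul hx
  have hyS : y ∈ S := mul_mem (hPS (q2_mem h (inv_mem hq) (inv_mem hr))) hxS
  have fix : ∀ i : Fin 2, y * fu i (tG (sX h)) * y⁻¹ = fu i (tG (sX h)) := by
    intro i
    rw [hy, show q2 (q⁻¹, r⁻¹) * x * fu i (tG (sX h)) * (q2 (q⁻¹, r⁻¹) * x)⁻¹ =
      q2 (q⁻¹, r⁻¹) * (x * fu i (tG (sX h)) * x⁻¹) * (q2 (q⁻¹, r⁻¹) : GT)⁻¹ by group]
    fin_cases i
    · show _ * (x * fu 0 _ * x⁻¹) * _ = fu 0 _
      rw [eq0, ← q2_left, ← q2_left, ← map_inv, ← map_mul, ← map_mul, Prod.inv_mk, Prod.mk_mul_mk, Prod.mk_mul_mk]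
      congr 2 <;> group
    · show _ * (x * fu 1 _ * x⁻¹) * _ = fu 1 _
      rw [eq1, ← q2_right, ← q2_right, ← map_inv, ← map_mul, ← map_mul, Prod.inv_mk, Prod.mk_mul_mk, Prod.mk_mul_mk]
      congr 2 <;> group
  obtain ⟨n, hn⟩ := hS ⟨y, hyS⟩
  have hn' : y ^ (2 ^ n) = 1 := by simpa using congrArg Subtype.val hn
  have fixY : ∀ i : Fin 2, y * fu i (tG sY) * y⁻¹ = fu i (tG sY) := by
    intro i
    obtain ⟨A, hA, -, e⟩ : ∃ A ∈ R1 h, sT * A * sT⁻¹ = A⁻¹ ∧ y * fu i (tG sY) * y⁻¹ = fu i (tG A) := by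
      fin_cases i
      exacts [hyA.move_zero N hC (sY_mem h) sT_Y, hyA.move_one N hC (sY_mem h) sT_Y]
    set B := A * sY⁻¹ with hB
    have hBR : B ∈ R1 h := mul_mem hA (inv_mem (sY_mem h))
    have hXY : sX h * sY = sZ h ^ 1 * (sY * sX h) := Subtype.ext (by
      rw [val_mul, val_mul, val_mul, sZ_pow_val, pow_one, Matrix.smul_mul, one_mul]
      exact XY h)
    have hXA : sX h * A = sZ h ^ 1 * (A * sX h) := by
      refine Matrix.SpecialLinearGroup.toGL_injective (fu_injective i ?_)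
      have := congrArg (fun w : SL => y * fu i (tG w) * y⁻¹) hXY
      simp only [tG_mul, map_mul] at this ⊢
      rw [← _root_.conj_mul, fix, e] at this
      rw [← _root_.conj_mul, ← _root_.conj_mul, fix, e, ← (fu_sZ_comm h i 1 y).eq, mul_inv_cancel_right] at this
      exact this
    have hcomm : B * sX h = sX h * B := by
      have hc : ∀ g, g * sZ h ^ 1 = sZ h ^ 1 * g :=
        Subgroup.mem_center_iff.1 (pow_mem (sZ_center h) 1)
      have hXY' : sX h * sY⁻¹ = (sZ h ^ 1)⁻¹ * (sY⁻¹ * sX h) := by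
        rw [eq_inv_mul_iff_mul_eq, ← mul_assoc, mul_inv_eq_iff_eq_mul, eq_comm]
        calc sY⁻¹ * sX h * sY = sY⁻¹ * (sX h * sY) := by rw [mul_assoc]
          _ = sZ h ^ 1 * sX h := by rw [hXY, ← mul_assoc, hc, mul_assoc, inv_mul_cancel_left]
      calc B * sX h = A * (sY⁻¹ * sX h) := mul_assoc _ _ _
        _ = A * (sZ h ^ 1 * (sX h * sY⁻¹)) := by rw [hXY', mul_inv_cancel_left]
        _ = sX h * A * sY⁻¹ := by
          rw [← mul_assoc, ← mul_assoc, hc A, hXA]; simp only [mul_assoc]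
        _ = sX h * B := mul_assoc _ _ _
    obtain ⟨k, j, hkj⟩ := R1_commX h hBR hcomm
    have fixB : Commute y (fu i (tG B)) := by
      rw [hkj, tG_mul, map_mul]
      refine (fu_sZ_comm h i k y).symm.mul_right ?_
      have hc : Commute y (fu i (tG (sX h))) := mul_inv_eq_iff_eq_mul.1 (fix i)
      clear hkj
      induction j with
      | zero => rw [pow_zero, tG_one, map_one]; exact Commute.one_right y
      | succ j ih => rw [pow_succ, tG_mul, map_mul]; exact ih.mul_right hc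
    have e' : y * fu i (tG sY) * y⁻¹ = fu i (tG B) * fu i (tG sY) := by
      rw [e, ← map_mul, ← tG_mul, hB, inv_mul_cancel_right]
    have iter : ∀ m : ℕ, y ^ m * fu i (tG sY) * (y ^ m)⁻¹ = fu i (tG B) ^ m * fu i (tG sY) := fun m => by
      induction m with
      | zero => simp
      | succ m ih =>
        rw [pow_succ' y, show y * y ^ m * fu i (tG sY) * (y * y ^ m)⁻¹ = y * (y ^ m * fu i (tG sY) * (y ^ m)⁻¹) * y⁻¹ by
          group, ih, ← _root_.conj_mul, e', show y * fu i (tG B) ^ m * y⁻¹ = fu i (tG B) ^ m by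
          rw [(fixB.pow_right m).eq, mul_inv_cancel_right], pow_succ, mul_assoc]
    have h2n := iter (2 ^ n)
    rw [hn', one_mul, inv_one, mul_one, right_eq_mul] at h2n
    have h3 : fu i (tG B) ^ 3 = (1 : GT) := by
      rw [pow_three, ← map_mul, ← map_mul, ← tG_mul, ← tG_mul, (R1_inR h hBR).2, tG_one, map_one]
    rw [e', eq_one_of_coprime h2n h3 ((Nat.coprime_primes Nat.prime_two Nat.prime_three).2 (by norm_num) |>.pow_left n),
      one_mul]
  have conv : ∀ {i : Fin 2} {A : SL}, y * fu i (tG A) * y⁻¹ = fu i (tG A) → y.val * fa i A.1 = fa i A.1 * y.val :=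
    fun {i A} e => by
      have := congrArg Units.val (mul_inv_eq_iff_eq_mul.1 e)
      rwa [Units.val_mul, Units.val_mul, fu_val, tG_val] at this
  obtain ⟨c, hc⟩ := scalar_of_comm4 h (fun i => conv (fix i)) (fun i => conv (fixY i))
  have hdet := N.det y hyA.mem
  rw [hc, Matrix.det_smul, Matrix.det_one, mul_one, Fintype.card_fun, Fintype.card_fin, Fintype.card_fin] at hdet
  have h2p : c ^ (2 ^ n) = 1 := by
    have := congrArg Units.val hn'
    rw [Units.val_pow_eq_pow_val, hc, smul_pow, one_pow, Units.val_one] at this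
    simpa using congrFun (congrFun this ![0, 0]) ![0, 0]
  have hc1 : c = 1 := eq_one_of_coprime h2p hdet
    (((Nat.coprime_primes Nat.prime_two Nat.prime_three).2 (by norm_num)).pow n 2)
  have hy1 : y = 1 := Units.ext (by rw [hc, hc1, one_smul]; rfl)
  rw [hy, mul_eq_one_iff_eq_inv] at hy1
  have := inv_mem (q2_mem h (inv_mem hq) (inv_mem hr))
  rw [hy1, inv_inv] at this
  rwa [← inv_inv x, inv_mem_iff] at *

/-- The `2`-group is maximal among the `2`-subgroups of the centraliser of the involution. -/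
theorem PG_max (N : HasN h H) (hC : CentThree h H)
    {S : Subgroup GT} (hS : IsPGroup 2 S) (hle : S ≤ H ⊓ Subgroup.centralizer {(jj : GT)}) (hPS : PG h ≤ S) :
    S = PG h := by
  by_contra hne
  haveI : Group.IsNilpotent S := hS.isNilpotent
  have hlt : (PG h).subgroupOf S < ⊤ := by
    refine lt_top_iff_ne_top.2 fun e => hne (le_antisymm ?_ hPS)
    exact Subgroup.subgroupOf_eq_top.1 e
  obtain ⟨u0, hu0, hu0P⟩ := SetLike.exists_of_lt (Group.normalizerCondition_of_isNilpotent _ hlt)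
  rw [Subgroup.mem_subgroupOf] at hu0P
  obtain ⟨x, hxS⟩ := u0
  change x ∉ PG h at hu0P
  have hn : ∀ w ∈ PG h, x * w * x⁻¹ ∈ PG h := fun w hw =>
    Subgroup.mem_subgroupOf.1 ((Subgroup.mem_normalizer_iff.1 hu0 ⟨w, hPS hw⟩).1 (Subgroup.mem_subgroupOf.2 hw))
  have hn' : ∀ w ∈ PG h, x⁻¹ * w * x ∈ PG h := fun w hw => by
    have := Subgroup.mem_subgroupOf.1 ((Subgroup.mem_normalizer_iff.1
      ((Subgroup.normalizer _).inv_mem hu0) ⟨w, hPS hw⟩).1 (Subgroup.mem_subgroupOf.2 hw))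
    rwa [Subgroup.coe_mul, Subgroup.coe_mul, inv_inv] at this
  have hxH : x ∈ H := (hle hxS).1
  have hxj : Commute x jj := (Subgroup.mem_centralizer_singleton_iff.1 (hle hxS).2)
  set w := x * ii * x⁻¹ with hw
  have hwP : w ∈ PG h := hn _ (q2_mem h (sT_mem h) (one_mem _))
  have hw2 : w * w = 1 := by rw [hw, _root_.conj_mul, ii_sq, mul_one, mul_inv_cancel]
  have hcq : ∀ z ∈ PG h, Commute w (z * z) := by
    intro z hz
    obtain ⟨a, ha, b, hb', e⟩ := PG_sq h (hn' z hz)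
    have h4 : Commute (ii : GT) ((x⁻¹ * z * x) * (x⁻¹ * z * x)) := by
      rw [e]
      exact (q2_adm N ha hb').ci.symm
    have := h4.map (MulAut.conj x).toMonoidHom
    simp only [MulEquiv.coe_toMonoidHom, MulAut.conj_apply] at this
    rwa [show x * ((x⁻¹ * z * x) * (x⁻¹ * z * x)) * x⁻¹ = z * z by group] at this
  have hsq : ∀ a : SL, a ∈ Qs h → Commute w (q2 (a, a)) := fun a ha => by
    have := hcq _ (mul_mem (q2_mem h ha (one_mem _)) (tau_mem h))
    rwa [mul_assoc, ← mul_assoc tau, tau_q2, mul_assoc (q2 (1, a)), tau_sq, mul_one, ← map_mul, Prod.mk_mul_mk,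
      mul_one, one_mul] at this
  have hwi : Commute w ii := by
    have := hcq _ (q2_mem h (sF_mem h) (one_mem _))
    rwa [← map_mul, Prod.mk_mul_mk, FF h, one_mul] at this
  obtain ⟨a, ha, b, hb', e | e⟩ := hwP
  swap
  · exact PG_not_comm h ha hb' (e ▸ hwi)
  have hQc : ∀ s ∈ Qs h, a * s = s * a ∧ b * s = s * b := fun s hs => by
    have h5 : q2 (a, b) * q2 (s, s) = q2 (s, s) * (q2 (a, b) : GT) := (e ▸ hsq s hs).eq
    have h6 : (q2 (a * s * a⁻¹ * s⁻¹, b * s * b⁻¹ * s⁻¹) : GT) = 1 := by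
      rw [← Prod.mk_mul_mk, ← Prod.mk_mul_mk, ← Prod.mk_mul_mk, ← Prod.inv_mk, ← Prod.inv_mk, map_mul, map_mul,
        map_mul, map_inv, map_inv, h5, mul_inv_cancel_right, mul_inv_cancel]
    obtain ⟨e1, e2⟩ := q2_one h (mul_mem (mul_mem (mul_mem ha hs) (inv_mem ha)) (inv_mem hs))
      (mul_mem (mul_mem (mul_mem hb' hs) (inv_mem hb')) (inv_mem hs)) h6
    exact ⟨mul_inv_eq_iff_eq_mul.1 (mul_inv_eq_one.1 e1), mul_inv_eq_iff_eq_mul.1 (mul_inv_eq_one.1 e2)⟩
  have hii : (ii : GT) ≠ 1 := fun e' => sT_ne_one (q2_one h (sT_mem h) (one_mem _) e').1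
  obtain ⟨y, hyA, hyS, hyP⟩ : ∃ y, Adm h H y ∧ y ∈ S ∧ y ∉ PG h := by
    rcases Q_centre h ha (hQc _ (sF_mem h)).1 (hQc _ (sG_mem h)).1 with ca | ca <;>
      rcases Q_centre h hb' (hQc _ (sF_mem h)).2 (hQc _ (sG_mem h)).2 with cb | cb <;> rw [ca, cb] at e
    · exfalso
      rw [show (q2 ((1 : SL), 1) : GT) = 1 from map_one q2, hw, mul_inv_eq_one] at e
      exact hii (mul_eq_left.1 e)
    · refine ⟨tau * x, ⟨H.mul_mem N.t hxH, fun v hv => ?_, fun v hv => ?_, (PG_jj h (tau_mem h)).mul_left hxj, ?_⟩,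
        mul_mem (hPS (tau_mem h)) hxS, fun hm => hu0P ((Subgroup.mul_mem_cancel_left _ (tau_mem h)).1 hm)⟩
      · have := mul_mem (mul_mem (tau_mem h) (hn v hv)) (inv_mem (tau_mem h))
        rwa [show tau * (x * v * x⁻¹) * tau⁻¹ = tau * x * v * (tau * x)⁻¹ by group] at this
      · have := hn' _ (mul_mem (mul_mem (inv_mem (tau_mem h)) hv) (tau_mem h))
        rwa [show x⁻¹ * (tau⁻¹ * v * tau) * x = (tau * x)⁻¹ * v * (tau * x) by group] at this
      · show tau * x * ii = ii * (tau * x)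
        rw [mul_assoc, show x * ii = w * x by rw [hw, inv_mul_cancel_right], e, ← mul_assoc, tau_q2, mul_assoc]
        rfl
    · exact ⟨x, ⟨hxH, hn, hn', hxj, mul_inv_eq_iff_eq_mul.1 e⟩, hxS, hu0P⟩
    · exfalso
      rw [hw, mul_inv_eq_iff_eq_mul, ← jj, ← hxj.eq] at e
      have e' : (ii : GT) = jj := mul_left_cancel e
      rw [← ii_mul, left_eq_mul] at e'
      exact sT_ne_one (q2_one h (one_mem _) (sT_mem h) e').2
  exact hyP (hyA.mem_PG N hC hS hPS hyS)

/-- The inverting involution is isolated. -/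
theorem isolated (N : HasN h H) (hC : CentThree h H) (hJ : OnlyJJ h)
    (hj : (jj : GT) ∈ H) : Cfsg.IsIsolated (⟨jj, hj⟩ : H) := by
  haveI : Finite GT := inferInstance
  rintro ⟨g, hg⟩ hcomm
  refine Subtype.ext ?_
  show g * jj * g⁻¹ = jj
  set v := g * jj * g⁻¹ with hv
  set C := H ⊓ Subgroup.centralizer {(jj : GT)} with hCdef
  have hvC : v ∈ C := by
    refine ⟨H.mul_mem (H.mul_mem hg hj) (H.inv_mem hg), Subgroup.mem_centralizer_singleton_iff.2 ?_⟩
    exact (congrArg Subtype.val hcomm.eq).symm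
  have hPC : PG h ≤ C := fun w hw => ⟨N.PG_le hw, Subgroup.mem_centralizer_singleton_iff.2 (PG_jj h hw)⟩
  obtain ⟨S, hS⟩ := ((PG_two h).comap_of_injective C.subtype C.subtype_injective).exists_le_sylow
  have hSeq : (S : Subgroup C).map C.subtype = PG h := PG_max N hC (S.2.map C.subtype)
    (Subgroup.map_subtype_le _) (fun w hw => ⟨⟨w, hPC hw⟩, hS hw, rfl⟩)
  have hv2 : (⟨v, hvC⟩ : C) * ⟨v, hvC⟩ = 1 := Subtype.ext (show v * v = 1 by
    rw [hv, _root_.conj_mul, jj_sq, mul_one, mul_inv_cancel])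
  have hzp : IsPGroup 2 (Subgroup.zpowers (⟨v, hvC⟩ : C)) := by
    rintro ⟨z, hz⟩
    obtain ⟨m, rfl⟩ := Subgroup.mem_zpowers_iff.1 hz
    refine ⟨1, Subtype.ext ?_⟩
    show ((⟨v, hvC⟩ : C) ^ m) ^ 2 = 1
    rw [← zpow_natCast, ← _root_.zpow_mul, mul_comm, _root_.zpow_mul, zpow_natCast, pow_two, hv2, _root_.one_zpow]
  obtain ⟨T, hT⟩ := hzp.exists_le_sylow
  obtain ⟨c, hc⟩ := MulAction.exists_smul_eq C T S
  have hmem : c * ⟨v, hvC⟩ * c⁻¹ ∈ (S : Subgroup C) := by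
    rw [← hc]
    exact ⟨_, hT (Subgroup.mem_zpowers _), rfl⟩
  have hP : c.1 * v * c.1⁻¹ ∈ PG h := hSeq ▸ ⟨_, hmem, rfl⟩
  have hcv : c.1 * v * c.1⁻¹ = jj := by
    refine hJ _ hP ?_ ⟨c.1 * g, ?_⟩
    · have := congrArg (fun z : C => c.1 * z.1 * c.1⁻¹) hv2
      simp only [Subgroup.coe_mul, Subgroup.coe_one, mul_one, mul_inv_cancel] at this
      rw [← _root_.conj_mul] at this
      exact this
    · rw [hv]; group
  have hcj : c.1 * jj = jj * c.1 := Subgroup.mem_centralizer_singleton_iff.1 c.2.2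
  calc v = c.1⁻¹ * (c.1 * v * c.1⁻¹) * c.1 := by group
    _ = jj := by rw [hcv, mul_assoc, ← hcj, inv_mul_cancel_left]

end CfsgLib.MaxSub.SLNine
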