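/-
No non-scalar abelian normal subgroup in an overgroup of the normaliser of `3^(1+4)`.
-/
import Cfsg.Agent.Lib.MaxSub.SLNine.Eigen
import Cfsg.Agent.Lib.MaxSub.SLNine.Isolated

set_option autoImplicit false
set_option maxHeartbeats 800000
set_option linter.unusedSectionVars false

namespace CfsgLib.MaxSub.SLNine

open Matrix CfsgLib.MaxSub.SLThree.Hess
open CfsgLib.MaxSub.TensorPow
open scoped commutatorElement

universe u

variable {F : Type u} [Field F] {ω : F}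

local notation "G3" => GL (Fin 3) F
local notation "GT" => GL (Fin 2 → Fin 3) F
local notation "Mn" => Matrix (Fin 3) (Fin 3) F
local notation "MT" => Matrix (Fin 2 → Fin 3) (Fin 2 → Fin 3) F
local notation "SL" => Matrix.SpecialLinearGroup (Fin 3) F
local notation "P3" => Matrix.ProjectiveSpecialLinearGroup (Fin 3) F

/-- A subgroup invariant under the quaternion group meeting the group of order nine contains it. -/
theorem full_of_inv (h : Root ω) {K : Subgroup SL} (hK : ∀ q ∈ Qs h, ∀ S ∈ K, q * S * q⁻¹ ∈ K) {S : SL}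
    (hS : S ∈ K) (hR : S ∈ R1 h) (hne : (mk S : P3) ≠ 1) :
    (∃ T ∈ K, (mk T : P3) = px h) ∧ ∃ T ∈ K, (mk T : P3) = py := by
  have hlift : Subgroup.closure ({pf h, pg h} : Set P3) ≤ (Qs h).map mk := (Subgroup.closure_le _).2 (by
    rintro _ (rfl | rfl)
    exacts [⟨_, sF_mem h, rfl⟩, ⟨_, sG_mem h, rfl⟩])
  have hE := E_le_of_inv (N := K.map mk) (fun w hw x hx => by
    obtain ⟨q, hq, rfl⟩ := hlift hw
    obtain ⟨T, hT, rfl⟩ := hx
    exact ⟨q * T * q⁻¹, hK q hq T hT, by rw [map_mul, map_mul, map_inv]⟩) (R1_mk h hR) hne ⟨S, hS, rfl⟩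
  exact ⟨hE (px_mem h), hE (py_mem h)⟩

theorem isSc_of_mk {S S' : SL} (e : (mk S : P3) = 1) (e' : (mk S' : P3) = 1) (c : F) :
    IsSc (c • (fa 0 S.1 * fa 1 S'.1) : MT) := by
  obtain ⟨a, -, ha⟩ := mk_eq_one.1 e
  obtain ⟨b, -, hb⟩ := mk_eq_one.1 e'
  refine ⟨c * (a * b), ?_⟩
  rw [ha, hb, map_smul, map_smul, map_one, map_one, Matrix.smul_mul, Matrix.mul_smul, one_mul, smul_smul, smul_smul, mul_assoc]

theorem R1_sq_mk (h : Root ω) {S : SL} (hS : S ∈ R1 h) (hne : (mk S : P3) ≠ 1) : (mk (S * S) : P3) ≠ 1 := fun e => by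
  have e3 : (mk (S * (S * S)) : P3) = 1 := by rw [(R1_inR h hS).2, map_one]
  rw [map_mul, e, mul_one] at e3
  exact hne e3

theorem sT_conj_R1 (h : Root ω) {S : SL} (hS : S ∈ R1 h) :
    ∃ z ∈ Subgroup.center SL, sT * S * sT⁻¹ = S⁻¹ * z := by
  refine ⟨S * (sT * S * sT⁻¹), (QuotientGroup.eq_one_iff _).1 (show (mk (S * (sT * S * sT⁻¹)) : P3) = 1 from ?_),
    (inv_mul_cancel_left _ _).symm⟩
  rw [map_mul, map_mul, map_mul, map_inv]
  show mk S * (pt * mk S * pt⁻¹) = 1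
  rw [E_t h (R1_mk h hS), mul_inv_cancel]

variable {h : Root ω} {H : Subgroup (GL (Fin 2 → Fin 3) F)}

/-- An abelian subgroup normalised by the group consists of scalars. -/
theorem abelian_scalar (N : HasN h H) (D : Subgroup GT)
    (hn : ∀ u ∈ H, ∀ d ∈ D, u * d * u⁻¹ ∈ D) (hc : ∀ a ∈ D, ∀ b ∈ D, a * b = b * a) :
    ∀ d ∈ D, IsSc d.val := by
  by_contra hno
  push Not at hno
  obtain ⟨d₀, hd₀, hd₀ns⟩ := hno
  let C : MT → Prop := fun Y => ∀ d ∈ D, Y * d.val = d.val * Y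
  let V : Submodule F MT :=
    { carrier := {X | ∀ Y, C Y → X * Y = Y * X}
      add_mem' := fun {a b} ha hb Y hY => by rw [add_mul, mul_add, ha Y hY, hb Y hY]
      zero_mem' := fun Y _ => by rw [zero_mul, mul_zero]
      smul_mem' := fun c a ha Y hY => by rw [Matrix.smul_mul, Matrix.mul_smul, ha Y hY] }
  have hDC : ∀ d ∈ D, C d.val := fun a ha b hb => by
    rw [← Units.val_mul, ← Units.val_mul, hc a ha b hb]
  have hVmul : ∀ a ∈ V, ∀ b ∈ V, a * b ∈ V := fun a ha b hb Y hY => by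
    rw [mul_assoc, hb Y hY, ← mul_assoc, ha Y hY, mul_assoc]
  have hV1 : (1 : MT) ∈ V := fun Y _ => by rw [one_mul, mul_one]
  have hVcomm : ∀ a ∈ V, ∀ b ∈ V, a * b = b * a := fun a ha b hb => ha b fun d hd => hb d.val (hDC d hd)
  have hVinv : ∀ u ∈ H, ∀ X ∈ V, Ad u X ∈ V := by
    intro u hu X hX Y hY
    have hY' : C (Ad u⁻¹ Y) := by
      intro d hd
      have e := congrArg (Ad u⁻¹) (hY _ (hn u hu d hd))
      rwa [Ad_mul_apply, Ad_mul_apply, show Ad u⁻¹ (u * d * u⁻¹ : GT).val = d.val by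
        rw [Ad_apply, inv_inv, ← Units.val_mul, ← Units.val_mul]
        exact congrArg Units.val (by group)] at e
    have e := congrArg (Ad u) (hX _ hY')
    rwa [Ad_mul_apply, Ad_mul_apply, ← Ad_mul, mul_inv_cancel, Ad_one] at e
  obtain ⟨M, hMV, hMns, hMe⟩ := exists_eigen h (V := V)
    (fun i X hX => ⟨hVinv _ (N.both N.X i) X hX, hVinv _ (N.both N.Y i) X hX⟩)
    ⟨_, fun Y hY => (hY d₀ hd₀).symm, hd₀ns⟩
  obtain ⟨c, S, S', hS, hS', rfl⟩ := eig_form h hMe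
  have hc0 : c ≠ 0 := fun z => hMns ⟨0, by rw [z, zero_smul, zero_smul]⟩
  -- normalise so that the first factor is not scalar
  obtain ⟨S, S', hS, hS', hne, hMV⟩ : ∃ S S' : SL, S ∈ R1 h ∧ S' ∈ R1 h ∧ (mk S : P3) ≠ 1 ∧
      c • (fa 0 S.1 * fa 1 S'.1 : MT) ∈ V := by
    by_cases hS1 : (mk S : P3) = 1
    · refine ⟨S', S, hS', hS, fun hS2 => hMns (isSc_of_mk hS1 hS2 c), ?_⟩
      have := hVinv _ N.t _ hMV
      rwa [map_smul, ← q2_val, Ad_apply, ← Units.val_mul, ← Units.val_mul, tau_q2, mul_inv_cancel_right, q2_val] at this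
    · exact ⟨S, S', hS, hS', hS1, hMV⟩
  obtain ⟨z, hz, hzS⟩ := sT_conj_R1 h hS'
  obtain ⟨r, -, hr⟩ := Matrix.SpecialLinearGroup.mem_center_iff.1 hz
  have hr0 : r ≠ 0 := fun e => by
    have := z.2
    rw [← hr, e] at this
    simp at this
  have hM2 : fa (0 : Fin 2) (S * S).1 ∈ V := by
    have h1 := hVmul _ hMV _ (hVinv _ (N.swap N.T) _ hMV)
    rw [map_smul, ← q2_val, Ad_apply, ← Units.val_mul, ← Units.val_mul, ← q2_right, ← map_inv, ← map_mul, ← map_mul,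
      Prod.inv_mk, Prod.mk_mul_mk, Prod.mk_mul_mk, one_mul, inv_one, mul_one, hzS, Matrix.smul_mul, Matrix.mul_smul,
      smul_smul, ← Units.val_mul, ← map_mul, Prod.mk_mul_mk, mul_inv_cancel_left, q2_val, ← hr, Matrix.scalar_apply,
      ← Matrix.smul_one_eq_diagonal, map_smul, map_one, Matrix.mul_smul, mul_one, smul_smul] at h1
    have := V.smul_mem (c * c * r)⁻¹ h1
    rwa [smul_smul, inv_mul_cancel₀ (mul_ne_zero (mul_ne_zero hc0 hc0) hr0), one_smul] at this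
  let K : Subgroup SL :=
    { carrier := {T | fa (0 : Fin 2) T.1 ∈ V ∧ fa (0 : Fin 2) (T⁻¹).1 ∈ V}
      one_mem' := by simp [hV1]
      mul_mem' := fun {a b} ha hb => ⟨by rw [val_mul, map_mul]; exact hVmul _ ha.1 _ hb.1,
        by rw [_root_.mul_inv_rev, val_mul, map_mul]; exact hVmul _ hb.2 _ ha.2⟩
      inv_mem' := fun {a} ha => ⟨ha.2, by rw [inv_inv]; exact ha.1⟩ }
  have hq : ∀ q ∈ Qs h, ∀ T : SL, fa (0 : Fin 2) T.1 ∈ V → fa (0 : Fin 2) (q * T * q⁻¹).1 ∈ V := fun q hq T hT => by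
    have := hVinv _ (N.PG_le (q2_mem h hq (one_mem _))) _ hT
    rwa [q2_left, Ad_apply, ← tG_val T, ← fu_val, ← Units.val_mul, ← Units.val_mul, ← map_inv, ← map_mul, ← map_mul,
      ← tG_inv, ← tG_mul, ← tG_mul, fu_val] at this
  have hSK : S * S ∈ K := ⟨hM2, by
    rw [show (S * S)⁻¹ = (S * S) * (S * S) by
      rw [inv_eq_of_mul_eq_one_right]
      calc S * S * (S * S * (S * S)) = (S * (S * S)) * (S * (S * S)) := by group
        _ = 1 := by rw [(R1_inR h hS).2, one_mul], val_mul (S * S), map_mul]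
    exact hVmul _ hM2 _ hM2⟩
  obtain ⟨⟨T, hT, hTx⟩, ⟨T', hT', hTy⟩⟩ := full_of_inv h (K := K)
    (fun q hq' T hT => ⟨hq q hq' T hT.1, by
      rw [show (q * T * q⁻¹)⁻¹ = q * T⁻¹ * q⁻¹ by group]; exact hq q hq' _ hT.2⟩)
    hSK (mul_mem hS hS) (R1_sq_mk h hS hne)
  have hTT : T * T' = T' * T := Subtype.ext (fa_injective (0 : Fin 2) (by
    rw [val_mul, val_mul, map_mul, map_mul]; exact hVcomm _ hT.1 _ hT'.1))
  obtain ⟨a, -, ha⟩ := mk_eq_iff.1 hTx
  obtain ⟨b, -, hb⟩ := mk_eq_iff.1 hTy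
  have hXY : Xm ω * Ym = (Ym : Mn) * Xm ω := by
    rw [show (Xm ω : Mn) = a • T.1 from ha, show (Ym : Mn) = b • T'.1 from hb, Matrix.smul_mul, Matrix.mul_smul,
      Matrix.smul_mul, Matrix.mul_smul, smul_smul, smul_smul, mul_comm a b, ← val_mul, hTT, val_mul]
  rw [XY h] at hXY
  have hne' : (Ym : Mn) * Xm ω ≠ 0 := fun e => val_ne_zero (sY * sX h : SL) (by rw [val_mul]; exact e)
  exact h.ne_one (eq_one_of_smul hne' hXY)

end CfsgLib.MaxSub.SLNine
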