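/-
An overgroup of the normaliser of `3^(1+4)` normalises it or contains all transvections.
-/
import Cfsg.Agent.Lib.MaxSub.SLNine.Abelian
import Cfsg.Agent.Lib.ZStar.Main
import Cfsg.Agent.Lib.Basic
import Cfsg.Agent.S0205

set_option autoImplicit false
set_option maxHeartbeats 800000
set_option linter.unusedSectionVars false

namespace CfsgLib.MaxSub.SLNine

open Matrix CfsgLib.MaxSub.SLThree.Hess
open CfsgLib.MaxSub.TensorPow
open scoped commutatorElement

universe u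

variable {F : Type u} [Field F] {ω : F}

local notation "G3" => GL (Fin 3) F
local notation "GT" => GL (Fin 2 → Fin 3) F
local notation "Mn" => Matrix (Fin 3) (Fin 3) F
local notation "MT" => Matrix (Fin 2 → Fin 3) (Fin 2 → Fin 3) F
local notation "SL" => Matrix.SpecialLinearGroup (Fin 3) F
local notation "P3" => Matrix.ProjectiveSpecialLinearGroup (Fin 3) F

theorem scU_of_isSc {g : GT} (hg : IsSc g.val) : ∃ c : Fˣ, g = scU c := by
  obtain ⟨c, hc⟩ := hg
  have hc0 : c ≠ 0 := fun z => g.ne_zero (by rw [hc, z, zero_smul])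
  exact ⟨Units.mk0 c hc0, Units.ext (by rw [scU_val]; exact hc)⟩

theorem isSc_scU (c : Fˣ) : IsSc (scU c : GT).val := ⟨c, scU_val c⟩

theorem scU_injective : Function.Injective ⇑(scU : Fˣ →* GT) := fun a b e => Units.ext (by
  have := congrArg (fun g : GT => g.val (fun _ => (0 : Fin 3)) (fun _ => (0 : Fin 3))) e
  simpa [scU_val] using this)

theorem q2_mem_R0 (h : Root ω) {S S' : SL} (hS : S ∈ R1 h) (hS' : S' ∈ R1 h) : q2 (S, S') ∈ R0 h := by
  have : ∀ i : Fin 2, ∀ T ∈ R1 h, fu i (tG T) ∈ R0 h := fun i T hT =>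
    (Subgroup.closure_le (K := (R0 h).comap ((fu i).comp Matrix.SpecialLinearGroup.toGL))).2 (by
      rintro _ (rfl | rfl) <;> fin_cases i <;> exact Subgroup.subset_closure (by simp)) hT
  exact (R0 h).mul_mem (this 0 S hS) (this 1 S' hS')

theorem R0_form (h : Root ω) {g : GT} (hg : g ∈ R0 h) :
    ∃ S ∈ R1 h, ∃ S' ∈ R1 h, g = q2 (S, S') := by
  have : R0 h ≤ ((R1 h).prod (R1 h)).map q2 := (Subgroup.closure_le _).2 (by
    rintro _ (rfl | rfl | rfl | rfl)
    exacts [⟨(sX h, 1), ⟨sX_mem h, one_mem _⟩, q2_left _⟩, ⟨(sY, 1), ⟨sY_mem h, one_mem _⟩, q2_left _⟩,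
      ⟨(1, sX h), ⟨one_mem _, sX_mem h⟩, q2_right _⟩, ⟨(1, sY), ⟨one_mem _, sY_mem h⟩, q2_right _⟩])
  obtain ⟨⟨S, S'⟩, ⟨hS, hS'⟩, rfl⟩ := this hg
  exact ⟨S, hS, S', hS', rfl⟩

theorem R0_cube (h : Root ω) {g : GT} (hg : g ∈ R0 h) : g ^ 3 = 1 := by
  obtain ⟨S, hS, S', hS', rfl⟩ := R0_form h hg
  rw [← map_pow, Prod.pow_mk, pow_three, pow_three, (R1_inR h hS).2, (R1_inR h hS').2]
  exact map_one q2

variable {h : Root ω} {H : Subgroup (GL (Fin 2 → Fin 3) F)} [Fintype F]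

/-- A soluble normal subgroup gives a non-scalar normal subgroup with scalar commutators. -/
theorem exists_layer (N : HasN h H) (hC : CentThree h H) (hJ : OnlyJJ h) :
    ∃ D : Subgroup GT, D ≤ H ∧ (∀ u ∈ H, ∀ d ∈ D, u * d * u⁻¹ ∈ D) ∧ (∀ a ∈ D, ∀ b ∈ D, IsSc (⁅a, b⁆ : GT).val) ∧
      ∃ d ∈ D, ¬ IsSc d.val := by
  classical
  have hj : (jj : GT) ∈ H := N.PG_le (q2_mem h (sT_mem h) (sT_mem h))
  set j : H := ⟨jj, hj⟩
  have hord : orderOf j = 2 := orderOf_eq_prime (Subtype.ext (by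
    show (jj : GT) ^ 2 = 1
    rw [pow_two, jj_sq])) (fun e => sT_ne_one (q2_one h (sT_mem h) (sT_mem h) (congrArg Subtype.val e)).1)
  have hiso := isolated N hC hJ hj
  set O := Cfsg.pPrimeCore 2 H with hO
  haveI hsol : Group.IsSolvable O := Cfsg.Agent.S0205.result (Nat.coprime_two_right.1 (CfsgLib.card_pPrimeCore_coprime 2))
  obtain ⟨n, hn⟩ := hsol.solvable
  let f : O →* GT := H.subtype.comp O.subtype
  let Dn : ℕ → Subgroup GT := fun k => (derivedSeries O k).map f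
  have hsucc : ∀ k, Dn (k + 1) = ⁅Dn k, Dn k⁆ := fun k => by
    show (derivedSeries O (k + 1)).map f = _
    rw [derivedSeries_succ, Subgroup.map_commutator]
  have hle : ∀ k, Dn k ≤ H := fun k => by
    rintro _ ⟨z, -, rfl⟩
    exact z.1.2
  have hnorm : ∀ k, ∀ u ∈ H, ∀ d ∈ Dn k, u * d * u⁻¹ ∈ Dn k := by
    intro k
    induction k with
    | zero =>
      rintro u hu _ ⟨z, -, rfl⟩
      haveI : O.Normal := by rw [hO]; infer_instance
      exact ⟨⟨⟨u, hu⟩ * z.1 * ⟨u, hu⟩⁻¹, Subgroup.Normal.conj_mem inferInstance _ z.2 _⟩, Subgroup.mem_top _, rfl⟩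
    | succ k ih =>
      intro u hu d hd
      rw [hsucc] at hd ⊢
      have : ⁅Dn k, Dn k⁆ ≤ (⁅Dn k, Dn k⁆).comap (MulAut.conj u).toMonoidHom := by
        rw [Subgroup.commutator_le]
        intro a ha b hb'
        show u * ⁅a, b⁆ * u⁻¹ ∈ ⁅Dn k, Dn k⁆
        rw [conjugate_commutatorElement]
        exact Subgroup.commutator_mem_commutator (ih u hu a ha) (ih u hu b hb')
      exact this hd
  have h0 : ∃ d ∈ Dn 0, ¬ IsSc d.val := by
    refine ⟨fu 0 (tG (sX h)), ?_, fun e => ?_⟩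
    · have hc := CfsgLib.ZStar.commutator_mem hord hiso (⟨fu 0 (tG (sX h)), N.X⟩ : H)
      refine ⟨⟨_, hc⟩, Subgroup.mem_top _, ?_⟩
      show jj * fu 0 (tG (sX h)) * jj⁻¹ * (fu 0 (tG (sX h)))⁻¹ = fu 0 (tG (sX h))
      rw [jj, ← q2_left, ← map_inv, ← map_inv, ← map_mul, ← map_mul, ← map_mul, Prod.inv_mk, Prod.inv_mk,
        Prod.mk_mul_mk, Prod.mk_mul_mk, Prod.mk_mul_mk, inv_one, mul_one, mul_one, mul_inv_cancel, sT_X]
      congr 2
      rw [← _root_.mul_inv_rev]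
      exact inv_eq_of_mul_eq_one_right (by rw [mul_assoc]; exact sX_cube h)
    · obtain ⟨c, hc⟩ := e
      rw [fu_val, tG_val] at hc
      have e4 : (Xm ω : Mn) = c • 1 := fa_injective (0 : Fin 2) (by rw [map_smul, map_one]; exact hc)
      have a0 := congrFun (congrFun e4 0) 0
      have a1 := congrFun (congrFun e4 1) 1
      simp [Xm] at a0 a1
      exact h.ne_one (a1.trans a0.symm)
  have hend : ∀ d ∈ Dn n, IsSc d.val := by
    intro d hd
    have : Dn n = ⊥ := by show (derivedSeries O n).map f = ⊥; rw [hn, Subgroup.map_bot]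
    rw [this, Subgroup.mem_bot] at hd
    exact ⟨1, by rw [hd, one_smul]; rfl⟩
  by_contra hno
  push Not at hno
  have all : ∀ k, ∃ d ∈ Dn k, ¬ IsSc d.val := fun k => by
    induction k with
    | zero => exact h0
    | succ k ih =>
      by_contra hk
      push Not at hk
      obtain ⟨d, hd, hds⟩ := ih
      refine hds (hno (Dn k) (hle k) (hnorm k) (fun a ha b hb' => hk _ ?_) d hd)
      rw [hsucc]
      exact Subgroup.commutator_mem_commutator ha hb'
  obtain ⟨d, hd, hds⟩ := all n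
  exact hds (hend d hd)

/-- The non-scalar normal subgroup has exponent dividing eighty-one. -/
theorem layer_pGroup (N : HasN h H) {D : Subgroup GT} (hDH : D ≤ H)
    (hn : ∀ u ∈ H, ∀ d ∈ D, u * d * u⁻¹ ∈ D) (hsc : ∀ a ∈ D, ∀ b ∈ D, IsSc (⁅a, b⁆ : GT).val) :
    IsPGroup 3 D := by
  have hcard : Fintype.card (Fin 2 → Fin 3) = 9 := by simp
  have nine : ∀ {g : GT} {c : Fˣ}, g ∈ H → g = scU c → c ^ 9 = 1 := fun {g c} hg e => by
    have := N.det g hg
    rw [e, scU_val, Matrix.det_smul, Matrix.det_one, mul_one, hcard] at this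
    exact Units.ext (by rw [Units.val_pow_eq_pow_val]; exact this)
  have key : ∀ x ∈ D, ∀ y ∈ D, x ^ 9 * y = y * x ^ 9 := by
    intro x hx y hy
    obtain ⟨c, hc⟩ := scU_of_isSc (hsc x hx y hy)
    have hcH : ⁅x, y⁆ ∈ H := by
      rw [commutatorElement_def]
      exact mul_mem (mul_mem (mul_mem (hDH hx) (hDH hy)) (inv_mem (hDH hx))) (inv_mem (hDH hy))
    have e1 : x * y = scU c * y * x := by rw [← hc, commutatorElement_def]; group
    have e2 : ∀ k : ℕ, x ^ k * y = scU (c ^ k) * y * x ^ k := fun k => by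
      induction k with
      | zero => simp
      | succ k ih =>
        rw [pow_succ x, mul_assoc (x ^ k), e1, ← mul_assoc, ← mul_assoc, ← scU_comm, mul_assoc (scU c), ih,
          ← mul_assoc, ← mul_assoc, ← map_mul, ← pow_succ', mul_assoc _ (x ^ k) x]
    rw [e2 9, nine hcH hc, map_one, one_mul]
  let Z : Subgroup GT := D ⊓ Subgroup.centralizer (D : Set GT)
  have hZ : ∀ z ∈ Z, IsSc z.val := by
    refine abelian_scalar N Z (fun u hu z hz => ⟨hn u hu z hz.1, fun y hy => ?_⟩)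
      (fun a ha b hb => (ha.2 b hb.1).symm)
    have hy' : u⁻¹ * y * u ∈ D := by
      have := hn u⁻¹ (H.inv_mem hu) y hy
      rwa [inv_inv] at this
    calc y * (u * z * u⁻¹) = u * ((u⁻¹ * y * u) * z) * u⁻¹ := by group
      _ = u * (z * (u⁻¹ * y * u)) * u⁻¹ := by rw [hz.2 _ hy']
      _ = u * z * u⁻¹ * y := by group
  rintro ⟨x, hx⟩
  refine ⟨4, Subtype.ext ?_⟩
  show x ^ (3 ^ 4) = 1
  obtain ⟨c, hc⟩ := scU_of_isSc (hZ (x ^ 9) ⟨pow_mem hx _, fun y hy => (key x hx y hy).symm⟩)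
  rw [show 3 ^ 4 = 9 * 9 by norm_num, pow_mul, hc, ← map_pow, nine (H.pow_mem (hDH hx) 9) hc, map_one]

/-- The normal subgroup lies in the scalar multiples of `R0` and contains them up to scalars. -/
theorem R0_into_layer (N : HasN h H) {D : Subgroup GT} (hDH : D ≤ H)
    (hn : ∀ u ∈ H, ∀ d ∈ D, u * d * u⁻¹ ∈ D) (hsc : ∀ a ∈ D, ∀ b ∈ D, IsSc (⁅a, b⁆ : GT).val)
    (hns : ∃ d ∈ D, ¬ IsSc d.val) :
    ∀ i : Fin 2, ∀ T : SL, (T = sX h ∨ T = sY) → ∃ c : Fˣ, scU c * fu i (tG T) ∈ D := by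
  classical
  have h3 := layer_pGroup N hDH hn hsc
  have hR0H := N.R0_le
  have hR3 : IsPGroup 3 (R0 h) := fun g => ⟨1, Subtype.ext (by rw [pow_one]; exact R0_cube h g.2)⟩
  haveI : Fact (Nat.Prime 3) := ⟨Nat.prime_three⟩
  have hnormD : H ≤ Subgroup.normalizer (D : Set GT) := fun u hu => by
    refine Subgroup.mem_normalizer_iff.2 fun d => ⟨hn u hu d, fun hd => ?_⟩
    have := hn u⁻¹ (H.inv_mem hu) _ hd
    rwa [show u⁻¹ * (u * d * u⁻¹) * u⁻¹⁻¹ = d by group] at this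
  have hG3 : IsPGroup 3 (D ⊔ R0 h : Subgroup GT) := h3.to_sup_of_normal_left' hR3 (hR0H.trans hnormD)
  haveI : Group.IsNilpotent (D ⊔ R0 h : Subgroup GT) := hG3.isNilpotent
  obtain ⟨n, hlast⟩ := (Subgroup.isNilpotent_iff_lowerCentralSeries (D ⊔ R0 h)).1 inferInstance
  set Γ : Subgroup GT := D ⊔ R0 h with hΓ
  obtain ⟨d, hd, hdns, hstep⟩ : ∃ d ∈ D, ¬ IsSc d.val ∧ ∀ g ∈ R0 h, IsSc (⁅d, g⁆ : GT).val := by
    by_contra hno
    push Not at hno
    have all : ∀ k, ∃ d ∈ D, d ∈ Γ.lowerCentralSeries k ∧ ¬ IsSc d.val := fun k => by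
      induction k with
      | zero => obtain ⟨d, hd, hds⟩ := hns; exact ⟨d, hd, Subgroup.mem_sup_left hd, hds⟩
      | succ k ih =>
        obtain ⟨d, hd, hdk, hds⟩ := ih
        obtain ⟨g, hg, hgs⟩ := hno d hd hds
        refine ⟨⁅d, g⁆, ?_, ?_, hgs⟩
        · rw [commutatorElement_def, show d * g * d⁻¹ * g⁻¹ = d * (g * d⁻¹ * g⁻¹) by group]
          exact mul_mem hd (hn g (hR0H hg) _ (inv_mem hd))
        · rw [Subgroup.lowerCentralSeries_succ]
          exact Subgroup.commutator_mem_commutator hdk (Subgroup.mem_sup_right hg)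
    obtain ⟨d, -, hdn, hds⟩ := all n
    rw [hlast, Subgroup.mem_bot] at hdn
    exact hds ⟨1, by rw [hdn, one_smul]; rfl⟩
  have heig : Eig ω d.val := by
    have rel : ∀ i : Fin 2, ∀ T ∈ R1 h, ∃ a : ℕ, d.val * fa i T.1 = ω ^ a • (fa i T.1 * d.val) := fun i T hT => by
      have hg : fu i (tG T) ∈ R0 h := by
        fin_cases i
        · show fu 0 (tG T) ∈ _
          rw [← q2_left]; exact q2_mem_R0 h hT (one_mem _)
        · show fu 1 (tG T) ∈ _
          rw [← q2_right]; exact q2_mem_R0 h (one_mem _) hT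
      set g := fu i (tG T) with hg_def
      obtain ⟨r, hr⟩ := scU_of_isSc (hstep g hg)
      have e1 : d * g = scU r * g * d := by rw [← hr, commutatorElement_def]; group
      have e2 : ∀ k : ℕ, d * g ^ k = scU (r ^ k) * g ^ k * d := fun k => by
        induction k with
        | zero => simp
        | succ k ih =>
          rw [pow_succ g, ← mul_assoc, ih, mul_assoc, e1, ← mul_assoc, ← mul_assoc, mul_assoc (scU (r ^ k)) (g ^ k),
            ← scU_comm, ← mul_assoc, ← map_mul, ← pow_succ, mul_assoc (scU (r ^ (k + 1)))]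
      have hr3 : (r : F) ^ 3 = 1 := by
        have := e2 3
        rw [R0_cube h hg, mul_one, mul_one, right_eq_mul, ← map_one (scU : Fˣ →* GT)] at this
        rw [← Units.val_pow_eq_pow_val, scU_injective this, Units.val_one]
      obtain ⟨a, ha⟩ : ∃ a : ℕ, (r : F) = ω ^ a := by
        rcases h.cases hr3 with e | e | e
        exacts [⟨0, by rw [e, pow_zero]⟩, ⟨1, by rw [e, pow_one]⟩, ⟨2, by rw [e, pow_two]⟩]
      refine ⟨a, ?_⟩
      have := congrArg Units.val e1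
      rwa [Units.val_mul, Units.val_mul, Units.val_mul, scU_val, hg_def, fu_val, tG_val, ha, Matrix.smul_mul, one_mul,
        Matrix.smul_mul] at this
    intro i
    obtain ⟨a, ha⟩ := rel i (sX h) (sX_mem h)
    obtain ⟨b, hb⟩ := rel i sY (sY_mem h)
    exact ⟨⟨a, ha⟩, ⟨b, hb⟩⟩
  obtain ⟨c, S, S', hS, hS', hdv⟩ := eig_form h heig
  have hc0 : c ≠ 0 := fun z => d.ne_zero (by rw [hdv, z, zero_smul])
  have hdu : d = scU (Units.mk0 c hc0) * q2 (S, S') :=
    Units.ext (by rw [Units.val_mul, scU_val, q2_val, Units.val_mk0, Matrix.smul_mul, one_mul, hdv])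
  obtain ⟨S, S', hS, hS', hne, c, hd⟩ : ∃ S S' : SL, S ∈ R1 h ∧ S' ∈ R1 h ∧ (mk S : P3) ≠ 1 ∧
      ∃ c : Fˣ, scU c * q2 (S, S') ∈ D := by
    by_cases hS1 : (mk S : P3) = 1
    · refine ⟨S', S, hS', hS, fun hS2 => hdns ?_, Units.mk0 c hc0, ?_⟩
      · rw [hdv]; exact isSc_of_mk hS1 hS2 c
      · have := hn _ N.t _ hd
        rwa [hdu, ← mul_assoc, ← scU_comm, mul_assoc, mul_assoc, ← mul_assoc tau, tau_q2, mul_inv_cancel_right] at this
    · exact ⟨S, S', hS, hS', hS1, _, hdu ▸ hd⟩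
  obtain ⟨z, hz, hzS⟩ := sT_conj_R1 h hS'
  obtain ⟨e, he⟩ : ∃ e : Fˣ, q2 ((1 : SL), z) = (scU e : GT) := by
    obtain ⟨r, -, hr⟩ := Matrix.SpecialLinearGroup.mem_center_iff.1 hz
    refine scU_of_isSc ⟨r, ?_⟩
    rw [q2_right, fu_val, tG_val, ← hr, Matrix.scalar_apply, ← Matrix.smul_one_eq_diagonal, map_smul, map_one]
  have hsq : ∃ c' : Fˣ, scU c' * fu (0 : Fin 2) (tG (S * S)) ∈ D := by
    have h1 := mul_mem hd (hn _ (N.swap N.T) _ hd)
    refine ⟨c * c * e, ?_⟩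
    rw [← q2_left]
    rw [← q2_right] at h1
    rwa [show scU c * q2 (S, S') * (q2 (1, sT) * (scU c * q2 (S, S')) * (q2 (1, sT))⁻¹) =
        scU c * scU c * (q2 (S, S') * (q2 (1, sT) * q2 (S, S') * (q2 (1, sT))⁻¹) : GT) by
      rw [← mul_assoc (q2 (1, sT)), ← scU_comm c (q2 (1, sT))]
      simp only [mul_assoc]
      rw [← mul_assoc (q2 (S, S')) (scU c), ← scU_comm c (q2 (S, S'))]
      simp only [mul_assoc],
      ← map_inv, ← map_mul q2, ← map_mul q2, ← map_mul q2,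
      show ((S, S') : SL × SL) * ((1, sT) * (S, S') * ((1 : SL), sT)⁻¹) = (S * S, 1) * (1, z) from
        Prod.ext (by simp) (by simp [hzS]), map_mul q2, he, ← scU_comm e (q2 (S * S, 1)), ← mul_assoc, ← map_mul scU, ← map_mul scU] at h1
  let K : Subgroup SL :=
    { carrier := {T | ∃ c : Fˣ, scU c * fu (0 : Fin 2) (tG T) ∈ D}
      one_mem' := ⟨1, by rw [map_one, tG_one, map_one, one_mul]; exact one_mem _⟩
      mul_mem' := by
        rintro a b ⟨x, hx⟩ ⟨y, hy⟩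
        refine ⟨x * y, ?_⟩
        have := mul_mem hx hy
        rwa [mul_assoc, ← mul_assoc (fu (0 : Fin 2) (tG a)), ← scU_comm, mul_assoc, ← mul_assoc, ← map_mul, ← map_mul,
          ← tG_mul] at this
      inv_mem' := by
        rintro a ⟨x, hx⟩
        refine ⟨x⁻¹, ?_⟩
        have := inv_mem hx
        rwa [_root_.mul_inv_rev, ← map_inv scU, ← map_inv (fu (0 : Fin 2)), ← scU_comm, ← tG_inv] at this }
  have hKinv : ∀ q ∈ Qs h, ∀ T ∈ K, q * T * q⁻¹ ∈ K := by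
    rintro q hq T ⟨x, hx⟩
    refine ⟨x, ?_⟩
    have hqH : fu (0 : Fin 2) (tG q) ∈ H := by rw [← q2_left]; exact N.PG_le (q2_mem h hq (one_mem _))
    have := hn _ hqH _ hx
    rwa [← mul_assoc, ← scU_comm, mul_assoc, mul_assoc, ← map_inv, ← mul_assoc (fu (0 : Fin 2) (tG q)), ← map_mul,
      ← map_mul, ← tG_inv, ← tG_mul, ← tG_mul] at this
  obtain ⟨⟨A, ⟨a, hA⟩, hAx⟩, ⟨B, ⟨b, hB⟩, hBy⟩⟩ := full_of_inv h hKinv hsq (mul_mem hS hS) (R1_sq_mk h hS hne)
  have fix : ∀ {A T : SL} {a : Fˣ}, scU a * fu (0 : Fin 2) (tG A) ∈ D → (mk A : P3) = mk T →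
      ∃ c : Fˣ, scU c * fu (0 : Fin 2) (tG T) ∈ D := by
    intro A T a hA e
    obtain ⟨r, hr, hre⟩ := mk_eq_iff.1 e
    have hr0 : r ≠ 0 := fun z => by rw [z] at hr; simp at hr
    refine ⟨a * (Units.mk0 r hr0)⁻¹, ?_⟩
    rwa [show scU (a * (Units.mk0 r hr0)⁻¹) * fu (0 : Fin 2) (tG T) = scU a * fu 0 (tG A) by
      refine Units.ext ?_
      rw [Units.val_mul, Units.val_mul, scU_val, scU_val, fu_val, fu_val, tG_val, tG_val, hre, map_smul,
        Matrix.mul_smul, Matrix.smul_mul, Matrix.smul_mul, smul_smul, Units.val_mul, Units.val_inv_eq_inv_val,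
        Units.val_mk0, mul_comm r, inv_mul_cancel_right₀ hr0]]
  intro i T hT
  have h0 : ∃ c : Fˣ, scU c * fu (0 : Fin 2) (tG T) ∈ D := by
    rcases hT with rfl | rfl
    exacts [fix hA hAx, fix hB hBy]
  obtain ⟨x, hx⟩ := h0
  fin_cases i
  · exact ⟨x, hx⟩
  · refine ⟨x, ?_⟩
    have := hn _ N.t _ hx
    rwa [← mul_assoc, ← scU_comm, mul_assoc, mul_assoc, ← mul_assoc tau, tau_zero] at this

/-- The proper case: the group normalises `R0`. -/
theorem normalises_R0 (N : HasN h H) (hC : CentThree h H) (hJ : OnlyJJ h) :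
    ∀ u ∈ H, ∀ g ∈ R0 h, u * g * u⁻¹ ∈ R0 h := by
  obtain ⟨D, hDH, hn, hsc, hns⟩ := exists_layer N hC hJ
  have hgen := R0_into_layer N hDH hn hsc hns
  have hcomm : ∀ d ∈ D, ∀ i : Fin 2, ∀ T : SL, (T = sX h ∨ T = sY) → ∃ r : Fˣ,
      d * fu i (tG T) = scU r * fu i (tG T) * d ∧ r ^ 3 = 1 := by
    intro d hd i T hT
    obtain ⟨c, hc⟩ := hgen i T hT
    obtain ⟨r, hr⟩ := scU_of_isSc (hsc d hd _ hc)
    set g := fu i (tG T) with hg
    have e : d * g = scU r * g * d := by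
      rw [← hr, commutatorElement_def, _root_.mul_inv_rev]
      rw [show d * (scU c * g) * d⁻¹ * (g⁻¹ * (scU c)⁻¹) = (d * scU c) * (g * d⁻¹ * g⁻¹) * (scU c)⁻¹ by group,
        ← scU_comm c d, show scU c * d * (g * d⁻¹ * g⁻¹) * (scU c)⁻¹ = scU c * (d * g * d⁻¹ * g⁻¹) * (scU c)⁻¹ by group,
        scU_comm c, mul_inv_cancel_right]
      group
    refine ⟨r, e, ?_⟩
    have e3 : g ^ 3 = 1 := by
      rcases hT with rfl | rfl <;>
        simp [hg, pow_three, ← map_mul, sX_cube, sY_cube]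
    have e2 : ∀ k : ℕ, d * g ^ k = scU (r ^ k) * g ^ k * d := fun k => by
      induction k with
      | zero => simp
      | succ k ih =>
        rw [pow_succ g, ← mul_assoc, ih, mul_assoc, e, ← mul_assoc, ← mul_assoc, mul_assoc (scU (r ^ k)) (g ^ k),
          ← scU_comm, ← mul_assoc, ← map_mul, ← pow_succ, mul_assoc (scU (r ^ (k + 1)))]
    have := e2 3
    rw [e3, mul_one, mul_one, right_eq_mul, ← map_one (scU : Fˣ →* GT)] at this
    exact scU_injective this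
  have hDR : ∀ d ∈ D, ∃ c : Fˣ, ∃ r ∈ R0 h, d = scU c * r := by
    intro d hd
    have heig : Eig ω d.val := by
      have rel : ∀ i : Fin 2, ∀ T : SL, (T = sX h ∨ T = sY) →
          ∃ a : ℕ, d.val * fa i T.1 = ω ^ a • (fa i T.1 * d.val) := by
        intro i T hT
        obtain ⟨r, e, hr⟩ := hcomm d hd i T hT
        have hr' : (r : F) ^ 3 = 1 := by rw [← Units.val_pow_eq_pow_val, hr, Units.val_one]
        obtain ⟨a, ha⟩ : ∃ a : ℕ, (r : F) = ω ^ a := by
          rcases h.cases hr' with e | e | e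
          exacts [⟨0, by rw [e, pow_zero]⟩, ⟨1, by rw [e, pow_one]⟩, ⟨2, by rw [e, pow_two]⟩]
        refine ⟨a, ?_⟩
        have := congrArg Units.val e
        rwa [Units.val_mul, Units.val_mul, Units.val_mul, scU_val, fu_val, tG_val, ha, Matrix.smul_mul, one_mul,
          Matrix.smul_mul] at this
      intro i
      obtain ⟨a, ha⟩ := rel i (sX h) (Or.inl rfl)
      obtain ⟨b, hb⟩ := rel i sY (Or.inr rfl)
      exact ⟨⟨a, ha⟩, ⟨b, hb⟩⟩
    obtain ⟨c, S, S', hS, hS', hdv⟩ := eig_form h heig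
    have hc0 : c ≠ 0 := fun z => d.ne_zero (by rw [hdv, z, zero_smul])
    exact ⟨Units.mk0 c hc0, q2 (S, S'), q2_mem_R0 h hS hS',
      Units.ext (by rw [Units.val_mul, scU_val, q2_val, Units.val_mk0, Matrix.smul_mul, one_mul, hdv])⟩
  intro u hu g hg
  have hle : R0 h ≤ (R0 h).comap (MulAut.conj u).toMonoidHom := by
    refine (Subgroup.closure_le _).2 ?_
    have key : ∀ i : Fin 2, ∀ T : SL, (T = sX h ∨ T = sY) → u * fu i (tG T) * u⁻¹ ∈ R0 h := by
      intro i T hT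
      obtain ⟨c, hc⟩ := hgen i T hT
      obtain ⟨e, r, hr, her⟩ := hDR _ (hn u hu _ hc)
      set g := fu i (tG T) with hg
      have e1 : u * g * u⁻¹ = scU (c⁻¹ * e) * r := by
        rw [map_mul, mul_assoc (scU c⁻¹), ← her, map_inv, ← mul_assoc u, ← scU_comm c u,
          show scU c * u * g * u⁻¹ = scU c * (u * g * u⁻¹) by group, inv_mul_cancel_left]
      have g3 : g ^ 3 = 1 := by
        rcases hT with rfl | rfl <;> simp [hg, pow_three, ← map_mul, sX_cube, sY_cube]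
      have hs3 : ((c⁻¹ * e : Fˣ) : F) ^ 3 = 1 := by
        have h1 : (u * g * u⁻¹) ^ 3 = 1 := by rw [conj_pow, g3, mul_one, mul_inv_cancel]
        rw [e1, Commute.mul_pow (scU_comm _ _), R0_cube h hr, mul_one, ← map_pow, ← map_one (scU : Fˣ →* GT)] at h1
        rw [← Units.val_pow_eq_pow_val, scU_injective h1, Units.val_one]
      rw [e1]
      refine mul_mem ?_ hr
      obtain ⟨k, hk⟩ : ∃ k : ℕ, ((c⁻¹ * e : Fˣ) : F) = ω ^ k := by
        rcases h.cases hs3 with e | e | e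
        exacts [⟨0, by rw [e, pow_zero]⟩, ⟨1, by rw [e, pow_one]⟩, ⟨2, by rw [e, pow_two]⟩]
      rw [show (scU (c⁻¹ * e) : GT) = q2 (sZ h ^ k, 1) by
        refine Units.ext ?_
        rw [scU_val, q2_left, fu_val, tG_val, sZ_pow_val, map_smul, map_one, hk]]
      exact q2_mem_R0 h (pow_mem (center_le_R1 h (sZ_center h)) _) (one_mem _)
    rintro _ (rfl | rfl | rfl | rfl)
    exacts [key 0 _ (Or.inl rfl), key 0 _ (Or.inr rfl), key 1 _ (Or.inl rfl), key 1 _ (Or.inr rfl)]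
  exact hle hg

end CfsgLib.MaxSub.SLNine
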