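/-
Absolutely irreducible `3^(1+4)` in degree nine in standard form.
-/
import Cfsg.Agent.Lib.MaxSub.SLNine.Normal
import Cfsg.Agent.Lib.MaxSub.SLThree.Hess.Main
import Cfsg.Agent.Lib.SymplecticTypeP
import Cfsg.Agent.Lib.Aschbacher.Units

set_option autoImplicit false
set_option maxHeartbeats 800000
set_option linter.unusedSectionVars false
set_option linter.style.haveILetI false

namespace CfsgLib.MaxSub.SLNine

open Matrix CfsgLib.MaxSub.SLThree.Hess
open CfsgLib.MaxSub.TensorPow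
open CfsgLib.Aschbacher (frU frU_val frAlg_apply)
open scoped commutatorElement

universe u

variable {F : Type u} [Field F] {ω : F} {ι : Type} [Fintype ι] [DecidableEq ι]

local notation "Mn" => Matrix (Fin 3) (Fin 3) F
local notation "SL" => Matrix.SpecialLinearGroup (Fin 3) F
local notation "MT" => Matrix (Fin 2 → Fin 3) (Fin 2 → Fin 3) F

/-- Commutation up to a power of the root. -/
def Rel (ω : F) (a b : GL ι F) (r : ℕ) : Prop := a.val * b.val = ω ^ r • (b.val * a.val)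

theorem Rel.mul {a a' b : GL ι F} {r s : ℕ} (h1 : Rel ω a b r) (h2 : Rel ω a' b s) : Rel ω (a * a') b (r + s) := by
  unfold Rel at h1 h2 ⊢
  rw [Units.val_mul, mul_assoc, h2, Matrix.mul_smul, ← mul_assoc, h1, Matrix.smul_mul, smul_smul, mul_assoc, pow_add,
    mul_comm]

theorem Rel.one_left (b : GL ι F) : Rel ω 1 b 0 := by
  unfold Rel
  rw [Units.val_one, one_mul, mul_one, pow_zero, one_smul]

theorem Rel.pow {a b : GL ι F} {r : ℕ} (h1 : Rel ω a b r) : ∀ k : ℕ, Rel ω (a ^ k) b (k * r)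
  | 0 => by rw [pow_zero, zero_mul]; exact Rel.one_left b
  | k + 1 => by rw [pow_succ, Nat.succ_mul]; exact (Rel.pow h1 k).mul h1

theorem Rel.symm (h : Root ω) {a b : GL ι F} {r : ℕ} (h1 : Rel ω a b r) : Rel ω b a (2 * r) := by
  unfold Rel at h1 ⊢
  rw [h1, smul_smul, ← pow_add, show 2 * r + r = 3 * r by ring, pow_mul, h.cube, one_pow, one_smul]

theorem Rel.comm (h : Root ω) {a b : GL ι F} {r l : ℕ} (h1 : Rel ω a b r) (hr : r = 3 * l) : Rel ω a b 0 := by
  unfold Rel at h1 ⊢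
  rw [h1, hr, pow_mul, h.cube, one_pow, pow_zero]

theorem Rel.self (a : GL ι F) : Rel ω a a 0 := by
  unfold Rel
  rw [pow_zero, one_smul]

theorem Rel.eq {a b : GL ι F} (h1 : Rel ω a b 0) : a.val * b.val = b.val * a.val := by
  unfold Rel at h1
  rwa [pow_zero, one_smul] at h1

/-- The twisted sum over a cyclic group of order three. -/
noncomputable def pr (ω : F) (X : Matrix ι ι F) (a : ℕ) : Matrix ι ι F :=
  1 + (ω * ω) ^ a • X + ω ^ a • (X * X)

theorem pr_ne (h : Root ω) {x y : GL ι F} (hxy : Rel ω x y 1) {Q : Matrix ι ι F}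
    (hQy : Commute y.val Q) (hQ : Q ≠ 0) : pr ω x.val 0 * Q ≠ 0 := by
  intro e
  have shift : ∀ a, pr ω x.val a * Q = 0 → pr ω x.val (a + 1) * Q = 0 := by
    intro a ha
    have e1 : y.val * pr ω x.val a = pr ω x.val (a + 1) * y.val := by
      have hyx : y.val * x.val = (ω * ω) • (x.val * y.val) := by
        have := hxy.symm h
        unfold Rel at this
        rwa [show 2 * 1 = 1 + 1 from rfl, pow_succ, pow_one] at this
      have hyxx : y.val * (x.val * x.val) = ω • (x.val * x.val * y.val) := by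
        rw [← mul_assoc, hyx, Matrix.smul_mul, mul_assoc, hyx, Matrix.mul_smul, smul_smul, ← mul_assoc x.val]
        congr 1
        linear_combination ω * h.cube
      simp only [pr, mul_add, add_mul, mul_one, one_mul, Matrix.mul_smul, Matrix.smul_mul, hyx, hyxx, smul_smul,
        ← pow_succ]
    have e2 : pr ω x.val (a + 1) * Q * y.val = 0 := by
      rw [mul_assoc, ← hQy.eq, ← mul_assoc, ← e1, mul_assoc, ha, mul_zero]
    calc pr ω x.val (a + 1) * Q = pr ω x.val (a + 1) * Q * y.val * (y⁻¹ : GL ι F).val := by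
          rw [mul_assoc _ y.val, Units.mul_inv, mul_one]
      _ = 0 := by rw [e2, zero_mul]
  have e1 := shift 0 e
  have e2 := shift 1 e1
  have hsum : pr ω x.val 0 + pr ω x.val 1 + pr ω x.val 2 = (3 : F) • (1 : Matrix ι ι F) := by
    have := h.eq
    simp only [pr, pow_zero, pow_one, pow_two, one_smul]
    rw [show ω * ω * (ω * ω) = ω by linear_combination ω * h.cube]
    rw [show (1 : Matrix ι ι F) + x.val + x.val * x.val + (1 + (ω * ω) • x.val + ω • (x.val * x.val)) +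
      (1 + ω • x.val + (ω * ω) • (x.val * x.val)) =
      (1 + 1 + 1 : F) • (1 : Matrix ι ι F) + (1 + ω * ω + ω) • x.val + (1 + ω + ω * ω) • (x.val * x.val) by
        simp only [add_smul, one_smul]; abel,
      show 1 + ω * ω + ω = 0 by linear_combination h.eq, show 1 + ω + ω * ω = 0 by linear_combination h.eq,
      zero_smul, zero_smul, add_zero, add_zero, show (1 + 1 + 1 : F) = 3 by norm_num]
  have h3 := congrArg (· * Q) hsum
  simp only [add_mul] at h3
  rw [e, e1, e2, add_zero, add_zero, Matrix.smul_mul, one_mul] at h3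
  exact hQ ((smul_eq_zero.1 h3.symm).resolve_left h.three)

theorem pr_fix (ω : F) {X : Matrix ι ι F} (hX : X * (X * X) = 1) : X * pr ω X 0 = pr ω X 0 := by
  simp only [pr, pow_zero, one_smul, mul_add, mul_one, hX]
  abel

theorem fa0_diag (ω : F) : (fa (0 : Fin 2) (Xm ω) : MT) = Matrix.diagonal fun x => ω ^ (x 0 : ℕ) := by
  rw [← mul_one (fa (0 : Fin 2) (Xm ω)), ← map_one (fa (1 : Fin 2))]
  ext x y
  rw [fa_mul_apply]
  by_cases e : x = y
  · subst e
    rw [Matrix.diagonal_apply_eq, Matrix.one_apply_eq, mul_one, Xm, Matrix.diagonal_apply_eq]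
    generalize x 0 = a
    fin_cases a <;> simp [pow_two]
  · rw [Matrix.diagonal_apply_ne _ e]
    by_cases e1 : x 1 = y 1
    · have : x 0 ≠ y 0 := fun e0 => e (funext fun i => by fin_cases i <;> assumption)
      rw [Xm, Matrix.diagonal_apply_ne _ this, zero_mul]
    · rw [Matrix.one_apply_ne e1, mul_zero]

theorem fa1_diag (ω : F) : (fa (1 : Fin 2) (Xm ω) : MT) = Matrix.diagonal fun x => ω ^ (x 1 : ℕ) := by
  rw [← one_mul (fa (1 : Fin 2) (Xm ω)), ← map_one (fa (0 : Fin 2))]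
  ext x y
  rw [fa_mul_apply]
  by_cases e : x = y
  · subst e
    rw [Matrix.diagonal_apply_eq, Matrix.one_apply_eq, one_mul, Xm, Matrix.diagonal_apply_eq]
    generalize x 1 = a
    fin_cases a <;> simp [pow_two]
  · rw [Matrix.diagonal_apply_ne _ e]
    by_cases e0 : x 0 = y 0
    · have : x 1 ≠ y 1 := fun e1 => e (funext fun i => by fin_cases i <;> assumption)
      rw [Xm, Matrix.diagonal_apply_ne _ this, mul_zero]
    · rw [Matrix.one_apply_ne e0, zero_mul]

theorem fa_Ym (i : Fin 2) (z x : Fin 2 → Fin 3) :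
    (fa i (Ym : Mn) : MT) z x = if z = Function.update x i (x i + 1) then 1 else 0 := by
  have key : ∀ a b : Fin 3, (Ym : Mn) a b = if a = b + 1 then 1 else 0 := fun a b => by
    fin_cases a <;> fin_cases b <;> simp [Ym]
  rw [fa_apply]
  by_cases e : z = Function.update x i (x i + 1)
  · subst e
    rw [if_pos rfl, if_pos (fun j hj => Function.update_of_ne hj _ _), key, Function.update_self, if_pos rfl]
  · rw [if_neg e]
    split_ifs with hj
    · rw [key, if_neg]
      intro ez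
      exact e (funext fun j => by
        by_cases hji : j = i
        · subst hji; rw [Function.update_self, ez]
        · rw [Function.update_of_ne hji, hj j hji])
    · rfl

variable [Fintype F]

/-- The conditions on the group that are used. -/
structure Sympl (R : Subgroup (GL ι F)) : Prop where
  type : Cfsg.Geo.IsSymplecticTypeGroup 3 R
  absIrred : Cfsg.Geo.ActsAbsolutelyIrreducibly (Cfsg.Geo.matrixSet R)
  centre : Nat.card (Subgroup.center R) = 3
  big : 27 ≤ Nat.card R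

/-- The data of the class give these conditions. -/
theorem sympl_of_data {R : Subgroup (GL ι F)} (hR : Cfsg.Geo.IsLinearSymplecticTypeData 3 R) : Sympl R := by
  obtain ⟨p, e, -, -, hd⟩ := hR.field
  rcases hd with ⟨-, -, hZ, m, hm, hcard⟩ | ⟨hc, -⟩ | ⟨hc, -⟩
  · refine ⟨hR.symplecticType, hR.absIrred, hZ, ?_⟩
    rw [hcard]
    exact le_trans (by norm_num : 27 ≤ 3 ^ 3) (Nat.pow_le_pow_right (by norm_num) (by omega))
  · exact absurd hc (by decide)
  · exact absurd hc (by decide)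

/-- The commutators are cube roots of unity. -/
theorem rel_of_data (h3 : (3 : F) ≠ 0) {R : Subgroup (GL ι F)} (hR : Sympl R) :
    (∀ a ∈ R, a ^ 3 = 1) ∧ (∀ a ∈ R, ∀ b ∈ R, ∃ c : F, c ^ 3 = 1 ∧ a.val * b.val = c • (b.val * a.val)) ∧
      ∃ a ∈ R, ∃ b ∈ R, a * b ≠ b * a := by
  classical
  haveI : Fact (Nat.Prime 3) := ⟨Nat.prime_three⟩
  have hexp : Monoid.exponent R = 3 := by rw [hR.type.exponent_eq]; norm_num
  have hZ := hR.centre
  have h27 := hR.big
  have hpow : ∀ r : R, r ^ 3 = 1 := fun r => by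
    have := Monoid.pow_exponent_eq_one r
    rwa [hexp] at this
  haveI : Finite R := Nat.finite_of_card_ne_zero (by omega)
  haveI : Nontrivial R := Finite.one_lt_card_iff_nontrivial.1 (by omega)
  obtain ⟨D, z, hDc, hDcy, -, -, -, hZD, -, -, hcomm⟩ :=
    CfsgLib.SymplecticTypeP.core (p := 3) hR.type.pGroup hR.type.cyclic_of_characteristic
  have hDZ : Subgroup.center R = D := by
    refine Subgroup.eq_of_le_of_card_ge hZD ?_
    obtain ⟨g, hg⟩ := IsCyclic.exists_ofOrder_eq_natCard (α := D)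
    rw [hZ, ← hg]
    exact Nat.le_of_dvd (by norm_num) (orderOf_dvd_of_pow_eq_one (Subtype.ext (by simpa using hpow g.1)))
  have hscal : ∀ x ∈ Subgroup.center R, ∃ c : F, c ^ 3 = 1 ∧ (x : GL ι F).val = c • (1 : Matrix ι ι F) := by
    intro x hx
    obtain ⟨c, hc⟩ := hR.absIrred.2 (x : GL ι F).val (by
      rintro _ ⟨r, hr, rfl⟩
      exact congrArg (fun y : R => (y : GL ι F).val) (Subgroup.mem_center_iff.1 hx ⟨r, hr⟩).symm)
    refine ⟨c, ?_, hc⟩
    have h1 := congrArg (fun y : R => (y : GL ι F).val) (hpow x)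
    simp only [SubmonoidClass.coe_pow, Units.val_pow_eq_pow_val, OneMemClass.coe_one, Units.val_one, hc, smul_pow,
      one_pow] at h1
    rcases isEmpty_or_nonempty ι with hι | hι
    · exfalso
      haveI : Subsingleton (GL ι F) := ⟨fun a b => Units.ext (Matrix.ext fun i => hι.elim i)⟩
      haveI : Subsingleton R := ⟨fun a b => Subtype.ext (Subsingleton.elim _ _)⟩
      exact not_nontrivial R inferInstance
    · obtain ⟨i⟩ := hι
      simpa using congrFun (congrFun h1 i) i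
  refine ⟨fun a ha => congrArg Subtype.val (hpow ⟨a, ha⟩), fun a ha b hb => ?_, ?_⟩
  · have hmem : ⁅(⟨a, ha⟩ : R), ⟨b, hb⟩⁆ ∈ Subgroup.center R := by
      rw [hDZ]
      refine hcomm _ _ ?_
      rw [← hDZ]
      exact fun d hd => (Subgroup.mem_center_iff.1 hd _).symm
    obtain ⟨c, hc, e⟩ := hscal _ hmem
    refine ⟨c, hc, ?_⟩
    have h1 : a * b = ((⁅(⟨a, ha⟩ : R), ⟨b, hb⟩⁆ : R) : GL ι F) * (b * a) := by
      show a * b = a * b * a⁻¹ * b⁻¹ * (b * a)
      group
    have h2 := congrArg Units.val h1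
    rwa [Units.val_mul, Units.val_mul, e, Matrix.smul_mul, one_mul, Units.val_mul] at h2
  · by_contra hno
    push Not at hno
    have : Subgroup.center R = ⊤ :=
      eq_top_iff.2 fun x _ => Subgroup.mem_center_iff.2 fun g => Subtype.ext (hno _ g.2 _ x.2)
    rw [this, Subgroup.card_top] at hZ
    omega

/-- The class-six group in standard form. -/
theorem exists_frame (h3 : (3 : F) ≠ 0) (hι : Fintype.card ι = 9) {R : Subgroup (GL ι F)}
    (hR : Sympl R) :
    ∃ (ω : F) (h : Root ω) (e : ι ≃ (Fin 2 → Fin 3)) (B : GL ι F), R = (R0 h).map (frU e B).toMonoidHom := by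
  classical
  obtain ⟨hcube, hrel, a₀, ha₀, b₀, hb₀, hab⟩ := rel_of_data h3 hR
  obtain ⟨ω, hω3, hω⟩ := hrel a₀ ha₀ b₀ hb₀
  have hω1 : ω ≠ 1 := fun e => hab (Units.ext (by rw [Units.val_mul, Units.val_mul, hω, e, one_smul]))
  have h : Root ω := root_of_cube h3 hω3 hω1
  refine ⟨ω, h, ?_⟩
  have hRel : ∀ a ∈ R, ∀ b ∈ R, ∃ r : ℕ, Rel ω a b r := fun a ha b hb => by
    obtain ⟨c, hc, e⟩ := hrel a ha b hb
    rcases h.cases hc with rfl | rfl | rfl
    · exact ⟨0, by rw [Rel, pow_zero]; exact e⟩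
    · exact ⟨1, by rw [Rel, pow_one]; exact e⟩
    · exact ⟨2, by rw [Rel, pow_two]; exact e⟩
  -- correction by a pair
  have fixpair : ∀ x ∈ R, ∀ y ∈ R, Rel ω x y 1 → ∀ g ∈ R,
      ∃ i j : ℕ, g * y ^ i * x ^ j ∈ R ∧ Rel ω (g * y ^ i * x ^ j) x 0 ∧ Rel ω (g * y ^ i * x ^ j) y 0 := by
    intro x hx y hy hxy g hg
    obtain ⟨a, ha⟩ := hRel g hg x hx
    obtain ⟨b, hb⟩ := hRel g hg y hy
    refine ⟨a, 2 * b, mul_mem (mul_mem hg (pow_mem hy _)) (pow_mem hx _), ?_, ?_⟩
    · exact ((ha.mul ((hxy.symm h).pow a)).mul ((Rel.self x).pow (2 * b))).comm h (l := a) (by ring)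
    · exact ((hb.mul ((Rel.self y).pow a)).mul (hxy.pow (2 * b))).comm h (l := b) (by ring)
  have hx₁ : Rel ω a₀ b₀ 1 := by rw [Rel, pow_one]; exact hω
  set x₁ := a₀ with hx₁def
  set y₁ := b₀ with hy₁def
  have cube : ∀ {a : GL ι F}, a ∈ R → a.val * (a.val * a.val) = 1 := fun {a} ha => by
    rw [← Units.val_mul, ← Units.val_mul, ← pow_three, hcube a ha, Units.val_one]
  haveI : Nonempty ι := Fintype.card_pos_iff.1 (by omega)
  -- a second pair
  obtain ⟨x₂, hx₂R, y₂, hy₂R, h21, h22, h23, h24, hx₂⟩ : ∃ x₂ ∈ R, ∃ y₂ ∈ R, Rel ω x₂ x₁ 0 ∧ Rel ω x₂ y₁ 0 ∧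
      Rel ω y₂ x₁ 0 ∧ Rel ω y₂ y₁ 0 ∧ Rel ω x₂ y₂ 1 := by
    obtain ⟨c, hcR, hcx, hcy, g, hgR, r, hr, hcg⟩ : ∃ c ∈ R, Rel ω c x₁ 0 ∧ Rel ω c y₁ 0 ∧ ∃ g ∈ R, ∃ r,
        (r % 3 ≠ 0) ∧ Rel ω c g r := by
      by_contra hno
      have hcent : ∀ c ∈ R, Rel ω c x₁ 0 → Rel ω c y₁ 0 → ∃ s : F, c.val = s • 1 := by
        intro c hc h1 h2
        refine hR.absIrred.2 c.val ?_
        rintro _ ⟨g, hg, rfl⟩
        obtain ⟨r, hr⟩ := hRel c hc g hg
        by_cases hr3 : r % 3 = 0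
        · exact (hr.comm h (l := r / 3) (by omega)).eq
        · exact absurd ⟨c, hc, h1, h2, g, hg, r, hr3, hr⟩ hno
      obtain ⟨v, hv, hxv⟩ : ∃ v : ι → F, v ≠ 0 ∧ x₁.val *ᵥ v = v := by
        have hne : pr ω x₁.val 0 * 1 ≠ 0 := pr_ne h hx₁ (Commute.one_right _) one_ne_zero
        rw [mul_one] at hne
        obtain ⟨w, hw⟩ : ∃ w, pr ω x₁.val 0 *ᵥ w ≠ 0 := by
          by_contra! hw
          exact hne (Matrix.ext_of_mulVec_single fun i => by rw [hw, Matrix.zero_mulVec])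
        exact ⟨_, hw, by rw [Matrix.mulVec_mulVec, pr_fix ω (cube ha₀)]⟩
      let W : Submodule F (ι → F) := Submodule.span F (Set.range fun k : Fin 3 => (y₁.val ^ (k : ℕ)) *ᵥ v)
      have hy3 : y₁.val ^ 3 = 1 := by rw [pow_three]; exact cube hb₀
      have hgen : ∀ k : ℕ, (y₁.val ^ k) *ᵥ v ∈ W := fun k => by
        rw [pow_eq_pow_mod k hy3]
        exact Submodule.subset_span ⟨⟨k % 3, Nat.mod_lt _ (by norm_num)⟩, rfl⟩
      have hxW : ∀ j k : ℕ, x₁.val ^ j *ᵥ (y₁.val ^ k *ᵥ v) ∈ W := by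
        intro j k
        have e : (x₁ ^ j).val * (y₁ ^ k).val = ω ^ (j * (2 * (k * (2 * 1)))) • ((y₁ ^ k).val * (x₁ ^ j).val) :=
          ((((hx₁.symm h).pow k).symm h).pow j)
        rw [Units.val_pow_eq_pow_val, Units.val_pow_eq_pow_val] at e
        have hfix : ∀ j : ℕ, x₁.val ^ j *ᵥ v = v := fun j => by
          induction j with
          | zero => rw [pow_zero, Matrix.one_mulVec]
          | succ j ih => rw [pow_succ, ← Matrix.mulVec_mulVec, hxv, ih]
        rw [Matrix.mulVec_mulVec, e, Matrix.smul_mulVec, ← Matrix.mulVec_mulVec, hfix]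
        exact W.smul_mem _ (hgen k)
      have hinv : ∀ s ∈ Cfsg.Geo.matrixSet R, W.map (Matrix.toLin' s) ≤ W := by
        rintro _ ⟨g, hg, rfl⟩
        obtain ⟨i, j, hmem, r1, r2⟩ := fixpair x₁ ha₀ y₁ hb₀ hx₁ g hg
        obtain ⟨s, hs⟩ := hcent _ hmem r1 r2
        rw [Submodule.map_span_le]
        rintro _ ⟨k, rfl⟩
        show Matrix.toLin' g.val ((y₁.val ^ (k : ℕ)) *ᵥ v) ∈ W
        rw [Matrix.toLin'_apply]
        have hgv : g.val = s • (x₁.val ^ (2 * j) * y₁.val ^ (2 * i)) := by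
          have hx3 : x₁.val ^ 3 = 1 := by rw [pow_three]; exact cube ha₀
          calc g.val = g.val * y₁.val ^ i * (x₁.val ^ j * x₁.val ^ (2 * j)) * y₁.val ^ (2 * i) := by
                rw [← pow_add, show j + 2 * j = 3 * j by ring, pow_mul x₁.val, hx3, one_pow, mul_one, mul_assoc,
                  ← pow_add, show i + 2 * i = 3 * i by ring, pow_mul, hy3, one_pow, mul_one]
            _ = (g * y₁ ^ i * x₁ ^ j).val * (x₁.val ^ (2 * j) * y₁.val ^ (2 * i)) := by
                rw [Units.val_mul, Units.val_mul, Units.val_pow_eq_pow_val, Units.val_pow_eq_pow_val]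
                simp only [mul_assoc]
            _ = _ := by rw [hs, Matrix.smul_mul, one_mul]
        rw [hgv, Matrix.smul_mulVec, ← Matrix.mulVec_mulVec, Matrix.mulVec_mulVec (M := y₁.val ^ (2 * i)), ← pow_add]
        exact W.smul_mem _ (hxW _ _)
      rcases hR.absIrred.1 W hinv with e | e
      · have := hgen 0
        rw [e, Submodule.mem_bot, pow_zero, Matrix.one_mulVec] at this
        exact hv this
      · have hle := finrank_range_le_card (R := F) (b := fun k : Fin 3 => (y₁.val ^ (k : ℕ)) *ᵥ v)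
        rw [Set.finrank, show Submodule.span F (Set.range fun k : Fin 3 => (y₁.val ^ (k : ℕ)) *ᵥ v) = ⊤ from e,
          finrank_top, Module.finrank_fintype_fun_eq_card, Fintype.card_fin, hι] at hle
        omega
    obtain ⟨i, j, hg'R, hg'x, hg'y⟩ := fixpair x₁ ha₀ y₁ hb₀ hx₁ g hgR
    have hcg' : Rel ω (g * y₁ ^ i * x₁ ^ j) c (2 * r) := by
      have := ((hcg.symm h).mul ((hcy.symm h).pow i)).mul ((hcx.symm h).pow j)
      simpa using this
    set g' := g * y₁ ^ i * x₁ ^ j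
    have hcg'' : Rel ω c g' (4 * r) := by rw [show 4 * r = 2 * (2 * r) by ring]; exact hcg'.symm h
    -- scale
    refine ⟨c ^ (r % 3), pow_mem hcR _, g', hg'R, ?_, ?_, hg'x, hg'y, ?_⟩
    · simpa using hcx.pow (r % 3)
    · simpa using hcy.pow (r % 3)
    · have := hcg''.pow (r % 3)
      unfold Rel at this ⊢
      rw [this]
      congr 1
      rcases (show r % 3 = 1 ∨ r % 3 = 2 by omega) with e | e <;> rw [e]
      · rw [one_mul, pow_one, show 4 * r = 3 * (r + r / 3) + 1 by omega, pow_add, pow_mul, h.cube, one_pow, one_mul,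
          pow_one]
      · rw [show 2 * (4 * r) = 3 * (2 * r + 2 * (r / 3) + 1) + 1 by omega, pow_add, pow_mul, h.cube, one_pow, one_mul,
          pow_one]
  -- a common fixed vector
  obtain ⟨v, hv, hv1, hv2⟩ : ∃ v : ι → F, v ≠ 0 ∧ x₁.val *ᵥ v = v ∧ x₂.val *ᵥ v = v := by
    have hQ : pr ω x₂.val 0 * 1 ≠ 0 := pr_ne h hx₂ (Commute.one_right _) one_ne_zero
    rw [mul_one] at hQ
    have hc : ∀ {g : GL ι F}, Rel ω x₂ g 0 → Commute g.val (pr ω x₂.val 0) := fun {g} hg => by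
      have e : Commute g.val x₂.val := hg.eq.symm
      exact ((Commute.one_right _).add_right (e.smul_right _)).add_right ((e.mul_right e).smul_right _)
    have hne := pr_ne h hx₁ (hc h22) hQ
    obtain ⟨w, hw⟩ : ∃ w, (pr ω x₁.val 0 * pr ω x₂.val 0) *ᵥ w ≠ 0 := by
      by_contra! hw
      exact hne (Matrix.ext_of_mulVec_single fun i => by rw [hw, Matrix.zero_mulVec])
    refine ⟨_, hw, by rw [Matrix.mulVec_mulVec, ← mul_assoc, pr_fix ω (cube ha₀)], ?_⟩
    have e : Commute x₂.val (pr ω x₁.val 0) := by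
      have e : Commute x₂.val x₁.val := h21.eq
      exact ((Commute.one_right _).add_right (e.smul_right _)).add_right ((e.mul_right e).smul_right _)
    rw [Matrix.mulVec_mulVec, ← mul_assoc, e.eq, mul_assoc, pr_fix ω (cube hx₂R)]
  let vs : (Fin 2 → Fin 3) → ι → F := fun x => (y₁.val ^ (x 0 : ℕ) * y₂.val ^ (x 1 : ℕ)) *ᵥ v
  have hy₁3 : y₁.val ^ 3 = 1 := by rw [pow_three]; exact cube hb₀
  have hy₂3 : y₂.val ^ 3 = 1 := by rw [pow_three]; exact cube hy₂R
  have hvec : ∀ (g : GL ι F) (r s : ℕ), Rel ω g y₁ r → Rel ω g y₂ s → g.val *ᵥ v = v → ∀ x,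
      g.val *ᵥ vs x = ω ^ ((x 0 : ℕ) * r + (x 1 : ℕ) * s) • vs x := by
    intro g r s h1 h2 hgv x
    have e1 := (((h1.symm h).pow (x 0 : ℕ)).mul ((h2.symm h).pow (x 1 : ℕ))).symm h
    unfold Rel at e1
    rw [Units.val_mul, Units.val_pow_eq_pow_val, Units.val_pow_eq_pow_val] at e1
    show g.val *ᵥ ((y₁.val ^ (x 0 : ℕ) * y₂.val ^ (x 1 : ℕ)) *ᵥ v) = _
    rw [Matrix.mulVec_mulVec, e1, Matrix.smul_mulVec, ← Matrix.mulVec_mulVec, hgv,
      show 2 * ((x 0 : ℕ) * (2 * r) + (x 1 : ℕ) * (2 * s)) =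
        3 * ((x 0 : ℕ) * r + (x 1 : ℕ) * s) + ((x 0 : ℕ) * r + (x 1 : ℕ) * s) by ring,
      pow_add, pow_mul, h.cube, one_pow, one_mul]
  have hX₁ : ∀ x, x₁.val *ᵥ vs x = ω ^ (x 0 : ℕ) • vs x := fun x => by
    simpa using hvec x₁ 1 0 hx₁ ((h23.symm h)) hv1 x
  have hX₂ : ∀ x, x₂.val *ᵥ vs x = ω ^ (x 1 : ℕ) • vs x := fun x => by
    simpa using hvec x₂ 0 1 h22 hx₂ hv2 x
  have succ_pow : ∀ {Y : Matrix ι ι F}, Y ^ 3 = 1 → ∀ a : Fin 3, Y * Y ^ (a : ℕ) = Y ^ ((a + 1 : Fin 3) : ℕ) := by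
    intro Y hY a
    rw [← pow_succ', pow_eq_pow_mod _ hY]
    congr 1
  have hY₁ : ∀ x, y₁.val *ᵥ vs x = vs (Function.update x 0 (x 0 + 1)) := fun x => by
    show y₁.val *ᵥ ((y₁.val ^ (x 0 : ℕ) * y₂.val ^ (x 1 : ℕ)) *ᵥ v) = _
    rw [Matrix.mulVec_mulVec, ← mul_assoc, succ_pow hy₁3]
    simp [vs]
  have hY₂ : ∀ x, y₂.val *ᵥ vs x = vs (Function.update x 1 (x 1 + 1)) := fun x => by
    show y₂.val *ᵥ ((y₁.val ^ (x 0 : ℕ) * y₂.val ^ (x 1 : ℕ)) *ᵥ v) = _
    have e : Commute y₂.val (y₁.val ^ (x 0 : ℕ)) := Commute.pow_right h24.eq _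
    rw [Matrix.mulVec_mulVec, ← mul_assoc, e.eq, mul_assoc, succ_pow hy₂3]
    simp [vs]
  have hne : ∀ x, vs x ≠ 0 := fun x e => hv (by
    have := congrArg ((y₁ ^ (x 0 : ℕ) * y₂ ^ (x 1 : ℕ))⁻¹ : GL ι F).val.mulVec e
    rwa [Matrix.mulVec_zero, Matrix.mulVec_mulVec, ← Units.val_pow_eq_pow_val, ← Units.val_pow_eq_pow_val, ← Units.val_mul,
      ← Units.val_mul, inv_mul_cancel, Units.val_one, Matrix.one_mulVec] at this)
  -- independence
  have hli : LinearIndependent F vs := by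
    rw [Fintype.linearIndependent_iff]
    intro c hc z
    have h9 : ∀ a i : Fin 3,
        (1 + (ω * ω) ^ (a : ℕ) * ω ^ (i : ℕ) + ω ^ (a : ℕ) * (ω ^ (i : ℕ) * ω ^ (i : ℕ)) : F) =
          if a = i then 3 else 0 := by
      intro a i
      have := h.eq
      fin_cases a <;> fin_cases i <;> simp <;> grind
    have hp : ∀ (X : Matrix ι ι F) (a : Fin 3) (i : Fin 3) (x : ι → F), X *ᵥ x = ω ^ (i : ℕ) • x →
        pr ω X (a : ℕ) *ᵥ x = (if a = i then (3 : F) else 0) • x := by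
      intro X a i x hx
      rw [pr, Matrix.add_mulVec, Matrix.add_mulVec, Matrix.one_mulVec, Matrix.smul_mulVec, Matrix.smul_mulVec,
        ← Matrix.mulVec_mulVec, hx, Matrix.mulVec_smul, hx, smul_smul, smul_smul, smul_smul, ← h9 a i, add_smul,
        add_smul, one_smul, mul_assoc]
    have hT : ∀ x, (pr ω x₁.val (z 0 : ℕ) * pr ω x₂.val (z 1 : ℕ)) *ᵥ vs x = if x = z then (9 : F) • vs x else 0 := by
      intro x
      rw [← Matrix.mulVec_mulVec, hp _ _ _ _ (hX₂ x), Matrix.mulVec_smul, hp _ _ _ _ (hX₁ x), smul_smul]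
      by_cases e : x = z
      · subst e; rw [if_pos rfl, if_pos rfl, if_pos rfl]; norm_num
      · rw [if_neg e]
        by_cases e1 : z 1 = x 1
        · have e0 : z 0 ≠ x 0 := fun e0 => e (funext fun i => by fin_cases i <;> [exact e0.symm; exact e1.symm])
          rw [if_neg e0, mul_zero, zero_smul]
        · rw [if_neg e1, zero_mul, zero_smul]
    have := congrArg ((pr ω x₁.val (z 0 : ℕ) * pr ω x₂.val (z 1 : ℕ)).mulVec) hc
    simp only [Matrix.mulVec_sum, Matrix.mulVec_smul, hT, Matrix.mulVec_zero, smul_ite, smul_zero,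
      Finset.sum_ite_eq', Finset.mem_univ, if_true, smul_smul, smul_eq_zero] at this
    rcases this with e | e
    · exact (mul_eq_zero.1 e).resolve_right (by
        rw [show (9 : F) = 3 * 3 by norm_num]; exact mul_ne_zero h.three h.three)
    · exact absurd e (hne z)
  let e : ι ≃ (Fin 2 → Fin 3) := Fintype.equivOfCardEq (by rw [hι]; simp)
  obtain ⟨B, hB⟩ : IsUnit (Matrix.of fun i j => vs (e j) i) :=
    Matrix.linearIndependent_cols_iff_isUnit.1 (hli.comp e e.injective)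
  refine ⟨e, B, ?_⟩
  have std : ∀ (g : GL ι F) (k : GL (Fin 2 → Fin 3) F) (f : (Fin 2 → Fin 3) → ι → F),
      (∀ x, g.val *ᵥ vs x = f x) → (∀ x, f x = ∑ z, k.val z x • vs z) → g = frU e B k := by
    intro g k f hg hk
    refine Units.ext ?_
    rw [frU_val, frAlg_apply, Units.eq_mul_inv_iff_mul_eq]
    ext i j
    have e1 := congrFun (hg (e j)) i
    rw [hk, Finset.sum_apply] at e1
    rw [Matrix.mul_apply, Matrix.mul_apply, hB]
    simp only [Matrix.of_apply, Matrix.submatrix_apply]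
    simp only [Matrix.mulVec, dotProduct, Pi.smul_apply, smul_eq_mul] at e1
    rw [e1, ← e.sum_comp]
    exact Finset.sum_congr rfl fun _ _ => mul_comm _ _
  have sX₁ : x₁ = frU e B (fu 0 (tG (sX h))) := std _ _ _ hX₁ fun x => by
    simp [fu_val, show (sX h : SL).1 = Xm ω from rfl, fa0_diag, Matrix.diagonal_apply]
  have sX₂ : x₂ = frU e B (fu 1 (tG (sX h))) := std _ _ _ hX₂ fun x => by
    simp [fu_val, show (sX h : SL).1 = Xm ω from rfl, fa1_diag, Matrix.diagonal_apply]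
  have sY₁ : y₁ = frU e B (fu 0 (tG sY)) := std _ _ _ hY₁ fun x => by
    simp [fu_val, show (sY : SL).1 = (Ym : Mn) from rfl, fa_Ym]
  have sY₂ : y₂ = frU e B (fu 1 (tG sY)) := std _ _ _ hY₂ fun x => by
    simp [fu_val, show (sY : SL).1 = (Ym : Mn) from rfl, fa_Ym]
  refine le_antisymm (fun g hg => ?_) ?_
  · obtain ⟨i, j, hmem, r1, r2⟩ := fixpair x₁ ha₀ y₁ hb₀ hx₁ g hg
    obtain ⟨k, l, hmem', r3, r4⟩ := fixpair x₂ hx₂R y₂ hy₂R hx₂ _ hmem
    set w := g * y₁ ^ i * x₁ ^ j * y₂ ^ k * x₂ ^ l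
    have w1 : Rel ω w x₁ 0 := by simpa using (r1.mul (h23.pow k)).mul (h21.pow l)
    have w2 : Rel ω w y₁ 0 := by simpa using (r2.mul (h24.pow k)).mul (h22.pow l)
    obtain ⟨w', hw'⟩ : ∃ w', frU e B w' = w := ⟨_, (frU e B).apply_symm_apply w⟩
    have pull : ∀ {k : GL (Fin 2 → Fin 3) F} {x : GL ι F}, x = frU e B k → Rel ω w x 0 →
        w'.val * k.val = k.val * w'.val := by
      intro k x hk hrel'
      have e' := congrArg Units.val (show w' * k = k * w' from (frU e B).injective (by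
        rw [map_mul, map_mul, hw', ← hk]; exact Units.ext (by rw [Units.val_mul, Units.val_mul]; exact hrel'.eq)))
      rwa [Units.val_mul, Units.val_mul] at e'
    obtain ⟨c, hc⟩ := scalar_of_comm4 h (M := w'.val)
      (fun i => by
        fin_cases i
        · have := pull sX₁ w1; rwa [fu_val, tG_val] at this
        · have := pull sX₂ r3; rwa [fu_val, tG_val] at this)
      (fun i => by
        fin_cases i
        · have := pull sY₁ w2; rwa [fu_val, tG_val] at this
        · have := pull sY₂ r4; rwa [fu_val, tG_val] at this)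
    have hw0 : w' ∈ R0 h := by
      have hwc : w' ^ 3 = 1 := (frU e B).injective (by rw [map_pow, hw', hcube w hmem', map_one])
      have hc3 : c ^ 3 = 1 := by
        have := congrArg Units.val hwc
        rw [Units.val_pow_eq_pow_val, hc, smul_pow, one_pow, Units.val_one] at this
        simpa using congrFun (congrFun this (fun _ => 0)) (fun _ => 0)
      obtain ⟨n, rfl⟩ : ∃ n : ℕ, c = ω ^ n := by
        rcases h.cases hc3 with e | e | e
        exacts [⟨0, by rw [e, pow_zero]⟩, ⟨1, by rw [e, pow_one]⟩, ⟨2, by rw [e, pow_two]⟩]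
      rw [show w' = q2 (sZ h ^ n, 1) by
        refine Units.ext ?_
        rw [hc, q2_left, fu_val, tG_val, sZ_pow_val, map_smul, map_one]]
      exact q2_mem_R0 h (pow_mem (center_le_R1 h (sZ_center h)) _) (one_mem _)
    have hin : ∀ {x : GL ι F} {k : GL (Fin 2 → Fin 3) F}, x = frU e B k → k ∈ R0 h → ∀ n : ℕ,
        x ^ n ∈ (R0 h).map (frU e B).toMonoidHom :=
      fun {x k} hk hkm n => pow_mem (show x ∈ (R0 h).map (frU e B).toMonoidHom from ⟨k, hkm, hk.symm⟩) n
    have hg' : g = w * (x₂ ^ l)⁻¹ * (y₂ ^ k)⁻¹ * (x₁ ^ j)⁻¹ * (y₁ ^ i)⁻¹ := by simp only [w]; group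
    rw [hg']
    exact mul_mem (mul_mem (mul_mem (mul_mem (show w ∈ (R0 h).map (frU e B).toMonoidHom from ⟨w', hw0, hw'⟩)
      (inv_mem (hin sX₂ (Subgroup.subset_closure (by simp)) l)))
      (inv_mem (hin sY₂ (Subgroup.subset_closure (by simp)) k)))
      (inv_mem (hin sX₁ (Subgroup.subset_closure (by simp)) j)))
      (inv_mem (hin sY₁ (Subgroup.subset_closure (by simp)) i))
  · rw [Subgroup.map_le_iff_le_comap]
    refine (Subgroup.closure_le _).2 ?_
    rintro _ (rfl | rfl | rfl | rfl) <;> show frU e B _ ∈ R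
    · rw [← sX₁]; exact ha₀
    · rw [← sY₁]; exact hb₀
    · rw [← sX₂]; exact hx₂R
    · rw [← sY₂]; exact hy₂R

end CfsgLib.MaxSub.SLNine
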