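/-
The monomial subgroup is maximal in `SL_n` for `n ≥ 9`.
-/
import Cfsg.Agent.Lib.MaxSub.Monomial.Six

set_option autoImplicit false
set_option maxHeartbeats 600000
set_option linter.unusedVariables false

namespace CfsgLib.MaxSub.Monomial

open Matrix Module

variable {F : Type*} [Field F] [Fintype F] {n : ℕ} {K : Subgroup (Matrix.SpecialLinearGroup (Fin n) F)}

local notation "V" => Fin n → F
local notation "Mn" => Matrix (Fin n) (Fin n) F

/-- The monomial group is maximal from dimension nine on. -/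
theorem top_of_not_mono_nine (hq : 5 ≤ Fintype.card F) (hN : HasMono K) (hn : 9 ≤ n) {g₀ : Mn}
    (hg₀ : In K g₀) (hm₀ : ¬ Mono g₀) : K = ⊤ := by
  classical
  by_contra hK
  -- a non-monomial member has at most one zero in each column
  have good : ∀ {A : Mn}, In K A → ¬ Mono A → ∀ p z z', z ≠ z' → A z p = 0 → A z' p = 0 → False :=
    fun hA hm _ _ _ hne hz hz' => col_zero_le hq hN (by omega) hK hA hm hne hz hz'
  have dense : ∀ {A : Mn}, In K A → ¬ Mono A → ∀ p, ∀ M : Finset (Fin n), M.card + 2 ≤ n →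
      ∃ k ∉ M, A k p ≠ 0 := fun hA hm => col_dense hq hN (by omega) hK hA hm
  obtain ⟨g, gi, hg, hgi, h1, h2, hm, p, z₀, hz₀⟩ := exists_zero hq hN (by omega) hK hg₀ hm₀
  -- sparse rows
  have hgim : ¬ Mono gi := fun h => hm (mono_inverse h h2)
  have rows : ∀ {A : Mn}, In K A → ¬ Mono A → ∀ i i' : Fin n, i ≠ i' → ∀ S S' : Finset (Fin n),
      S.card + S'.card < n → (∀ j ∉ S, A i j = 0) → (∀ j ∉ S', A i' j = 0) → False := by
    intro A hA hm i i' hne S S' hc hS hS'
    obtain ⟨j, hj⟩ := exists_fresh (S ∪ S') (lt_of_le_of_lt (Finset.card_union_le _ _) hc)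
    simp only [Finset.mem_union, not_or] at hj
    exact good hA hm j i i' hne (hS j hj.1) (hS' j hj.2)
  let Sparse : Mn → ℕ → Fin n → Prop := fun A r i => ∃ S : Finset (Fin n), S.card ≤ r ∧
    ∀ j ∉ S, A i j = 0
  obtain ⟨U, hU, hUp, hUg, hUi⟩ : ∃ U : Finset (Fin n), U.card ≤ 4 ∧ p ∈ U ∧
      (∀ i, Sparse g 4 i → i ∈ U) ∧ (∀ i, Sparse gi 2 i → ∀ j ∉ U, gi i j = 0) := by
    obtain ⟨G, hG, hGs⟩ : ∃ G : Finset (Fin n), G.card ≤ 1 ∧ ∀ i, Sparse g 4 i → i ∈ G := by
      by_cases h : ∃ i, Sparse g 4 i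
      · obtain ⟨i, S, hS, hSi⟩ := h
        refine ⟨{i}, by simp, fun i' ⟨S', hS', hSi'⟩ => ?_⟩
        by_contra hne
        exact rows hg hm i i' (fun e => hne (by simp [e])) S S' (by omega) hSi hSi'
      · exact ⟨∅, by simp, fun i hi => absurd ⟨i, hi⟩ h⟩
    obtain ⟨H, hH, hHs⟩ : ∃ H : Finset (Fin n), H.card ≤ 2 ∧
        ∀ i, Sparse gi 2 i → ∀ j ∉ H, gi i j = 0 := by
      by_cases h : ∃ i, Sparse gi 2 i
      · obtain ⟨i, S, hS, hSi⟩ := h
        refine ⟨S, hS, fun i' ⟨S', hS', hSi'⟩ => ?_⟩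
        by_cases hne : i = i'
        · subst hne; exact hSi
        · exact (rows hgi hgim i i' hne S S' (by omega) hSi hSi').elim
      · exact ⟨∅, by simp, fun i hi => absurd ⟨i, hi⟩ h⟩
    refine ⟨insert p (G ∪ H), ?_, Finset.mem_insert_self _ _,
      fun i hi => Finset.mem_insert_of_mem (Finset.mem_union_left _ (hGs i hi)),
      fun i hi j hj => hHs i hi j fun h =>
        hj (Finset.mem_insert_of_mem (Finset.mem_union_right _ h))⟩
    have := Finset.card_insert_le p (G ∪ H)
    have := Finset.card_union_le G H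
    omega
  obtain ⟨k, hk⟩ := exists_fresh U (by omega)
  obtain ⟨l, hl⟩ := exists_fresh (insert k U)
    (lt_of_le_of_lt (Finset.card_insert_le _ _) (by omega))
  simp only [Finset.mem_insert, not_or] at hl
  obtain ⟨hlk, hlU⟩ := hl
  set φ : F → F → V := fun a b i => a * g k i + b * g l i with hφ
  have single : ∀ a b, (a ≠ 0 ∨ b ≠ 0) → ∀ i, (∀ j, j ≠ i → φ a b j = 0) → False := by
    intro a b hab i hi
    have e : ∀ j, φ a b i * gi i j = a * (1 : Mn) k j + b * (1 : Mn) l j := by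
      intro j
      rw [← h1, Matrix.mul_apply, Matrix.mul_apply, Finset.mul_sum, Finset.mul_sum,
        ← Finset.sum_add_distrib, Finset.sum_eq_single i]
      · simp only [hφ]; ring
      · intro x _ hx
        have := hi x hx
        simp only [hφ] at this
        linear_combination gi x j * this
      · exact fun h => absurd (Finset.mem_univ i) h
    have hi0 : φ a b i ≠ 0 := by
      intro h0
      have ek := e k
      have el := e l
      rw [h0, zero_mul] at ek el
      simp [hlk, Ne.symm hlk] at ek el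
      exact hab.elim (fun h => h ek.symm) fun h => h el.symm
    have hsp : Sparse gi 2 i := ⟨{k, l}, Finset.card_le_two, fun j hj => by
      simp only [Finset.mem_insert, Finset.mem_singleton, not_or] at hj
      have := e j
      rw [Matrix.one_apply_ne (Ne.symm hj.1), Matrix.one_apply_ne (Ne.symm hj.2), mul_zero,
        mul_zero, add_zero] at this
      exact (mul_eq_zero.1 this).resolve_left hi0⟩
    have ek := e k
    have el := e l
    rw [hUi i hsp k hk, mul_zero] at ek
    rw [hUi i hsp l hlU, mul_zero] at el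
    simp [hlk, Ne.symm hlk] at ek el
    exact hab.elim (fun h => h ek.symm) fun h => h el.symm
  -- the position of the zero
  obtain ⟨z', hz'⟩ : ∃ z', ∀ a b, (a ≠ 0 ∨ b ≠ 0) → ∀ i, ¬ ∀ j, j ≠ i → j ≠ z' → φ a b j = 0 := by
    by_cases h : ∃ a b, (a ≠ 0 ∨ b ≠ 0) ∧ ∃ S : Finset (Fin n), S.card ≤ 2 ∧ ∀ j ∉ S, φ a b j = 0
    · obtain ⟨a₀, b₀, hab₀, S, hS, hS0⟩ := h
      obtain ⟨z', hz'⟩ := exists_fresh S (by omega)
      refine ⟨z', fun a b hab i hi => ?_⟩
      by_cases hdet : a₀ * b - a * b₀ = 0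
      · -- proportional
        refine single a b hab i fun j hj => ?_
        by_cases hjz : j = z'
        · subst hjz
          have h0 := hS0 j hz'
          simp only [hφ] at h0 ⊢
          rcases hab₀ with ha | hb
          · refine mul_left_cancel₀ ha ?_
            linear_combination g l j * hdet + a * h0
          · refine mul_left_cancel₀ hb ?_
            linear_combination -g k j * hdet + b * h0
        · exact hi j hj hjz
      · refine hk (hUg k ⟨S ∪ {i, z'}, ?_, fun j hj => ?_⟩)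
        · have := Finset.card_union_le S {i, z'}
          have : ({i, z'} : Finset (Fin n)).card ≤ 2 := Finset.card_le_two
          omega
        · simp only [Finset.mem_union, Finset.mem_insert, Finset.mem_singleton, not_or] at hj
          have h0 := hS0 j hj.1
          have h3 := hi j hj.2.1 hj.2.2
          simp only [hφ] at h0 h3
          refine (mul_eq_zero.1 (?_ : (a₀ * b - a * b₀) * g k j = 0)).resolve_left hdet
          linear_combination b * h0 - b₀ * h3
    · refine ⟨p, fun a b hab i hi => h ⟨a, b, hab, {i, p}, Finset.card_le_two, fun j hj => ?_⟩⟩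
      simp only [Finset.mem_insert, Finset.mem_singleton, not_or] at hj
      exact hi j hj.1 hj.2
  obtain ⟨i, hiz, hki⟩ : ∃ i, i ≠ z' ∧ g k i ≠ 0 := by
    by_contra h
    push Not at h
    exact hz' 1 0 (Or.inl one_ne_zero) z' fun j hj _ => by simp [hφ, h j hj]
  obtain ⟨j, hjz, hdet⟩ : ∃ j, j ≠ z' ∧ g k i * g l j - g k j * g l i ≠ 0 := by
    by_contra h
    push Not at h
    exact hz' (-g l i) (g k i) (Or.inr hki) z' fun j hj _ => by
      simp only [hφ]; linear_combination h j hj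
  have hij : i ≠ j := fun e => hdet (by rw [e, sub_self])
  set D₀ := g k i * g l j - g k j * g l i with hD₀
  set A₀ : V := fun c => if c = i ∨ c = j ∨ c = z' then 0 else g l j * g k c - g k j * g l c with hA₀
  set B₀ : V := fun c => if c = i ∨ c = j ∨ c = z' then 0 else g k i * g l c - g l i * g k c with hB₀
  obtain ⟨c₀, hc₀⟩ : ∃ c, A₀ c ≠ 0 := by
    by_contra h
    push Not at h
    refine hz' (g l j) (-g k j) ?_ i fun c hci hcz => ?_
    · by_contra h'; push Not at h'
      exact hdet (by rw [hD₀, h'.1, neg_eq_zero.1 h'.2]; ring)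
    · simp only [hφ]
      by_cases hcj : c = j
      · rw [hcj]; ring
      · have := h c
        simp [hA₀, hci, hcz, hcj] at this
        linear_combination this
  obtain ⟨c₁, hc₁⟩ : ∃ c, B₀ c ≠ 0 := by
    by_contra h
    push Not at h
    refine hz' (-g l i) (g k i) (Or.inr hki) j fun c hcj hcz => ?_
    simp only [hφ]
    by_cases hci : c = i
    · rw [hci]; ring
    · have := h c
      simp [hB₀, hci, hcz, hcj] at this
      linear_combination this
  have hc₀' : c₀ ≠ i ∧ c₀ ≠ j ∧ c₀ ≠ z' := by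
    refine ⟨fun e => hc₀ ?_, fun e => hc₀ ?_, fun e => hc₀ ?_⟩ <;> simp [hA₀, e]
  -- values on the free coordinates
  obtain ⟨u₀, hu₀, t₁, t₂, ht, hv⟩ : ∃ u₀ : V, (∀ c, u₀ c ≠ 0) ∧ ∃ t₁ t₂ : F, t₁ ≠ t₂ ∧
      ∀ t ∈ ({t₁, t₂} : Finset F), t ≠ 0 ∧ A₀ ⬝ᵥ Function.update u₀ c₀ t ≠ 0 ∧
        B₀ ⬝ᵥ Function.update u₀ c₀ t ≠ 0 := by
    have upd : ∀ (X u : V) (c : Fin n) (t : F),
        X ⬝ᵥ Function.update u c t = X ⬝ᵥ u + X c * (t - u c) := by
      intro X u c t
      rw [show Function.update u c t = u + Pi.single c (t - u c) from funext fun x => by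
        by_cases hx : x = c
        · subst hx; simp
        · simp [hx], dotProduct_add, dotProduct_single]
    obtain ⟨u₀, hu₀, hBu⟩ : ∃ u₀ : V, (∀ c, u₀ c ≠ 0) ∧ (B₀ c₀ = 0 → B₀ ⬝ᵥ u₀ ≠ 0) := by
      obtain ⟨t, ht⟩ := exists_avoid hq {0, 1 - (B₀ ⬝ᵥ (1 : V)) * (B₀ c₁)⁻¹}
        (Finset.card_le_two.trans (by omega))
      simp only [Finset.mem_insert, Finset.mem_singleton, not_or] at ht
      refine ⟨Function.update 1 c₁ t, fun c => ?_, fun _ h => ht.2 ?_⟩
      · by_cases hc : c = c₁ <;> simp [hc, ht.1]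
      · rw [upd, Pi.one_apply] at h
        field_simp
        linear_combination h
    set rA := u₀ c₀ - (A₀ ⬝ᵥ u₀) * (A₀ c₀)⁻¹
    set rB := u₀ c₀ - (B₀ ⬝ᵥ u₀) * (B₀ c₀)⁻¹
    obtain ⟨t₁, ht₁⟩ := exists_avoid hq {0, rA, rB} (Finset.card_le_three.trans (by omega))
    obtain ⟨t₂, ht₂⟩ := exists_avoid hq {0, rA, rB, t₁} Finset.card_le_four
    simp only [Finset.mem_insert, Finset.mem_singleton, not_or] at ht₁ ht₂
    refine ⟨u₀, hu₀, t₁, t₂, Ne.symm ht₂.2.2.2, fun t ht => ?_⟩
    obtain ⟨ht0, htA, htB⟩ : t ≠ 0 ∧ t ≠ rA ∧ t ≠ rB := by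
      simp only [Finset.mem_insert, Finset.mem_singleton] at ht
      rcases ht with rfl | rfl
      · exact ht₁
      · exact ⟨ht₂.1, ht₂.2.1, ht₂.2.2.1⟩
    refine ⟨ht0, fun h => htA ?_, fun h => ?_⟩
    · rw [upd] at h
      simp only [rA]
      field_simp
      linear_combination h
    · rw [upd] at h
      by_cases hB : B₀ c₀ = 0
      · rw [hB, zero_mul, add_zero] at h; exact hBu hB h
      · refine htB ?_
        simp only [rB]
        field_simp
        linear_combination h
  let w : F → V := fun t c => if c = z' then 0 else if c = i then -(A₀ ⬝ᵥ Function.update u₀ c₀ t) * D₀⁻¹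
    else if c = j then -(B₀ ⬝ᵥ Function.update u₀ c₀ t) * D₀⁻¹ else Function.update u₀ c₀ t c
  set σ := Equiv.swap z₀ z' with hσ
  let R : V := gi.col p
  have hR : ∀ x, x ≠ z₀ → R x ≠ 0 := fun x hx h => good hgi hgim p x z₀ hx h hz₀
  have hsg : ((Equiv.Perm.sign σ : ℤ) : F) * ((Equiv.Perm.sign σ : ℤ) : F) = 1 := by
    rcases Int.units_eq_one_or (Equiv.Perm.sign σ) with e | e <;> simp [e]
  have elem : ∀ t ∈ ({t₁, t₂} : Finset F), ∃ d : V, (∀ x, d x ≠ 0) ∧
      (∀ x, x ≠ z₀ → d x = w t (σ x) * (R x)⁻¹) ∧ In K (monM σ d) ∧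
      Mono (g * monM σ d * gi) := by
    intro t ht'
    obtain ⟨ht0, htA, htB⟩ := hv t ht'
    have hw : ∀ x, x ≠ z' → w t x ≠ 0 := by
      intro x hx
      simp only [w, if_neg hx]
      split_ifs
      · exact mul_ne_zero (neg_ne_zero.2 htA) (inv_ne_zero hdet)
      · exact mul_ne_zero (neg_ne_zero.2 htB) (inv_ne_zero hdet)
      · by_cases hxc : x = c₀ <;> simp [hxc, ht0, hu₀]
    have hσne : ∀ x, x ≠ z₀ → σ x ≠ z' := fun x hx e => hx (σ.injective (by
      rw [e, hσ, Equiv.swap_apply_left]))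
    set T : F := ∏ x ∈ Finset.univ.erase z₀, w t (σ x) * (R x)⁻¹ with hT
    have hT0 : T ≠ 0 := Finset.prod_ne_zero_iff.2 fun x hx => mul_ne_zero
      (hw _ (hσne x (Finset.ne_of_mem_erase hx))) (inv_ne_zero (hR x (Finset.ne_of_mem_erase hx)))
    set d : V := fun x => if x = z₀ then ((Equiv.Perm.sign σ : ℤ) : F) * T⁻¹
      else w t (σ x) * (R x)⁻¹ with hd
    have hd0 : ∀ x, d x ≠ 0 := fun x => by
      simp only [hd]
      split_ifs with hx
      · exact mul_ne_zero (left_ne_zero_of_mul (hsg.trans_ne one_ne_zero)) (inv_ne_zero hT0)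
      · exact mul_ne_zero (hw _ (hσne x hx)) (inv_ne_zero (hR x hx))
    have hin := In.monM hN σ d (by
      rw [← Finset.mul_prod_erase Finset.univ d (Finset.mem_univ z₀),
        Finset.prod_congr rfl (fun x hx => show d x = w t (σ x) * (R x)⁻¹ from
          if_neg (Finset.ne_of_mem_erase hx)), ← hT]
      simp only [hd, if_pos rfl]
      field_simp
      linear_combination hsg)
    refine ⟨d, hd0, fun x hx => if_neg hx, hin, by_contra fun hm' => ?_⟩
    have emR : Monomial.monM σ d *ᵥ R = w t := by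
      funext x
      rw [monM_mulVec]
      by_cases hx : σ.symm x = z₀
      · have : x = z' := by rw [← σ.apply_symm_apply x, hx, hσ, Equiv.swap_apply_left]
        rw [hx, show R z₀ = 0 from hz₀, mul_zero, this]
        simp [w]
      · simp only [hd, if_neg hx, σ.apply_symm_apply]
        rw [mul_assoc, inv_mul_cancel₀ (hR _ hx), mul_one]
    have col : ∀ r, (g * monM σ d * gi) r p = ∑ x, g r x * w t x := fun r => by
      show ((g * monM σ d * gi).col p) r = (g *ᵥ w t) r
      rw [← emR, Matrix.mulVec_mulVec, ← Matrix.mulVec_single_one, ← Matrix.mulVec_mulVec,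
        Matrix.mulVec_single_one]
    set u := Function.update u₀ c₀ t
    have lin : ∀ r, D₀ * (∑ x, g r x * w t x) = ∑ c, u c *
        (if c = i ∨ c = j ∨ c = z' then 0 else D₀ * g r c) - g r i * (A₀ ⬝ᵥ u) -
          g r j * (B₀ ⬝ᵥ u) := by
      intro r
      rw [Finset.mul_sum, ← Finset.sum_erase_add _ _ (Finset.mem_univ i),
        ← Finset.sum_erase_add _ _ (Finset.mem_erase.2 ⟨hij.symm, Finset.mem_univ j⟩),
        ← Finset.sum_erase_add (Finset.univ) (fun c => u c *
          (if c = i ∨ c = j ∨ c = z' then 0 else D₀ * g r c)) (Finset.mem_univ i),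
        ← Finset.sum_erase_add (Finset.univ.erase i) (fun c => u c *
          (if c = i ∨ c = j ∨ c = z' then 0 else D₀ * g r c))
          (Finset.mem_erase.2 ⟨hij.symm, Finset.mem_univ j⟩)]
      simp only [true_or, or_true, if_true, mul_zero, add_zero]
      rw [Finset.sum_congr rfl (fun c hc => show D₀ * (g r c * w t c) = u c *
        (if c = i ∨ c = j ∨ c = z' then 0 else D₀ * g r c) from by
          simp only [Finset.mem_erase] at hc
          by_cases hcz : c = z'
          · simp [w, hcz]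
          · simp [w, u, hcz, hc.1, hc.2.1]; ring)]
      simp only [w, u, if_neg hiz, if_neg hjz, if_neg hij.symm, if_true]
      field_simp
      ring
    refine good ((hg.mul hin).mul hgi) hm' p k l (Ne.symm hlk) ?_ ?_ <;>
      rw [col] <;> refine mul_left_cancel₀ hdet ?_ <;>
      rw [lin, mul_zero, dotProduct, dotProduct, Finset.mul_sum, Finset.mul_sum,
        ← Finset.sum_sub_distrib, ← Finset.sum_sub_distrib] <;>
      refine Finset.sum_eq_zero fun c _ => ?_ <;>
      simp only [hA₀, hB₀, hD₀] <;> split_ifs <;> ring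
  obtain ⟨d₁, hd₁0, hd₁, hm₁, hx₁⟩ := elem t₁ (by simp)
  obtain ⟨d₂, hd₂0, hd₂, hm₂, hx₂⟩ := elem t₂ (by simp)
  set D : V := fun x => d₁ (σ.symm x) * (d₂ (σ.symm x))⁻¹ with hD
  have eD : monM σ d₁ = Matrix.diagonal D * monM σ d₂ := by
    rw [← monM_one, monM_mul, one_mul]
    congr 1
    funext x
    simp [hD, σ.symm_apply_apply, mul_assoc, inv_mul_cancel₀ (hd₂0 x)]
  have hDm : Mono (g * Matrix.diagonal D * gi) := by
    obtain ⟨Mi, hMi, hM1, hM2⟩ := hm₂.inverse
    have e1 : g * monM σ d₂ * gi * (g * Mi * gi) = 1 := by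
      rw [show g * monM σ d₂ * gi * (g * Mi * gi) = g * monM σ d₂ * (gi * g) * Mi * gi by
        simp only [mul_assoc], h2, mul_one, mul_assoc g, hM1, mul_one, h1]
    have := hx₁.mul (mono_inverse hx₂ e1)
    rwa [eD, show g * (Matrix.diagonal D * monM σ d₂) * gi * (g * Mi * gi) =
      g * Matrix.diagonal D * (monM σ d₂ * (gi * g) * Mi) * gi by simp only [mul_assoc], h2, mul_one,
      hM1, mul_one] at this
  obtain ⟨M, hM, hMs⟩ := supp_le h1 h2 (D := D) (T := {i, j, c₀, z'})
    (fun x => mul_ne_zero (hd₁0 _) (inv_ne_zero (hd₂0 _))) (fun x hx => by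
      simp only [Finset.mem_insert, Finset.mem_singleton, not_or] at hx
      have hx0 : σ.symm x ≠ z₀ := fun e => hx.2.2.2 (by
        rw [← σ.apply_symm_apply x, e, hσ, Equiv.swap_apply_left])
      have h0 := hd₂0 (σ.symm x)
      rw [hd₂ _ hx0, σ.apply_symm_apply] at h0
      show d₁ (σ.symm x) * (d₂ (σ.symm x))⁻¹ = 1
      rw [hd₁ _ hx0, hd₂ _ hx0, σ.apply_symm_apply,
        show w t₁ x = w t₂ x by simp [w, hx.1, hx.2.1, hx.2.2.1, hx.2.2.2]]
      exact mul_inv_cancel₀ h0) hDm
  have : ({i, j, c₀, z'} : Finset (Fin n)).card ≤ 4 := Finset.card_le_four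
  obtain ⟨r, hr⟩ := exists_fresh M (by omega)
  have hdc₀ : D c₀ ≠ 1 := fun e => ht ?_
  · have hDp : ∏ x, D x = 1 := by
      have e1 := hm₁.det
      have e2 := hm₂.det
      rw [det_monM] at e1 e2
      have e3 : ∏ x, D x = (∏ x, d₁ x) * (∏ x, d₂ x)⁻¹ := by
        rw [← Equiv.prod_comp σ, ← Finset.prod_inv_distrib, ← Finset.prod_mul_distrib]
        simp [hD]
      rw [e3, mul_left_cancel₀ (left_ne_zero_of_mul (hsg.trans_ne one_ne_zero)) (e1.trans e2.symm)]
      exact mul_inv_cancel₀ (Finset.prod_ne_zero_iff.2 fun x _ => hd₂0 x)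
    obtain ⟨c', hc', hdc'⟩ : ∃ c', c' ≠ c₀ ∧ D c' ≠ 1 := by
      by_contra hno
      push Not at hno
      exact hdc₀ (by rw [← hDp, Fintype.prod_eq_single c₀ hno])
    exact row_zero_le hq hN (by omega) (by assumption) hg hm (Ne.symm hc') (hMs c₀ hdc₀ r hr) (hMs c' hdc' r hr)
  have hx0 : σ.symm c₀ ≠ z₀ := fun e' => hc₀'.2.2 (by
    rw [← σ.apply_symm_apply c₀, e', hσ, Equiv.swap_apply_left])
  have h0 := hd₂0 (σ.symm c₀)
  have hR0 := hR _ hx0
  simp only [hD] at e
  rw [hd₁ _ hx0, hd₂ _ hx0, σ.apply_symm_apply] at e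
  rw [hd₂ _ hx0, σ.apply_symm_apply] at h0
  have e2 := mul_right_cancel₀ (inv_ne_zero hR0) ((mul_inv_eq_one₀ h0).1 e)
  simpa [w, hc₀'.1, hc₀'.2.1, hc₀'.2.2] using e2

end CfsgLib.MaxSub.Monomial
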