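/-
The decomposition stabilisers of `SL_9`.
-/
import Cfsg.Agent.Lib.MaxSub.SLLists
import Cfsg.Agent.Lib.MaxSub.SLNine.Lines

set_option autoImplicit false

namespace CfsgLib.MaxSub.DecompSL

open Cfsg.Geo Matrix
open CfsgLib.SLCentre CfsgLib.PSLn

variable {F : Type*} [Field F] [Fintype F] {t m : ℕ} {D : Fin t → Submodule F (Fin 9 → F)}

theorem toGL_mem_nine {n : ℕ} (y : Matrix.SpecialLinearGroup (Fin n) F) :
    (Matrix.SpecialLinearGroup.toGL y : GL (Fin n) F) ∈ specialLinear (Fin n) F := Units.ext y.2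

/-- The stabiliser of a decomposition is maximal in `SL_9`. -/
theorem sl_decomposition_maximal_nine (hD : IsMDecomposition m D)
    (h1 : ¬ (m = 1 ∧ Fintype.card F ≤ 4)) (h2 : ¬ (m = 2 ∧ Fintype.card F = 2)) :
    IsMaximalIn (specialLinear (Fin 9) F) (decompositionStabilizer D ⊓ specialLinear (Fin 9) F) := by
  refine ⟨lt_of_le_of_ne inf_le_right fun e =>
    CfsgLib.Aschbacher.not_le_decompositionStabilizer' hD (e ▸ inf_le_left), fun M hM hMG => ?_⟩
  by_cases hle : M ≤ decompositionStabilizer D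
  · exact Or.inl (le_antisymm (le_inf hle hMG) hM)
  obtain ⟨g, hg, hgD⟩ := SetLike.not_le_iff_exists.1 hle
  obtain ⟨gs, hgs, hgs'⟩ := exists_sl_of hMG hg
  have eg : (Matrix.SpecialLinearGroup.toGL gs : GL (Fin 9) F) = g := Units.ext hgs'
  refine Or.inr (le_antisymm hMG (specialLinear_le_of_top ?_))
  have hK : ∀ y : Matrix.SpecialLinearGroup (Fin 9) F,
      (Matrix.SpecialLinearGroup.toGL y : GL (Fin 9) F) ∈ decompositionStabilizer D →
      y ∈ M.comap Matrix.SpecialLinearGroup.toGL := fun y hy => hM (Subgroup.mem_inf.2 ⟨hy, toGL_mem_nine y⟩)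
  have htn : t * m = 9 := by
    have := CfsgLib.Aschbacher.mDecomposition_mul_eq hD
    rwa [Fintype.card_fin] at this
  rcases Nat.lt_or_ge m 2 with hm | hm
  · obtain rfl : m = 1 := by have := hD.pos; omega
    obtain rfl : t = 9 := by omega
    exact top_of_lines_of hD (fun L A hL hA hA' => Monomial.top_of_not_mono_nine (by omega) hL le_rfl hA hA')
      hK hgs (eg.symm ▸ hgD)
  · obtain ⟨i, x, hx, hgx⟩ := Decomp.exists_moved hD hgD
    refine top_of_blocks hD (by norm_num) hm (fun e => Or.inl ⟨?_, ?_⟩) hK hgs hx (hgs'.symm ▸ hgx)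
    · have := Fintype.one_lt_card (α := F)
      omega
    · subst e; omega

end CfsgLib.MaxSub.DecompSL
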