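/-
The normaliser of `3^(1+4)` is maximal in `SL(9, p)`.
-/
import Cfsg.Agent.Lib.MaxSub.SLNine.Frame

set_option autoImplicit false
set_option maxHeartbeats 800000
set_option linter.unusedSectionVars false
set_option linter.style.haveILetI false

namespace CfsgLib.MaxSub.SLNine

open Matrix CfsgLib.MaxSub.SLThree.Hess
open CfsgLib.MaxSub.TensorPow
open CfsgLib.Aschbacher (permGL permMat frU frU_val frAlg_apply)
open scoped commutatorElement

universe u

variable {F : Type u} [Field F] {ω : F}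

local notation "G3" => GL (Fin 3) F
local notation "GT" => GL (Fin 2 → Fin 3) F
local notation "Mn" => Matrix (Fin 3) (Fin 3) F
local notation "MT" => Matrix (Fin 2 → Fin 3) (Fin 2 → Fin 3) F
local notation "SL" => Matrix.SpecialLinearGroup (Fin 3) F
local notation "P3" => Matrix.ProjectiveSpecialLinearGroup (Fin 3) F

theorem Q_conj_R1 (h : Root ω) {q T : SL} (hq : q ∈ Qs h) (hT : T ∈ R1 h) : q * T * q⁻¹ ∈ R1 h := by
  refine mem_R1_of_mk h ?_
  have hw : (mk q : P3) ∈ Subgroup.closure ({pf h, pg h} : Set P3) := by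
    have hle : Qs h ≤ (Subgroup.closure ({pf h, pg h} : Set P3)).comap mk := (Subgroup.closure_le _).2 (by
      rintro _ (rfl | rfl)
      exacts [Subgroup.subset_closure (Or.inl rfl), Subgroup.subset_closure (Or.inr rfl)])
    exact hle hq
  rw [map_mul, map_mul, map_inv]
  exact (Subgroup.mem_normalizer_iff.1 (Q_norm h hw) _).1 (R1_mk h hT)

theorem Wq_tau (h : Root ω) : tau * Wq h = (Wq h * tau : GT) := by
  refine Units.ext ?_
  rw [Units.val_mul, Units.val_mul]
  show -(permMat 3 F (Equiv.swap (0 : Fin 2) 1)) * Matrix.diagonal _ = Matrix.diagonal _ * -(permMat 3 F (Equiv.swap (0 : Fin 2) 1))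
  rw [neg_mul, mul_neg]
  congr 1
  ext x y
  rw [Matrix.mul_diagonal, Matrix.diagonal_mul, permMat, Matrix.of_apply]
  by_cases e : y = x ∘ Equiv.swap (0 : Fin 2) 1
  · subst e
    rw [if_pos rfl]
    simp [mul_comm]
  · rw [if_neg e, zero_mul, mul_zero]

variable [Fintype F]

/-- The centraliser hypothesis in the linear case. -/
theorem centThree {p : ℕ} [Fact p.Prime] [CharP F p] (hF : Fintype.card F = p) (hp : 5 < p) {h : Root ω}
    {H : Subgroup GT} (N : HasN h H) (hb : NotBig h H) : CentThree h H :=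
  fun _ hz hzF hzG h3 hj => cent_order_three hF hp N hb hz hzF hzG h3 hj

/-- Normalising follows from moving the four generators into the group. -/
theorem norm_R0 (h : Root ω) {g : GT} (hX : ∀ i : Fin 2, g * fu i (tG (sX h)) * g⁻¹ ∈ R0 h)
    (hY : ∀ i : Fin 2, g * fu i (tG sY) * g⁻¹ ∈ R0 h) : g ∈ Cfsg.Geo.subgroupNormalizer (R0 h) := by
  have hle : (R0 h).map (MulAut.conj g).toMonoidHom ≤ R0 h := by
    rw [Subgroup.map_le_iff_le_comap]
    refine (Subgroup.closure_le _).2 ?_
    rintro _ (rfl | rfl | rfl | rfl)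
    exacts [hX 0, hY 0, hX 1, hY 1]
  have heq := Subgroup.eq_of_le_of_card_ge hle
    (le_of_eq (Subgroup.card_map_of_injective (K := R0 h) (MulAut.conj g).injective).symm)
  show g ∈ Subgroup.normalizer (R0 h : Set GT)
  refine Subgroup.mem_normalizer_iff.2 fun z => ⟨fun hz => hle ⟨z, hz, rfl⟩, fun hz => ?_⟩
  rw [← heq] at hz
  obtain ⟨w, hw, e⟩ := hz
  have : w = z := (MulAut.conj g).injective (by simpa using e)
  exact this ▸ hw

theorem pieces (h : Root ω) :
    fu 0 (tG (sX h)) ∈ Cfsg.Geo.subgroupNormalizer (R0 h) ∧ fu 0 (tG sY) ∈ Cfsg.Geo.subgroupNormalizer (R0 h) ∧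
      fu 0 (tG (sF h)) ∈ Cfsg.Geo.subgroupNormalizer (R0 h) ∧ fu 0 (tG (sG h)) ∈ Cfsg.Geo.subgroupNormalizer (R0 h) ∧
      (tau : GT) ∈ Cfsg.Geo.subgroupNormalizer (R0 h) ∧ Wq h ∈ Cfsg.Geo.subgroupNormalizer (R0 h) := by
  have self : ∀ g ∈ R0 h, g ∈ Cfsg.Geo.subgroupNormalizer (R0 h) := fun g hg => Subgroup.le_normalizer hg
  have quat : ∀ q ∈ Qs h, fu 0 (tG q) ∈ Cfsg.Geo.subgroupNormalizer (R0 h) := by
    intro q hq
    have key : ∀ a b : SL, a ∈ R1 h → b ∈ R1 h → fu 0 (tG q) * q2 (a, b) * (fu 0 (tG q))⁻¹ ∈ R0 h := fun a b ha hb => by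
      rw [← q2_left, ← map_inv, ← map_mul, ← map_mul, Prod.inv_mk, Prod.mk_mul_mk, Prod.mk_mul_mk, one_mul, inv_one,
        mul_one]
      exact q2_mem_R0 h (Q_conj_R1 h hq ha) hb
    refine norm_R0 h (fun i => ?_) (fun i => ?_)
    · fin_cases i
      · show fu 0 (tG q) * fu 0 _ * _ ∈ _
        rw [← q2_left (sX h)]; exact key _ _ (sX_mem h) (one_mem _)
      · show fu 0 (tG q) * fu 1 _ * _ ∈ _
        rw [← q2_right (sX h)]; exact key _ _ (one_mem _) (sX_mem h)
    · fin_cases i
      · show fu 0 (tG q) * fu 0 _ * _ ∈ _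
        rw [← q2_left sY]; exact key _ _ (sY_mem h) (one_mem _)
      · show fu 0 (tG q) * fu 1 _ * _ ∈ _
        rw [← q2_right sY]; exact key _ _ (one_mem _) (sY_mem h)
  have gen : ∀ i : Fin 2, ∀ T ∈ R1 h, fu i (tG T) ∈ R0 h := fun i T hT => by
    fin_cases i
    · show fu 0 (tG T) ∈ _
      rw [← q2_left]; exact q2_mem_R0 h hT (one_mem _)
    · show fu 1 (tG T) ∈ _
      rw [← q2_right]; exact q2_mem_R0 h (one_mem _) hT
  refine ⟨self _ (gen 0 _ (sX_mem h)), self _ (gen 0 _ (sY_mem h)), quat _ (sF_mem h), quat _ (sG_mem h), ?_, ?_⟩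
  · refine norm_R0 h (fun i => ?_) (fun i => ?_) <;> rw [tau_conj]
    · exact gen _ _ (sX_mem h)
    · exact gen _ _ (sY_mem h)
  · refine norm_R0 h (fun i => ?_) (fun i => ?_)
    · rw [Wq_X, mul_inv_cancel_right]; exact gen i _ (sX_mem h)
    · have h0 : Wq h * fu 0 (tG sY) * (Wq h)⁻¹ = (fu 0 (tG sY) * fu 1 (tG (sX h)) : GT) := by
        rw [Wq_Y, mul_inv_cancel_right]
      fin_cases i
      · show Wq h * fu 0 (tG sY) * (Wq h)⁻¹ ∈ R0 h
        rw [h0]
        exact mul_mem (gen 0 _ (sY_mem h)) (gen 1 _ (sX_mem h))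
      · show Wq h * fu 1 (tG sY) * (Wq h)⁻¹ ∈ R0 h
        have e : Wq h * fu 1 (tG sY) * (Wq h)⁻¹ = (tau * (fu 0 (tG sY) * fu 1 (tG (sX h))) * tau⁻¹ : GT) := by
          rw [← h0, ← tau_zero, show tau * (Wq h * fu 0 (tG sY) * (Wq h)⁻¹) * tau⁻¹ =
            (tau * Wq h) * fu 0 (tG sY) * (tau * Wq h)⁻¹ by group, Wq_tau]
          group
        rw [e, ← _root_.conj_mul, tau_zero, tau_one]
        exact mul_mem (gen 1 _ (sY_mem h)) (gen 0 _ (sX_mem h))

open Cfsg.Geo in
/-- The normalisers of the class-six groups in degree nine are maximal. -/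
theorem sl_symplectic_maximal_nine {p : ℕ} (hp : p.Prime) (hF : Fintype.card F = p) (hp3 : p % 3 = 1)
    {R : Subgroup (GL (Fin 9) F)} (hR : IsLinearSymplecticTypeData 3 R) :
    IsMaximalIn (specialLinear (Fin 9) F) (subgroupNormalizer R ⊓ specialLinear (Fin 9) F) := by
  classical
  haveI : Fact p.Prime := ⟨hp⟩
  haveI hchar : CharP F p := by
    obtain ⟨r, hr⟩ := CharP.exists F
    obtain ⟨n, hrp, hn⟩ := FiniteField.card F r
    have : r = p := (Nat.prime_dvd_prime_iff_eq hrp hp).1 (by rw [← hF, hn]; exact dvd_pow_self r n.pos.ne')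
    exact this ▸ hr
  have hp5 : 5 < p := by
    have := hp.two_le
    rcases (show p = 4 ∨ 5 < p by omega) with e | e
    · rw [e] at hp; norm_num at hp
    · exact e
  have h3 : (3 : F) ≠ 0 := fun e => by
    have := Nat.le_of_dvd (by norm_num) ((CharP.cast_eq_zero_iff F p 3).1 (by exact_mod_cast e))
    omega
  have h2 : (2 : F) ≠ 0 := fun e => by
    have := Nat.le_of_dvd (by norm_num) ((CharP.cast_eq_zero_iff F p 2).1 (by exact_mod_cast e))
    omega
  obtain ⟨ω, h, e, B, rfl⟩ := exists_frame h3 (Fintype.card_fin 9) (sympl_of_data hR)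
  set φ := frU e B with hφ
  have hdet : ∀ g : GT, (φ g : GL (Fin 9) F).val.det = g.val.det := fun g => by
    rw [hφ, frU_val, frAlg_apply, Matrix.det_units_conj, Matrix.det_submatrix_equiv_self]
  have hSL : ∀ g : GT, φ g ∈ specialLinear (Fin 9) F ↔ g.val.det = 1 := fun g => by
    unfold specialLinear
    rw [MonoidHom.mem_ker, Units.ext_iff, Matrix.GeneralLinearGroup.val_det_apply, Units.val_one, hdet g]
  have hN : ∀ g : GT, φ g ∈ subgroupNormalizer ((R0 h).map φ.toMonoidHom) ↔ g ∈ subgroupNormalizer (R0 h) := fun g => by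
    show φ g ∈ Subgroup.normalizer (((R0 h).map φ.toMonoidHom : Subgroup (GL (Fin 9) F)) : Set (GL (Fin 9) F)) ↔
      g ∈ Subgroup.normalizer (R0 h : Set GT)
    rw [Subgroup.mem_normalizer_iff, Subgroup.mem_normalizer_iff]
    constructor
    · intro hh z
      have := hh (φ z)
      rw [← map_inv, ← map_mul, ← map_mul] at this
      exact ((Subgroup.mem_map_iff_mem φ.injective).symm.trans this).trans (Subgroup.mem_map_iff_mem φ.injective)
    · intro hh z
      obtain ⟨z, rfl⟩ := φ.surjective z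
      rw [← map_inv, ← map_mul, ← map_mul]
      exact ((Subgroup.mem_map_iff_mem φ.injective).trans (hh z)).trans (Subgroup.mem_map_iff_mem φ.injective).symm
  obtain ⟨pX, pY, pf', pg', pt', pw⟩ := pieces h
  refine ⟨lt_of_le_of_ne inf_le_right fun he => ?_, fun M hM hMS => ?_⟩
  · obtain ⟨S, hS⟩ := exists_not_nz h
    have hm : fu (0 : Fin 2) (tG S) ∈ subgroupNormalizer (R0 h) := by
      have h1 : φ (fu 0 (tG S)) ∈ subgroupNormalizer ((R0 h).map φ.toMonoidHom) ⊓ specialLinear (Fin 9) F := by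
        rw [he]; exact (hSL _).2 (fu_tG_det 0 S)
      exact (hN _).1 h1.1
    refine hS ⟨?_, ?_⟩
    all_goals
      rw [pconj_tG]
    · have h1 := (Subgroup.mem_normalizer_iff.1 hm (fu 0 (tG (sX h)))).1 (Subgroup.subset_closure (by simp))
      obtain ⟨T, hT, T', -, he'⟩ := R0_form h h1
      rw [← q2_left, ← q2_left, ← map_inv, ← map_mul, ← map_mul, Prod.inv_mk, Prod.mk_mul_mk, Prod.mk_mul_mk, one_mul,
        inv_one, mul_one] at he'
      have h2 : (fa (0 : Fin 2) (T⁻¹ * (S * sX h * S⁻¹)).1 * fa 1 (T'⁻¹ * 1).1 : MT) = (1 : F) • 1 := by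
        rw [one_smul, ← q2_val, ← Prod.mk_mul_mk, map_mul, he', ← map_mul, Prod.mk_mul_mk, inv_mul_cancel,
          inv_mul_cancel]
        exact congrArg Units.val (map_one q2)
      obtain ⟨⟨a, ha⟩, -⟩ := scalar_of_kron one_ne_zero h2
      have h4 : (mk (T⁻¹ * (S * sX h * S⁻¹)) : P3) = 1 := mk_eq_one.2 ⟨a, by
        have := (T⁻¹ * (S * sX h * S⁻¹)).2
        rwa [ha, Matrix.det_smul, Matrix.det_one, mul_one, Fintype.card_fin] at this, ha⟩
      rw [map_mul, map_inv, inv_mul_eq_one, map_mul, map_mul, map_inv] at h4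
      show mk S * px h * (mk S)⁻¹ ∈ E h
      rw [show (px h : P3) = mk (sX h) from rfl, ← h4]
      exact R1_mk h hT
    · have h1 := (Subgroup.mem_normalizer_iff.1 hm (fu 0 (tG sY))).1 (Subgroup.subset_closure (by simp))
      obtain ⟨T, hT, T', -, he'⟩ := R0_form h h1
      rw [← q2_left, ← q2_left, ← map_inv, ← map_mul, ← map_mul, Prod.inv_mk, Prod.mk_mul_mk, Prod.mk_mul_mk, one_mul,
        inv_one, mul_one] at he'
      have h2 : (fa (0 : Fin 2) (T⁻¹ * (S * sY * S⁻¹)).1 * fa 1 (T'⁻¹ * 1).1 : MT) = (1 : F) • 1 := by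
        rw [one_smul, ← q2_val, ← Prod.mk_mul_mk, map_mul, he', ← map_mul, Prod.mk_mul_mk, inv_mul_cancel,
          inv_mul_cancel]
        exact congrArg Units.val (map_one q2)
      obtain ⟨⟨a, ha⟩, -⟩ := scalar_of_kron one_ne_zero h2
      have h4 : (mk (T⁻¹ * (S * sY * S⁻¹)) : P3) = 1 := mk_eq_one.2 ⟨a, by
        have := (T⁻¹ * (S * sY * S⁻¹)).2
        rwa [ha, Matrix.det_smul, Matrix.det_one, mul_one, Fintype.card_fin] at this, ha⟩
      rw [map_mul, map_inv, inv_mul_eq_one, map_mul, map_mul, map_inv] at h4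
      show mk S * py * (mk S)⁻¹ ∈ E h
      rw [show (py : P3) = mk sY from rfl, ← h4]
      exact R1_mk h hT
  · set H := M.comap φ.toMonoidHom with hH
    have inH : ∀ g : GT, g.val.det = 1 → g ∈ subgroupNormalizer (R0 h) → g ∈ H := fun g hd hn =>
      hM ⟨(hN g).2 hn, (hSL g).2 hd⟩
    have N : HasN h H :=
      { det := fun g hg => (hSL g).1 (hMS hg)
        X := inH _ (fu_tG_det _ _) pX
        Y := inH _ (fu_tG_det _ _) pY
        f := inH _ (fu_tG_det _ _) pf'
        g := inH _ (fu_tG_det _ _) pg'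
        t := inH _ det_tau pt'
        w := inH _ (det_Wq h) pw }
    by_cases hb : NotBig h H
    · left
      refine le_antisymm (fun m hm => ⟨?_, hMS hm⟩) hM
      obtain ⟨g, rfl⟩ := φ.surjective m
      refine (hN g).2 ?_
      have hg : g ∈ H := hm
      exact norm_R0 h (fun i => normalises_R0 N (centThree hF hp5 N hb) (onlyJJ_of_two h h2) g hg _ (by fin_cases i <;> exact Subgroup.subset_closure (by simp)))
        (fun i => normalises_R0 N (centThree hF hp5 N hb) (onlyJJ_of_two h h2) g hg _ (by fin_cases i <;> exact Subgroup.subset_closure (by simp)))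
    · right
      have htrans := transvections_of_big hF hp5 N hb
      refine le_antisymm hMS fun m hm => ?_
      let T : Subgroup (Matrix.SpecialLinearGroup (Fin 9) F) :=
        (M.comap (MulAut.conj B).toMonoidHom).comap
          (Matrix.SpecialLinearGroup.toGL : Matrix.SpecialLinearGroup (Fin 9) F →* GL (Fin 9) F)
      have hT : T = ⊤ := by
        rw [eq_top_iff, ← CfsgLib.StSL.closure_transvection_eq_top (K := F) (n := 9) (by norm_num), Subgroup.closure_le]
        rintro _ ⟨i, j, hij, c, rfl⟩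
        obtain ⟨g, hg, hgv⟩ := htrans (e i) (e j) (e.injective.ne hij) c
        show MulAut.conj B (Matrix.SpecialLinearGroup.toGL _) ∈ M
        convert (show φ g ∈ M from hg) using 1
        refine congrArg (MulAut.conj B) (Units.ext ?_)
        show Matrix.transvection i j c = _
        have hs : ((Cfsg.Geo.glReindex e.symm g : GL (Fin 9) F) : Matrix (Fin 9) (Fin 9) F) = g.val.submatrix e e := by
          simp [Cfsg.Geo.glReindex]
        refine Eq.trans ?_ hs.symm
        rw [hgv]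
        ext k l
        simp [Matrix.transvection, Matrix.one_apply, Matrix.single_apply]
      have hMd : ((B⁻¹ * m * B : GL (Fin 9) F) : Matrix (Fin 9) (Fin 9) F).det = 1 := by
        have h1 : (m : Matrix (Fin 9) (Fin 9) F).det = 1 := by
          simpa using congrArg Units.val (MonoidHom.mem_ker.1 hm)
        rw [Units.val_mul, Units.val_mul, Matrix.det_units_conj', h1]
      obtain ⟨Ms, hMs⟩ : ∃ Ms : Matrix.SpecialLinearGroup (Fin 9) F,
          Ms.1 = ((B⁻¹ * m * B : GL (Fin 9) F) : Matrix (Fin 9) (Fin 9) F) := ⟨⟨_, hMd⟩, rfl⟩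
      have h1 := Subgroup.mem_comap.1 (hT ▸ Subgroup.mem_top Ms : Ms ∈ T)
      rw [Subgroup.mem_comap, show Matrix.SpecialLinearGroup.toGL Ms = B⁻¹ * m * B from Units.ext hMs] at h1
      simpa [mul_assoc] using h1

end CfsgLib.MaxSub.SLNine
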